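import Mathlib
import Cfsg.Agent.Lib.GHD.Defs2
import Cfsg.Agent.Lib.Fusion.Invariant

/-!
Vocabulary for the characterisation of `PSL_n(q)`, `PSU_n(q)` by their 2-fusion systems.
See `plans/GHF.md`.
-/

set_option autoImplicit false

namespace CfsgLib.GHF

open Subgroup Cfsg CfsgLib.W2 CfsgLib.Tech CfsgLib.PComp CfsgLib.Abel2 CfsgLib.L3K CfsgLib.GHD

section Cor

variable {G Γ : Type*} [Group G] [Group Γ]

/-- first projection -/
abbrev p1 (A : Subgroup (G × Γ)) : Subgroup G := A.map (MonoidHom.fst G Γ)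

/-- second projection -/
abbrev p2 (A : Subgroup (G × Γ)) : Subgroup Γ := A.map (MonoidHom.snd G Γ)

/-- exchange of the coordinates -/
def sw (A : Subgroup (G × Γ)) : Subgroup (Γ × G) :=
  A.comap (MulEquiv.prodComm : Γ × G ≃* G × Γ).toMonoidHom

/-- `D` is the graph of an isomorphism between a Sylow 2-subgroup of `X` and one of `Y` that
identifies the fusion systems. -/
structure Cor (X : Subgroup G) (Y : Subgroup Γ) (D : Subgroup (G × Γ)) : Prop where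
  syl1 : IsSylowIn 2 (p1 D) X
  syl2 : IsSylowIn 2 (p2 D) Y
  inj1 : ∀ x, (x, (1 : Γ)) ∈ D → x = 1
  inj2 : ∀ y, ((1 : G), y) ∈ D → y = 1
  tr1 : ∀ U ≤ D, ∀ g ∈ X, cj g (p1 U) ≤ p1 D → ∃ γ ∈ Y, cj (g, γ) U ≤ D
  tr2 : ∀ U ≤ D, ∀ γ ∈ Y, cj γ (p2 U) ≤ p2 D → ∃ g ∈ X, cj (g, γ) U ≤ D

/-- admissible graphs -/
def Adm (X : Subgroup G) (Y : Subgroup Γ) (D A : Subgroup (G × Γ)) : Prop :=
  ∃ g ∈ X, ∃ γ ∈ Y, cj (g, γ) A ≤ D

/-- the part of the Sylow subgroup that corresponds to `N` -/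
def pull (D : Subgroup (G × Γ)) (N : Subgroup Γ) : Subgroup G :=
  p1 (D ⊓ N.comap (MonoidHom.snd G Γ))

/-- the part of the graph over `P` -/
def ov (D : Subgroup (G × Γ)) (P : Subgroup G) : Subgroup (G × Γ) :=
  D ⊓ P.comap (MonoidHom.fst G Γ)

/-- isomorphic 2-fusion systems -/
def FEq (G Γ : Type*) [Group G] [Group Γ] : Prop :=
  ∃ D : Subgroup (G × Γ), Cor ⊤ ⊤ D

theorem mem_p1 {A : Subgroup (G × Γ)} {x : G} : x ∈ p1 A ↔ ∃ y, (x, y) ∈ A :=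
  ⟨fun ⟨p, hp, e⟩ => ⟨p.2, e ▸ hp⟩, fun ⟨y, h⟩ => ⟨(x, y), h, rfl⟩⟩

theorem mem_p2 {A : Subgroup (G × Γ)} {y : Γ} : y ∈ p2 A ↔ ∃ x, (x, y) ∈ A :=
  ⟨fun ⟨p, hp, e⟩ => ⟨p.1, e ▸ hp⟩, fun ⟨x, h⟩ => ⟨(x, y), h, rfl⟩⟩

theorem mem_sw {A : Subgroup (G × Γ)} {x : G} {y : Γ} : (y, x) ∈ sw A ↔ (x, y) ∈ A := Iff.rfl

theorem mem_pull {D : Subgroup (G × Γ)} {N : Subgroup Γ} {x : G} :
    x ∈ pull D N ↔ ∃ y ∈ N, (x, y) ∈ D :=
  mem_p1.trans ⟨fun ⟨y, h⟩ => ⟨y, h.2, h.1⟩, fun ⟨y, h1, h2⟩ => ⟨y, h2, h1⟩⟩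

theorem mem_ov {D : Subgroup (G × Γ)} {P : Subgroup G} {x : G} {y : Γ} :
    (x, y) ∈ ov D P ↔ (x, y) ∈ D ∧ x ∈ P := Iff.rfl

end Cor

section Mod

variable {Γ : Type*} [Group Γ] {ι : Type} [Fintype ι] [DecidableEq ι]

/-- `{i, j}` is a block of `F` -/
structure B2 (ζ : (ι → ZMod 2) → Γ) (F : Subgroup Γ) (i j : ι) : Prop where
  ne : i ≠ j
  le : F ≤ F2 ζ i j
  all : ∀ k, F ≤ F2 ζ i k → k = i ∨ k = j

/-- all blocks of `F` have at most two points -/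
def Small (ζ : (ι → ZMod 2) → Γ) (F : Subgroup Γ) : Prop :=
  ∀ i j k, D3 i j k → ¬ F ≤ F3 ζ i j k

/-- `C(F)` centralises `zᵢⱼ` whenever `i`, `j` are in one block -/
def CZ (ζ : (ι → ZMod 2) → Γ) (F : Subgroup Γ) : Prop :=
  ∀ i j, i ≠ j → F ≤ F2 ζ i j → CS F ≤ Cx (zz ζ i j)

/-- The facts about `PSL_n(q)` that are transferred: `L i j` is `SL₂`, `N i j k` is `SL₃` on the
named coordinates, `W` is the Sylow 2-subgroup of `SL₃`. -/
structure Mod (ζ : (ι → ZMod 2) → Γ) (L : ι → ι → Subgroup Γ) (N : ι → ι → ι → Subgroup Γ)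
    (W : Type*) [Group W] : Prop extends Lab ζ where
  perm : ∀ g ∈ NS (EE ζ), ∃ σ, Acts ζ g σ
  swp : ∀ {i j}, i ≠ j → ∃ g ∈ CS (F2 ζ i j), Acts ζ g (Equiv.swap i j)
  cl : ∀ {i j}, i ≠ j → ∀ y ∈ CS (EE ζ), IsConj (zz ζ i j) y → ∃ k l, k ≠ l ∧ y = zz ζ k l
  pair : ∀ {i j}, i ≠ j → ∀ F ≤ EE ζ, ∀ y ∈ CS F, IsConj (zz ζ i j) y →
    ∃ g ∈ CS F, g * y * g⁻¹ ∈ EE ζ
  ab : ∀ a ∈ CS (EE ζ), ∀ b ∈ CS (EE ζ), a * b = b * a
  nr : ∀ A, Hyp A (EE ζ) → (∀ i j, i ≠ j → A ≠ F2 ζ i j) → CS A ≤ CS (EE ζ)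
  N_le : ∀ {i j k}, D3 i j k → N i j k ≤ CS (F3 ζ i j k)
  N_comm : ∀ {i j k}, D3 i j k → ⁅CS (F3 ζ i j k), CS (F3 ζ i j k)⁆ ≤ N i j k
  N_res : ∀ {i j k}, D3 i j k → N i j k ≤ Fusion.opRes 2 (N i j k)
  N_z : ∀ {i j k}, D3 i j k → zz ζ i j ∈ N i j k ∧ zz ζ j k ∈ N i j k
  N_syl : ∀ {i j k}, D3 i j k → ∀ P, IsSylowIn 2 P (N i j k) → Nonempty (P ≃* W)
  L_le : ∀ {i j}, i ≠ j → L i j ≤ CS (F2 ζ i j)
  L_norm : ∀ {i j}, i ≠ j → Cx (zz ζ i j) ≤ NS (L i j)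
  L_cen : ∀ {i j}, i ≠ j → L i j ⊓ CS (L i j) ≤ zpowers (zz ζ i j)
  L_syl : ∀ {i j}, i ≠ j → ∀ Q, IsSylowIn 2 Q (L i j) → CS Q ≤ CS (L i j)
  eps : ∀ F ≤ EE ζ, ∀ {i j}, B2 ζ F i j → ∀ g ∈ CS F,
    ∃ k l, k ≠ l ∧ F ≤ F2 ζ k l ∧ g * zz ζ i j * g⁻¹ = zz ζ k l
  comm : ∀ F ≤ EE ζ, Small ζ F → CZ ζ F → (∃ i j, i ≠ j ∧ F ≤ F2 ζ i j) → ∀ x ∈ CS F, ∀ y ∈ CS F,
    (∀ i j, i ≠ j → F ≤ F2 ζ i j → x ∈ CS (L i j) ∨ y ∈ CS (L i j)) → x * y = y * x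
  fix : ∀ F ≤ EE ζ, F ≠ EE ζ →
    ((∀ i j, i ≠ j → ¬ F ≤ F2 ζ i j) ∨ ∃ i j, B2 ζ F i j ∧ zz ζ i j ∉ F) →
    ∃ e ∈ EE ζ, e ∉ F ∧ ∀ g ∈ CS F, e⁻¹ * (g * e * g⁻¹) ∈ F
  fac : ∀ F ≤ EE ζ, ∀ {i j k l}, D4 i j k l → B2 ζ F i j → B2 ζ F k l → zz ζ i j ∈ F →
    ∀ g ∈ CS F, ∃ c ∈ CS (F2 ζ k l), c * (g * zz ζ i k * g⁻¹) * c⁻¹ ∈ CS (F2 ζ i j)
  g8 : ∀ F ≤ EE ζ, ∀ {i j a b}, i ≠ j → a ≠ b → F ≤ F2 ζ i j → ∀ x ∈ EE ζ, ∀ y ∈ CS F, ∀ y' ∈ CS F,
    IsConj (zz ζ a b) y → IsConj (zz ζ a b) y' → y * y' = y' * y → x * (y * y') = y * y' * x →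
    ∃ g ∈ CS F, g * zz ζ i j * g⁻¹ ∈ Cx x ⊓ Cx (y * y')
  u3 : ∀ F ≤ EE ζ, ∀ {i j m a b}, i ≠ j → a ≠ b → F ≤ F2 ζ i j → ¬ F ≤ F2 ζ i m → ∀ y ∈ CS F,
    IsConj (zz ζ a b) y → IsPGroup 2 (zpowers (zz ζ i m * y)) →
    ∃ g ∈ CS F, g * zz ζ i j * g⁻¹ ∈ Cx (zz ζ i m) ⊓ Cx y
  split : ∀ F ≤ EE ζ, ∀ {i j k m m'}, D3 i j k → F ≤ F3 ζ i j k → B2 ζ F m m' → zz ζ m m' ∈ F →
    ∀ g ∈ CS F, IsPGroup 2 (zpowers (zz ζ i m * (g * zz ζ i m * g⁻¹))) →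
    ∃ t ∈ L m m', (∃ g' ∈ CS F, g * zz ζ i m * g⁻¹ * t = g' * zz ζ i m * g'⁻¹) ∧
      IsPGroup 2 (F ⊔ closure {zz ζ i m, g * zz ζ i m * g⁻¹, t} : Subgroup Γ) ∧
      ∀ n : ℕ, (zz ζ i m * (g * zz ζ i m * g⁻¹ * t)) ^ n ∈ F →
        (zz ζ i m * (g * zz ζ i m * g⁻¹ * t)) ^ n = 1

/-- `H` has the fusion system of `C_Γ(F₀)`, with `F` central in `H` corresponding to `F₀`. -/
structure Loc {H : Type*} [Group H] (η : (ι → ZMod 2) → H) (F : Subgroup H)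
    (ζ : (ι → ZMod 2) → Γ) (F₀ : Subgroup Γ) (D : Subgroup (H × Γ)) : Prop where
  cor : Cor ⊤ (CS F₀) D
  lab : Lab η
  gr : ∀ v, Ev v → (η v, ζ v) ∈ D
  le : F ≤ EE η
  le₀ : F₀ ≤ EE ζ
  mem : ∀ v, Ev v → (η v ∈ F ↔ ζ v ∈ F₀)
  cen : F ≤ center H

/-- the normal closure of the Sylow 2-subgroup of a fundamental subgroup -/
def JJ {H : Type*} [Group H] (D : Subgroup (H × Γ)) (L : Subgroup Γ) : Subgroup H :=
  normalClosure (pull D L : Set H)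

/-- `M` contains the centralisers of the elements of `E ∖ F` and the normaliser of `E`. -/
structure Up {H : Type*} [Group H] (η : (ι → ZMod 2) → H) (F M : Subgroup H) : Prop where
  cent : ∀ e ∈ EE η, e ∉ F → Cx e ≤ M
  norm : NS (EE η) ≤ M

/-- a perfect subgroup of `C(Fᵢⱼₖ)` generated by conjugates of `zᵢⱼ` -/
def Perf {H : Type*} [Group H] (η : (ι → ZMod 2) → H) (i j k : ι) : Prop :=
  ∃ P ≤ CS (F3 η i j k), ⁅P, P⁆ = P ∧ zz η i j ∈ P ∧ P ≤ normalClosure {zz η i j}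

end Mod

section Mat

open Matrix

variable {ι : Type} [Fintype ι] [DecidableEq ι] (F : Type*) [Field F]

/-- `diag((-1)^v)` -/
def sgn (v : ι → ZMod 2) : Matrix ι ι F := diagonal fun i => if v i = 0 then 1 else -1

open scoped _root_.Classical in
/-- `diag((-1)^v)` in `SL` (for even `v`) -/
noncomputable def dz (v : ι → ZMod 2) : SpecialLinearGroup ι F :=
  if h : (sgn F v).det = 1 then ⟨sgn F v, h⟩ else 1

/-- `SL → PSL` -/
abbrev mkP : SpecialLinearGroup ι F →* ProjectiveSpecialLinearGroup ι F :=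
  QuotientGroup.mk' (center (SpecialLinearGroup ι F))

/-- the labelling of the diagonal group of `PSL` -/
noncomputable def ζP (v : ι → ZMod 2) : ProjectiveSpecialLinearGroup ι F := mkP F (dz F v)

/-- matrices that are the identity outside the coordinates `s` -/
def Sup (s : Set ι) : Subgroup (SpecialLinearGroup ι F) where
  carrier := {g | ∀ a b, a ∉ s ∨ b ∉ s → (g : Matrix ι ι F) a b = (1 : Matrix ι ι F) a b}
  one_mem' _ _ _ := rfl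
  mul_mem' {g h} hg hh a b hab := by
    change ((g : Matrix ι ι F) * (h : Matrix ι ι F)) a b = _
    rw [mul_apply]
    rcases hab with e | e
    · simp only [hg a _ (.inl e), one_apply, ite_mul, one_mul, zero_mul, Finset.sum_ite_eq,
        Finset.mem_univ, if_true, hh a b (.inl e)]
    · simp only [hh _ b (.inr e), one_apply, mul_ite, mul_one, mul_zero, Finset.sum_ite_eq',
        Finset.mem_univ, if_true, hg a b (.inr e)]
  inv_mem' {g} hg a b hab := by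
    rcases hab with e | e
    · have h1 : ((g : Matrix ι ι F) * ((g⁻¹ : SpecialLinearGroup ι F) : Matrix ι ι F)) a b =
          (1 : Matrix ι ι F) a b := congrFun (congrFun (congrArg Subtype.val (mul_inv_cancel g)) a) b
      rw [mul_apply] at h1
      simpa only [hg a _ (.inl e), one_apply, ite_mul, one_mul, zero_mul, Finset.sum_ite_eq,
        Finset.mem_univ, if_true] using h1
    · have h1 : (((g⁻¹ : SpecialLinearGroup ι F) : Matrix ι ι F) * (g : Matrix ι ι F)) a b =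
          (1 : Matrix ι ι F) a b := congrFun (congrFun (congrArg Subtype.val (inv_mul_cancel g)) a) b
      rw [mul_apply] at h1
      simpa only [hg _ b (.inr e), one_apply, mul_ite, mul_one, mul_zero, Finset.sum_ite_eq',
        Finset.mem_univ, if_true] using h1

/-- `SL₂` on the coordinates `i`, `j` -/
def LP (i j : ι) : Subgroup (ProjectiveSpecialLinearGroup ι F) := (Sup F {i, j}).map (mkP F)

/-- `SL₃` on the coordinates `i`, `j`, `k` -/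
def NP (i j k : ι) : Subgroup (ProjectiveSpecialLinearGroup ι F) := (Sup F {i, j, k}).map (mkP F)

/-- the block diagonal matrices for the blocks of `A` -/
def Bk (A : Subgroup (ProjectiveSpecialLinearGroup ι F)) : Subgroup (SpecialLinearGroup ι F) :=
  centralizer {g | ∃ v, Ev v ∧ ζP F v ∈ A ∧ dz F v = g}

/-- the conjugates of `diag(-1, -1, 1, …, 1)` -/
def Wt2 (y : SpecialLinearGroup ι F) : Prop :=
  ∃ (a b : ι) (g : SpecialLinearGroup ι F), a ≠ b ∧ y = g * dz F (ee a b) * g⁻¹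

end Mat

section Mono

open Matrix

variable {ι : Type} [Fintype ι] [DecidableEq ι]

/-- permutation of coordinates -/
def pact (ι : Type) (N : ℕ) : Equiv.Perm ι →* MulAut (ι → Multiplicative (ZMod N)) where
  toFun σ := MulEquiv.arrowCongr σ (MulEquiv.refl _)
  map_one' := rfl
  map_mul' _ _ := rfl

omit [Fintype ι] [DecidableEq ι] in
theorem pact_apply {N : ℕ} (σ : Equiv.Perm ι) (d : ι → Multiplicative (ZMod N)) (i : ι) :
    pact ι N σ d i = d (σ.symm i) := rfl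

/-- the universal monomial group -/
abbrev Mono (ι : Type) (N : ℕ) := (ι → Multiplicative (ZMod N)) ⋊[pact ι N] Equiv.Perm ι

variable {K : Type*} [Field K]

/-- the permutation matrix with `e_j ↦ e_(σ j)` -/
def pm (K : Type*) [Field K] : Equiv.Perm ι →* GL ι K :=
  (Matrix.permMatrixHom (n := ι) (R := K)).toHomUnits

/-- diagonal matrices -/
def dgm : (ι → Kˣ) →* GL ι K :=
  ((Matrix.diagonalRingHom ι K).toMonoidHom.comp
    (MonoidHom.pi fun i => (Units.coeHom K).comp (Pi.evalMonoidHom _ i))).toHomUnits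

/-- `ρ` is the monomial representation for the root of unity `ω` -/
def IsMono {N : ℕ} (ω : Kˣ) (ρ : Mono ι N →* GL ι K) : Prop :=
  ∀ u, ρ u = dgm (fun i => ω ^ (Multiplicative.toAdd (u.left i)).val) * pm K u.right

/-- a Frobenius-like involution `φ` of `GL(K)` with fixed group `A`; it acts on scalars by `τ` -/
structure Fr (A : Subgroup (GL ι K)) (φ : GL ι K →* GL ι K) (τ : Kˣ →* Kˣ) : Prop where
  mem : ∀ g, g ∈ A ↔ φ g = g
  invol : ∀ g, φ (φ g) = g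
  diag : ∀ d, φ (dgm d) = dgm fun i => τ (d i)
  perm : ∀ σ, φ (pm K σ) = pm K σ
  det : ∀ g, GeneralLinearGroup.det (φ g) = τ (GeneralLinearGroup.det g)
  h90 : ∀ c, c * φ c = 1 → ∃ d, φ d = d * c ∧ ∀ y, y * c = c * y → y * d = d * y

/-- the elements of the monomial group fixed by the twisted Frobenius -/
def UU (N : ℕ) (e : ZMod N) (π : Equiv.Perm ι) : Subgroup (Mono ι N) where
  carrier := {u | u.right * π = π * u.right ∧
    ∀ i, Multiplicative.toAdd (u.left (π i)) = e * Multiplicative.toAdd (u.left i)}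
  one_mem' := ⟨by simp, by simp⟩
  mul_mem' {a b} ha hb := ⟨by
      rw [SemidirectProduct.mul_right, mul_assoc, hb.1, ← mul_assoc, ha.1, mul_assoc], fun i => by
    have h1 : a.right.symm (π i) = π (a.right.symm i) := by
      rw [Equiv.symm_apply_eq, ← Equiv.Perm.mul_apply, ha.1]; simp
    simp [pact_apply, ha.2, h1, hb.2, mul_add]⟩
  inv_mem' {a} ha := ⟨by
      rw [SemidirectProduct.inv_right, inv_mul_eq_iff_eq_mul, ← mul_assoc, ha.1]; simp, fun i => by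
    have h1 : a.right (π i) = π (a.right i) := by
      rw [← Equiv.Perm.mul_apply, ha.1]; simp
    simp [pact_apply, Equiv.Perm.inv_def, h1, ha.2]⟩

end Mono

end CfsgLib.GHF
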