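import Mathlib
import Cfsg.Agent.Lib.GHF.Defs

/-! Package CORA of `plans/GHF.md`: admissible graphs. -/

set_option autoImplicit false
set_option linter.unusedSectionVars false

namespace CfsgLib.GHF

open Subgroup Cfsg CfsgLib.W2 CfsgLib.Tech CfsgLib.PComp CfsgLib.Abel2 CfsgLib.L3K CfsgLib.GHD

variable {G Γ : Type*} [Group G] [Group Γ] {X : Subgroup G} {Y : Subgroup Γ}
  {D A B W : Subgroup (G × Γ)} {x x' g : G} {y y' γ : Γ}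

theorem p1_sw (A : Subgroup (G × Γ)) : p1 (sw A) = p2 A :=
  Subgroup.ext fun _ => mem_p1.trans mem_p2.symm

theorem p2_sw (A : Subgroup (G × Γ)) : p2 (sw A) = p1 A :=
  Subgroup.ext fun _ => mem_p2.trans mem_p1.symm

theorem sw_sw (A : Subgroup (G × Γ)) : sw (sw A) = A := rfl

theorem sw_mono (h : A ≤ B) : sw A ≤ sw B := comap_mono h

theorem cj2_le : cj (g, γ) A ≤ B ↔ ∀ x y, (x, y) ∈ A → (g * x * g⁻¹, γ * y * γ⁻¹) ∈ B :=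
  cj_le_iff.trans ⟨fun h x y m => h (x, y) m, fun h p m => h p.1 p.2 m⟩

theorem mem_cj2 : (x, y) ∈ cj (g, γ) A ↔ (g⁻¹ * x * g, γ⁻¹ * y * γ) ∈ A := mem_cj

theorem sw_cj_le (h : cj (g, γ) A ≤ B) : cj (γ, g) (sw A) ≤ sw B :=
  cj2_le.2 fun y x m => cj2_le.1 h x y m

theorem p1_cj (g : G) (γ : Γ) (A : Subgroup (G × Γ)) : p1 (cj (g, γ) A) = cj g (p1 A) := by
  rw [p1, cj, cj, p1, map_map, map_map]; rfl

theorem p2_cj (g : G) (γ : Γ) (A : Subgroup (G × Γ)) : p2 (cj (g, γ) A) = cj γ (p2 A) := by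
  rw [p2, cj, cj, p2, map_map, map_map]; rfl

theorem sw_le_CS (h : A ≤ CS W) : sw A ≤ CS (sw W) := fun p hp => mem_centralizer_iff.2 fun w hw => by
  have := mem_centralizer_iff.1 (h (x := (p.2, p.1)) hp) (w.2, w.1) hw
  exact Prod.ext (congrArg Prod.snd this) (congrArg Prod.fst this)

theorem Cor.swap (h : Cor X Y D) : Cor Y X (sw D) where
  syl1 := p1_sw D ▸ h.syl2
  syl2 := p2_sw D ▸ h.syl1
  inj1 := h.inj2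
  inj2 := h.inj1
  tr1 U hU γ hγ e := (h.tr2 (sw U) (sw_mono hU) γ hγ (by rwa [p2_sw, ← p1_sw])).imp fun _ h => ⟨h.1, sw_cj_le h.2⟩
  tr2 U hU g hg e := (h.tr1 (sw U) (sw_mono hU) g hg (by rwa [p1_sw, ← p2_sw])).imp fun _ h => ⟨h.1, sw_cj_le h.2⟩

theorem Adm.swap (a : Adm X Y D A) : Adm Y X (sw D) (sw A) :=
  let ⟨g, hg, γ, hγ, e⟩ := a
  ⟨γ, hγ, g, hg, sw_cj_le e⟩

theorem Adm.of_le (h : A ≤ D) : Adm X Y D A :=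
  ⟨1, one_mem _, 1, one_mem _, (cj_one A).le.trans h⟩

theorem Adm.mono (a : Adm X Y D A) (h : B ≤ A) : Adm X Y D B :=
  let ⟨g, hg, γ, hγ, e⟩ := a
  ⟨g, hg, γ, hγ, (cj_mono _ h).trans e⟩

theorem Adm.conj (a : Adm X Y D A) (hg : g ∈ X) (hγ : γ ∈ Y) : Adm X Y D (cj (g, γ) A) := by
  obtain ⟨g', hg', γ', hγ', e⟩ := a
  refine ⟨g' * g⁻¹, mul_mem hg' (inv_mem hg), γ' * γ⁻¹, mul_mem hγ' (inv_mem hγ), ?_⟩
  rwa [show (g' * g⁻¹, γ' * γ⁻¹) = (g', γ') * (g, γ)⁻¹ from rfl, cj_mul, cj_inv_cj]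

theorem p1_ov {P : Subgroup G} (hP : P ≤ p1 D) : p1 (ov D P) = P :=
  le_antisymm (fun _ hx => let ⟨_, m⟩ := mem_p1.1 hx; m.2)
    fun _ hx => let ⟨y, m⟩ := mem_p1.1 (hP hx); mem_p1.2 ⟨y, m, hx⟩

namespace Cor

variable (h : Cor X Y D)
include h

theorem adm : Adm X Y D D := Adm.of_le le_rfl

theorem one2 (a : Adm X Y D A) (m : ((1 : G), y) ∈ A) : y = 1 := by
  obtain ⟨g, -, γ, -, e⟩ := a
  have := cj2_le.1 e _ _ m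
  rw [mul_one, mul_inv_cancel] at this
  simpa using h.inj2 _ this

theorem one1 (a : Adm X Y D A) (m : (x, (1 : Γ)) ∈ A) : x = 1 := h.swap.one2 a.swap m

theorem two (a : Adm X Y D A) : IsPGroup 2 A := by
  refine isPGroup_iff_mem.2 fun p m => ?_
  obtain ⟨g, hg, γ, hγ, e⟩ := id a
  obtain ⟨k, hk⟩ := isPGroup_iff_mem.1 h.syl1.pgroup _ (mem_p1.2 ⟨_, cj2_le.1 e p.1 p.2 m⟩)
  rw [conj_pow, conj_eq_one_iff] at hk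
  exact ⟨k, Prod.ext hk (h.one2 a (by rw [← hk]; exact pow_mem m _))⟩

theorem mem1 (a : Adm X Y D A) (m : (x, y) ∈ A) : x ∈ X := by
  obtain ⟨g, hg, γ, -, e⟩ := a
  have := mul_mem (mul_mem (inv_mem hg) (h.syl1.le (mem_p1.2 ⟨_, cj2_le.1 e _ _ m⟩))) hg
  simpa [mul_assoc] using this

theorem mem2 (a : Adm X Y D A) (m : (x, y) ∈ A) : y ∈ Y := h.swap.mem1 a.swap m

theorem eq1 (a : Adm X Y D A) (m : (x, y) ∈ A) (m' : (x', y) ∈ A) : x = x' :=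
  inv_mul_eq_one.1 (h.one1 a (by simpa using mul_mem (inv_mem m) m'))

theorem eq2 (a : Adm X Y D A) (m : (x, y) ∈ A) (m' : (x, y') ∈ A) : y = y' := h.swap.eq1 a.swap m m'

theorem comm_iff (a : Adm X Y D A) (m : (x, y) ∈ A) (m' : (x', y') ∈ A) :
    x * x' = x' * x ↔ y * y' = y' * y :=
  have h1 : (x * x', y * y') ∈ A := mul_mem m m'
  have h2 : (x' * x, y' * y) ∈ A := mul_mem m' m
  ⟨fun e => h.eq2 a h1 (e ▸ h2), fun e => h.eq1 a h1 (e ▸ h2)⟩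

theorem equiv (a : Adm X Y D A) :
    ∃ e : p1 A ≃* p2 A, ∀ x : p1 A, ((x : G), (e x : Γ)) ∈ A := by
  let e1 : A ≃* p1 A := MulEquiv.ofBijective ((MonoidHom.fst G Γ).subgroupMap A)
    ⟨fun p q e => by
      have e : p.1.1 = q.1.1 := congrArg Subtype.val e
      exact Subtype.ext (Prod.ext e (h.eq2 a p.2 (by rw [e]; exact q.2))), MonoidHom.subgroupMap_surjective _ _⟩
  let e2 : A ≃* p2 A := MulEquiv.ofBijective ((MonoidHom.snd G Γ).subgroupMap A)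
    ⟨fun p q e => by
      have e : p.1.2 = q.1.2 := congrArg Subtype.val e
      exact Subtype.ext (Prod.ext (h.eq1 a p.2 (by rw [e]; exact q.2)) e), MonoidHom.subgroupMap_surjective _ _⟩
  refine ⟨e1.symm.trans e2, fun x => ?_⟩
  obtain ⟨p, rfl⟩ := e1.surjective x
  rw [MulEquiv.trans_apply, e1.symm_apply_apply]
  exact p.2

theorem tra1 (a : Adm X Y D A) (b : Adm X Y D B) (hg : g ∈ X) (e : cj g (p1 A) ≤ p1 B) :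
    ∃ γ ∈ Y, cj (g, γ) A ≤ B := by
  obtain ⟨g1, hg1, γ1, hγ1, e1⟩ := a
  obtain ⟨g2, hg2, γ2, hγ2, e2⟩ := b
  obtain ⟨γ, hγ, e3⟩ := h.tr1 _ e1 (g2 * g * g1⁻¹) (mul_mem (mul_mem hg2 hg) (inv_mem hg1)) (by
    rw [p1_cj, cj_mul, cj_inv_cj, cj_mul]
    exact (cj_mono _ e).trans ((p1_cj g2 γ2 B).ge.trans (map_mono e2)))
  refine ⟨γ2⁻¹ * γ * γ1, mul_mem (mul_mem (inv_mem hγ2) hγ) hγ1, cj2_le.2 fun x y m => ?_⟩
  obtain ⟨z, hz⟩ := mem_p1.1 (cj_le_iff.1 e x (mem_p1.2 ⟨y, m⟩))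
  have h1 := cj2_le.1 e3 _ _ (cj2_le.1 le_rfl x y m)
  rw [show g2 * g * g1⁻¹ * (g1 * x * g1⁻¹) * (g2 * g * g1⁻¹)⁻¹ = g2 * (g * x * g⁻¹) * g2⁻¹ by group] at h1
  have h2 := h.eq2 h.adm h1 (cj2_le.1 e2 _ _ hz)
  rwa [show γ2⁻¹ * γ * γ1 * y * (γ2⁻¹ * γ * γ1)⁻¹ = γ2⁻¹ * (γ * (γ1 * y * γ1⁻¹) * γ⁻¹) * γ2 by group, h2,
    show γ2⁻¹ * (γ2 * z * γ2⁻¹) * γ2 = z by group]

theorem tra2 (a : Adm X Y D A) (b : Adm X Y D B) (hγ : γ ∈ Y) (e : cj γ (p2 A) ≤ p2 B) :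
    ∃ g ∈ X, cj (g, γ) A ≤ B :=
  (h.swap.tra1 a.swap b.swap hγ (by rwa [p1_sw, p1_sw])).imp fun _ h => ⟨h.1, sw_cj_le h.2⟩

theorem trw1 {U : Subgroup (G × Γ)} (a : Adm X Y D A) (b : Adm X Y D B) (hA : W ≤ A) (hB : W ≤ B) (hU : U ≤ A)
    (hg : g ∈ X) (hc : g ∈ CS (p1 W)) (e : cj g (p1 U) ≤ p1 B) : ∃ γ ∈ Y, γ ∈ CS (p2 W) ∧ cj (g, γ) U ≤ B := by
  have h1 : ∀ x ∈ p1 W, g * x * g⁻¹ = x := fun x hx => by
    rw [← mem_centralizer_iff.1 hc x hx, mul_inv_cancel_right]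
  obtain ⟨γ, hγ, e1⟩ := h.tra1 (a.mono (sup_le hA hU)) b hg (by
    rw [p1, Subgroup.map_sup, cj_sup]
    exact sup_le (cj_le_iff.2 fun x hx => (h1 x hx).symm ▸ map_mono hB hx) e)
  refine ⟨γ, hγ, mem_centralizer_iff.2 fun y hy => ?_, (cj_mono _ le_sup_right).trans e1⟩
  obtain ⟨x, m⟩ := mem_p2.1 hy
  have h2 := cj2_le.1 e1 x y (mem_sup_left m)
  rw [h1 x (mem_p1.2 ⟨y, m⟩)] at h2
  exact (mul_inv_eq_iff_eq_mul.1 (h.eq2 b h2 (hB m))).symm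

theorem trw2 {U : Subgroup (G × Γ)} (a : Adm X Y D A) (b : Adm X Y D B) (hA : W ≤ A) (hB : W ≤ B) (hU : U ≤ A)
    (hγ : γ ∈ Y) (hc : γ ∈ CS (p2 W)) (e : cj γ (p2 U) ≤ p2 B) : ∃ g ∈ X, g ∈ CS (p1 W) ∧ cj (g, γ) U ≤ B :=
  (h.swap.trw1 a.swap b.swap (sw_mono hA) (sw_mono hB) (sw_mono hU) hγ (by rwa [p1_sw])
    (by rwa [p1_sw, p1_sw])).imp fun _ h => ⟨h.1, p2_sw W ▸ h.2.1, sw_cj_le h.2.2⟩

theorem trc1 (a : Adm X Y D A) (b : Adm X Y D B) (hA : W ≤ A) (hB : W ≤ B) (hg : g ∈ X)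
    (hc : g ∈ CS (p1 W)) (m : (x, y) ∈ A) (m' : (g * x * g⁻¹, y') ∈ B) :
    ∃ γ ∈ Y, γ ∈ CS (p2 W) ∧ γ * y * γ⁻¹ = y' := by
  obtain ⟨γ, hγ, h1, e⟩ := h.trw1 a b hA hB (zpowers_le.2 m) hg hc (by
    rw [p1, MonoidHom.map_zpowers, cj_zpowers]
    exact zpowers_le.2 (mem_p1.2 ⟨_, m'⟩))
  exact ⟨γ, hγ, h1, h.eq2 b (cj2_le.1 e x y (mem_zpowers _)) m'⟩

theorem trc2 (a : Adm X Y D A) (b : Adm X Y D B) (hA : W ≤ A) (hB : W ≤ B) (hγ : γ ∈ Y)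
    (hc : γ ∈ CS (p2 W)) (m : (x, y) ∈ A) (m' : (x', γ * y * γ⁻¹) ∈ B) :
    ∃ g ∈ X, g ∈ CS (p1 W) ∧ g * x * g⁻¹ = x' :=
  p2_sw W ▸ h.swap.trc1 a.swap b.swap (sw_mono hA) (sw_mono hB) hγ (by rwa [p1_sw]) m m'

theorem conj1 (a : Adm X Y D A) (b : Adm X Y D B) (hg : g ∈ X) (m : (x, y) ∈ A)
    (m' : (g * x * g⁻¹, y') ∈ B) : ∃ γ ∈ Y, γ * y * γ⁻¹ = y' :=
  (h.trc1 a b bot_le bot_le hg (by simp [p1, CS, mem_centralizer_iff]) m m').imp fun _ h => ⟨h.1, h.2.2⟩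

theorem conj2 (a : Adm X Y D A) (b : Adm X Y D B) (hγ : γ ∈ Y) (m : (x, y) ∈ A)
    (m' : (x', γ * y * γ⁻¹) ∈ B) : ∃ g ∈ X, g * x * g⁻¹ = x' := h.swap.conj1 a.swap b.swap hγ m m'

theorem cj' (hg : g ∈ X) (hγ : γ ∈ Y) : Cor X Y (cj (g, γ) D) :=
  have a := h.adm.conj hg hγ
  { syl1 := p1_cj g γ D ▸ h.syl1.cj_of_mem hg
    syl2 := p2_cj g γ D ▸ h.syl2.cj_of_mem hγ
    inj1 _ := h.one1 a
    inj2 _ := h.one2 a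
    tr1 _ hU _ hg' := h.tra1 (a.mono hU) a hg'
    tr2 _ hU _ hγ' := h.tra2 (a.mono hU) a hγ' }

theorem exists_le (a : Adm X Y D A) :
    ∃ D', Cor X Y D' ∧ A ≤ D' ∧ ∀ B, Adm X Y D' B ↔ Adm X Y D B := by
  obtain ⟨g, hg, γ, hγ, e⟩ := a
  refine ⟨cj (g⁻¹, γ⁻¹) D, h.cj' (inv_mem hg) (inv_mem hγ), (cj_inv_cj (g, γ) A).ge.trans (cj_mono _ e), fun B => ⟨?_, ?_⟩⟩
  · rintro ⟨g', hg', γ', hγ', e'⟩
    exact ⟨g * g', mul_mem hg hg', γ * γ', mul_mem hγ hγ',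
      (cj_mul (g, γ) (g', γ') B).le.trans ((cj_mono _ e').trans (cj_cj_inv (g, γ) D).le)⟩
  · rintro ⟨g', hg', γ', hγ', e'⟩
    exact ⟨g⁻¹ * g', mul_mem (inv_mem hg) hg', γ⁻¹ * γ', mul_mem (inv_mem hγ) hγ',
      (cj_mul (g⁻¹, γ⁻¹) (g', γ') B).le.trans (cj_mono _ e')⟩

theorem p1_le (a : Adm X Y D A) : p1 A ≤ X := fun _ hx => let ⟨_, m⟩ := mem_p1.1 hx; h.mem1 a m

theorem p2_le (a : Adm X Y D A) : p2 A ≤ Y := fun _ hy => let ⟨_, m⟩ := mem_p2.1 hy; h.mem2 a m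

variable [Finite G] [Finite Γ]

theorem ext1 (a : Adm X Y D A) {P : Subgroup G} (hP : P ≤ X)
    (h2 : IsPGroup 2 (p1 A ⊔ P : Subgroup G)) : ∃ B, Adm X Y D B ∧ A ≤ B ∧ P ≤ p1 B := by
  obtain ⟨g, hg, e⟩ := h.syl1.exists_cj_le h2 (sup_le (h.p1_le a) hP)
  obtain ⟨γ, hγ, e1⟩ := h.tra1 a h.adm hg ((cj_mono _ le_sup_left).trans e)
  refine ⟨cj (g⁻¹, γ⁻¹) D, h.adm.conj (inv_mem hg) (inv_mem hγ), (cj_inv_cj (g, γ) A).ge.trans (cj_mono _ e1), ?_⟩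
  rw [p1_cj]
  exact (cj_inv_cj g P).ge.trans (cj_mono _ ((cj_mono _ le_sup_right).trans e))

theorem ext2 (a : Adm X Y D A) {P : Subgroup Γ} (hP : P ≤ Y)
    (h2 : IsPGroup 2 (p2 A ⊔ P : Subgroup Γ)) : ∃ B, Adm X Y D B ∧ A ≤ B ∧ P ≤ p2 B := by
  obtain ⟨B, b, h1, h3⟩ := h.swap.ext1 a.swap hP (by rwa [p1_sw])
  exact ⟨sw B, b.swap, sw_mono h1, p2_sw B ▸ h3⟩

theorem ext1c (a : Adm X Y D A) (hx : x ∈ X) (h2 : x * x = 1) (hc : x ∈ CS (p1 A)) :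
    ∃ B y, Adm X Y D B ∧ A ≤ B ∧ (x, y) ∈ B ∧ y ∈ CS (p2 A) := by
  obtain ⟨B, b, h1, h3⟩ := h.ext1 a (zpowers_le.2 hx) (IsPGroup.to_sup_of_normal_left' ((h.two a).map _)
    (isPGroup_zpowers_of_pow (k := 1) (by rw [pow_one, pow_two, h2]))
    (zpowers_le.2 (centralizer_le_normalizer _ hc)))
  obtain ⟨y, m⟩ := mem_p1.1 (h3 (mem_zpowers x))
  refine ⟨B, y, b, h1, m, mem_centralizer_iff.2 fun y' hy' => ?_⟩
  obtain ⟨x', m'⟩ := mem_p2.1 hy'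
  exact (h.comm_iff b (h1 m') m).1 (mem_centralizer_iff.1 hc x' (mem_p1.2 ⟨y', m'⟩))

theorem ext2c (a : Adm X Y D A) (hy : y ∈ Y) (h2 : y * y = 1) (hc : y ∈ CS (p2 A)) :
    ∃ B x, Adm X Y D B ∧ A ≤ B ∧ (x, y) ∈ B ∧ x ∈ CS (p1 A) := by
  obtain ⟨B, x, b, h1, m, h3⟩ := h.swap.ext1c a.swap hy h2 (by rwa [p1_sw])
  exact ⟨sw B, x, b.swap, sw_mono h1, m, p2_sw A ▸ h3⟩

theorem loc_syl (b : Adm X Y D B) (hW : W ≤ B) (hc : B ≤ CS W)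
    (hm : ∀ C, Adm X Y D C → B ≤ C → C ≤ CS W → C ≤ B) : IsSylowIn 2 (p1 B) (X ⊓ CS (p1 W)) := by
  refine isSylowIn_of_maximal ((h.two b).map _) (le_inf (h.p1_le b) fun x hx => mem_centralizer_iff.2 fun w hw => ?_)
    fun R hR h1 h2 => ?_
  · obtain ⟨y, m⟩ := mem_p1.1 hx
    obtain ⟨w', m'⟩ := mem_p1.1 hw
    exact congrArg Prod.fst (mem_centralizer_iff.1 (hc m) _ m')
  · obtain ⟨C, c, h3, h4⟩ := h.ext1 b (h2.trans inf_le_left) (by rwa [sup_eq_right.2 h1])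
    rw [← p1_ov h4]
    refine map_mono (hm _ (c.mono inf_le_left) (fun p m => ⟨h3 m, h1 ⟨p, m, rfl⟩⟩)
      fun p m => mem_centralizer_iff.2 fun w hw => ?_)
    have := mem_centralizer_iff.1 (h2 m.2).2 w.1 ⟨w, hw, rfl⟩
    exact Prod.ext this ((h.comm_iff c (h3 (hW hw)) m.1).1 this)

/-- localisation at a centraliser -/
theorem loc (a : Adm X Y D A) (hW : W ≤ A) (hc : A ≤ CS W) :
    ∃ D', Cor (X ⊓ CS (p1 W)) (Y ⊓ CS (p2 W)) D' ∧ A ≤ D' := by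
  obtain ⟨B, h1, ⟨b, h2⟩, hm⟩ := Finite.exists_le_maximal (p := fun B => Adm X Y D B ∧ B ≤ CS W) ⟨a, hc⟩
  have h3 := hW.trans h1
  refine ⟨B, ⟨h.loc_syl b h3 h2 fun C c h4 h5 => hm ⟨c, h5⟩ h4, ?_, fun _ => h.one1 b, fun _ => h.one2 b,
    fun U hU g hg e => (h.trw1 b b h3 h3 hU hg.1 hg.2 e).imp fun _ h => ⟨⟨h.1, h.2.1⟩, h.2.2⟩,
    fun U hU g hg e => (h.trw2 b b h3 h3 hU hg.1 hg.2 e).imp fun _ h => ⟨⟨h.1, h.2.1⟩, h.2.2⟩⟩, h1⟩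
  rw [← p1_sw, ← p1_sw]
  exact h.swap.loc_syl b.swap (sw_mono h3) (sw_le_CS h2) fun C c h4 h5 =>
    sw_mono (hm (y := sw C) ⟨c.swap, sw_le_CS h5⟩ (sw_mono h4))

end Cor

namespace Cor

variable [Finite G] [Finite Γ] (h : Cor ⊤ Y D) {N : Subgroup Γ}
include h

theorem sc (hN : Y ≤ NS N) : IsStronglyClosed (pull D N) (p1 D) := by
  refine ⟨map_mono inf_le_left, fun x hx g hg => ?_⟩
  obtain ⟨y, hy, m⟩ := mem_pull.1 hx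
  obtain ⟨y', m'⟩ := mem_p1.1 hg
  obtain ⟨γ, hγ, rfl⟩ := h.conj1 h.adm h.adm (mem_top g) m m'
  exact mem_pull.2 ⟨_, conj_mem_of_mem_normalizer (hN hγ) hy, m'⟩

theorem mem_JJ (a : Adm ⊤ Y D A) (hN : Y ≤ NS N) (m : (x, y) ∈ A) (hy : y ∈ N) : x ∈ JJ D N := by
  obtain ⟨g, -, γ, hγ, e⟩ := a
  have : g * x * g⁻¹ ∈ JJ D N := subset_normalClosure
    (mem_pull.2 ⟨_, conj_mem_of_mem_normalizer (hN hγ) hy, cj2_le.1 e x y m⟩)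
  simpa [mul_assoc, JJ] using (normalClosure_normal (s := (pull D N : Set G))).conj_mem _ this g⁻¹

/-- Z*: an element of the Sylow subgroup with central partner is central -/
theorem central (hO : pPrimeCore 2 G = ⊥) (m : (x, y) ∈ D) (hy : Y ≤ Cx y) : x ∈ center G := by
  have := le_of_weaklyClosed (M := Cx x) h.syl1 (mem_p1.2 ⟨y, m⟩) (fun k _ hk => by
    obtain ⟨y', m'⟩ := mem_p1.1 hk
    obtain ⟨γ, hγ, e⟩ := h.conj1 h.adm h.adm (mem_top k) m m'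
    rw [mem_Cx'.1 (hy hγ)] at e
    exact h.eq1 h.adm m' (e ▸ m)) (by rw [opOf_top, hO]; exact bot_le) inf_le_right
  exact mem_center_iff.2 fun g => mem_Cx.1 (this (mem_top g))

end Cor

end CfsgLib.GHF
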