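import Mathlib
import Cfsg.Agent.Lib.GHF.CorA
import Cfsg.Agent.Lib.Fusion.HypGroup

/-! Package CORB of `plans/GHF.md`: images, hyperfocal subgroups, the statement form. -/

set_option autoImplicit false
set_option linter.unusedSectionVars false

namespace CfsgLib.GHF

open Subgroup Cfsg CfsgLib.W2 CfsgLib.Tech CfsgLib.PComp CfsgLib.Abel2 CfsgLib.L3K CfsgLib.GHD

section Half

variable {G Γ : Type*} [Group G] [Group Γ] {X : Subgroup G} {Y : Subgroup Γ} {D : Subgroup (G × Γ)}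

/-- one half of `Cor` -/
structure Half (X : Subgroup G) (Y : Subgroup Γ) (D : Subgroup (G × Γ)) : Prop where
  syl : IsSylowIn 2 (p1 D) X
  inj : ∀ x, (x, (1 : Γ)) ∈ D → x = 1
  tr : ∀ U ≤ D, ∀ g ∈ X, cj g (p1 U) ≤ p1 D → ∃ γ ∈ Y, cj (g, γ) U ≤ D

theorem Cor.of_half (h : Half X Y D) (h' : Half Y X (sw D)) : Cor X Y D where
  syl1 := h.syl
  syl2 := p1_sw D ▸ h'.syl
  inj1 := h.inj
  inj2 := h'.inj
  tr1 := h.tr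
  tr2 U hU γ hγ e := (h'.tr (sw U) (sw_mono hU) γ hγ (by rwa [p1_sw, p1_sw])).imp fun _ h => ⟨h.1, sw_cj_le h.2⟩

/-- composition of graphs -/
def cmp {Δ : Type*} [Group Δ] (D : Subgroup (G × Γ)) (D' : Subgroup (Γ × Δ)) : Subgroup (G × Δ) where
  carrier := {p | ∃ y, (p.1, y) ∈ D ∧ (y, p.2) ∈ D'}
  one_mem' := ⟨1, one_mem D, one_mem D'⟩
  mul_mem' := fun ⟨y, h1, h2⟩ ⟨y', h3, h4⟩ => ⟨y * y', mul_mem h1 h3, mul_mem h2 h4⟩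
  inv_mem' := fun ⟨y, h1, h2⟩ => ⟨y⁻¹, inv_mem h1, inv_mem h2⟩

theorem half_cmp {Δ : Type*} [Group Δ] {Z : Subgroup Δ} {D' : Subgroup (Γ × Δ)} (h : Cor X Y D) (h' : Cor Y Z D')
    (e : p1 D' = p2 D) : Half X Z (cmp D D') := by
  have e1 : p1 (cmp D D') = p1 D := by
    refine Subgroup.ext fun x => mem_p1.trans (Iff.trans ?_ mem_p1.symm)
    refine ⟨fun ⟨_, y, h1, _⟩ => ⟨y, h1⟩, fun ⟨y, h1⟩ => ?_⟩
    obtain ⟨z, h2⟩ := mem_p1.1 (e.ge (mem_p2.2 ⟨x, h1⟩))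
    exact ⟨z, y, h1, h2⟩
  refine ⟨e1 ▸ h.syl1, fun x ⟨y, h1, h2⟩ => h.inj1 x (h'.inj1 y h2 ▸ h1), fun U hU g hg e2 => ?_⟩
  have e3 : p1 U ≤ p1 D := e1 ▸ map_mono hU
  obtain ⟨γ, hγ, e4⟩ := h.tr1 (ov D (p1 U)) inf_le_left g hg (by rwa [p1_ov e3, ← e1])
  obtain ⟨δ, hδ, e5⟩ := h'.tr1 (ov D' (p2 (ov D (p1 U)))) inf_le_left γ hγ (by
    rw [p1_ov (e ▸ map_mono inf_le_left), e, ← p2_cj g]
    exact map_mono e4)
  refine ⟨δ, hδ, cj2_le.2 fun x z m => ?_⟩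
  obtain ⟨y, h1, h2⟩ := hU m
  have h3 : (x, y) ∈ ov D (p1 U) := ⟨h1, mem_p1.2 ⟨z, m⟩⟩
  exact ⟨_, cj2_le.1 e4 x y h3, cj2_le.1 e5 y z ⟨h2, mem_p2.2 ⟨x, h3⟩⟩⟩

theorem half_res [Finite G] (h : Cor X Y D) :
    Half (⊤ : Subgroup X) (⊤ : Subgroup Y) (D.comap (X.subtype.prodMap Y.subtype)) := by
  have e : p1 (D.comap (X.subtype.prodMap Y.subtype)) = (p1 D).subgroupOf X :=
    Subgroup.ext fun x => mem_p1.trans ⟨fun ⟨y, m⟩ => mem_p1.2 ⟨y, m⟩,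
      fun m => let ⟨y, m⟩ := mem_p1.1 m; ⟨⟨y, h.mem2 h.adm m⟩, m⟩⟩
  refine ⟨e ▸ IsSylowIn.of_sylow_top h.syl1.toSylow, fun x m => Subtype.ext (h.inj1 x m), fun U hU g _ e1 => ?_⟩
  obtain ⟨γ, hγ, e2⟩ := h.tr1 (U.map (X.subtype.prodMap Y.subtype)) (map_le_iff_le_comap.2 hU) g g.2
    (cj_le_iff.2 (by
      rintro _ ⟨_, ⟨p, m, rfl⟩, rfl⟩
      exact (e ▸ cj_le_iff.1 e1 p.1 ⟨p, m, rfl⟩ : g * p.1 * g⁻¹ ∈ (p1 D).subgroupOf X)))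
  exact ⟨⟨γ, hγ⟩, mem_top _, cj2_le.2 fun x y m => cj2_le.1 e2 x y ⟨(x, y), m, rfl⟩⟩

theorem half_map [Finite G] (h : Cor ⊤ ⊤ D) {H Δ : Type*} [Group H] [Group Δ] (f : G →* H) (f' : Γ →* Δ)
    (hk : ∀ x y, (x, y) ∈ D → f' y = 1 → f x = 1) : Half f.range f'.range (D.map (f.prodMap f')) := by
  have e : p1 (D.map (f.prodMap f')) = (p1 D).map f := by rw [p1, p1, map_map, map_map]; rfl
  refine ⟨e ▸ ⟨map_le_range _ _, h.syl1.pgroup.map f, fun hd => h.syl1.not_dvd ?_⟩, ?_, ?_⟩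
  · rw [MonoidHom.range_eq_map, relIndex_map_map, top_sup_eq, relIndex_top_right] at hd
    exact relIndex_top_right (p1 D) ▸ hd.trans (index_dvd_of_le le_sup_left)
  · rintro _ ⟨p, m, e1⟩
    exact (congrArg Prod.fst e1).symm.trans (hk p.1 p.2 m (congrArg Prod.snd e1))
  · rintro U hU _ ⟨g, rfl⟩ e1
    set V := D ⊓ U.comap (f.prodMap f') with hV
    have h1 : cj g (p1 V) ≤ p1 D ⊔ f.ker := by
      rw [← comap_map_eq, ← e]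
      refine cj_le_iff.2 ?_
      rintro _ ⟨p, m, rfl⟩
      simpa using cj_le_iff.1 e1 (f p.1) (mem_p1.2 ⟨f' p.2, m.2⟩)
    obtain ⟨r, hr, e2⟩ := (h.syl1.of_le le_sup_left le_top).exists_cj_le
      (isPGroup_cj g ((h.two (Adm.of_le inf_le_left)).map _)) h1
    obtain ⟨s, hs, k, hk', rfl⟩ := mem_sup_of_normal_right.1 hr
    obtain ⟨γ, -, e3⟩ := h.tr1 V inf_le_left (k * g) (mem_top _) (by
      rw [cj_mul, ← cj_le_cj_iff s, ← cj_mul s, cj_eq_of_mem hs]; exact e2)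
    refine ⟨f' γ, ⟨γ, rfl⟩, cj2_le.2 fun u v m => ?_⟩
    obtain ⟨p, m', e4⟩ := hU m
    refine ⟨_, cj2_le.1 e3 p.1 p.2 ⟨m', show f.prodMap f' p ∈ U from e4 ▸ m⟩, ?_⟩
    obtain ⟨rfl, rfl⟩ := Prod.ext_iff.1 e4
    simp [MonoidHom.mem_ker.1 hk']

/-- the hyperfocal subgroup theorem inside a subgroup -/
theorem inf_opRes_le [Finite G] {p : ℕ} [Fact p.Prime] {S K : Subgroup G} (hS : IsSylowIn p S X)
    (h : ∀ P ≤ S, ∀ g ∈ X, (orderOf g).Coprime p → cj g P ≤ P → ∀ x ∈ P, x⁻¹ * (g * x * g⁻¹) ∈ K) :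
    S ⊓ Fusion.opRes p X ≤ K := by
  rintro x ⟨h1, h2⟩
  rw [← Fusion.map_pResidual_eq_opRes] at h2
  obtain ⟨x, h2, rfl⟩ := h2
  refine Fusion.hyperfocal_le_iff (K := K.subgroupOf X).2 (fun P hP α hα hc y hy => ?_)
    ((Fusion.hyperfocal_group hS.toSylow).ge ⟨h1, h2⟩)
  rw [Fusion.groupFusion_autGroup hP] at hα
  obtain ⟨g, -, hg, e⟩ := Fusion.exists_coprime_of_mem_autInducedBy hα hc
  rw [e y hy]
  refine h (P.map X.subtype) (map_le_iff_le_comap.2 hP) g g.2 (by rwa [Subgroup.orderOf_coe]) (cj_le_iff.2 ?_) y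
    ⟨y, hy, rfl⟩
  rintro _ ⟨z, hz, rfl⟩
  exact ⟨g * z * g⁻¹, by rw [← e z hz, Fusion.extAut_apply _ hz]; exact (α _).2, rfl⟩

end Half

variable {G Γ : Type*} [Group G] [Group Γ] [Finite G] [Finite Γ] {X : Subgroup G} {Y : Subgroup Γ}
  {D A : Subgroup (G × Γ)} {x : G} {y : Γ}

theorem Cor.res (h : Cor X Y D) :
    Cor (⊤ : Subgroup X) (⊤ : Subgroup Y) (D.comap (X.subtype.prodMap Y.subtype)) :=
  Cor.of_half (half_res h) (half_res h.swap)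

theorem Cor.map_top (h : Cor ⊤ ⊤ D) {H Δ : Type*} [Group H] [Group Δ] (f : G →* H) (f' : Γ →* Δ)
    (hk : ∀ x y, (x, y) ∈ D → (f x = 1 ↔ f' y = 1)) : Cor f.range f'.range (D.map (f.prodMap f')) := by
  refine Cor.of_half (half_map h f f' fun x y m => (hk x y m).2) ?_
  convert half_map h.swap f' f fun y x m => (hk x y m).1
  ext p
  exact ⟨fun ⟨q, m, e⟩ => ⟨q.swap, m, congrArg Prod.swap e⟩, fun ⟨q, m, e⟩ => ⟨q.swap, m, congrArg Prod.swap e⟩⟩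

/-- images under homomorphisms whose kernels correspond -/
theorem Cor.map (h : Cor X Y D) {H Δ : Type*} [Group H] [Group Δ] (f : X →* H) (f' : Y →* Δ)
    (hk : ∀ (x : X) (y : Y), ((x : G), (y : Γ)) ∈ D → (f x = 1 ↔ f' y = 1)) :
    ∃ D', Cor f.range f'.range D' ∧
      ∀ (x : X) (y : Y), ((x : G), (y : Γ)) ∈ D → (f x, f' y) ∈ D' :=
  ⟨_, h.res.map_top f f' hk, fun x y m => ⟨(x, y), m, rfl⟩⟩

/-- an odd element that normalises a subgroup of the Sylow subgroup has an odd partner -/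
theorem Cor.exists_odd (h : Cor X Y D) {P : Subgroup G} (hP : P ≤ p1 D) {g : G} (hg : g ∈ X)
    (ho : (orderOf g).Coprime 2) (e : cj g P ≤ P) :
    ∃ γ ∈ Y, (orderOf γ).Coprime 2 ∧ cj (g, γ) (ov D P) ≤ ov D P := by
  obtain ⟨γ, hγ, e1⟩ := h.tr1 (ov D P) inf_le_left g hg (by rw [p1_ov hP]; exact e.trans hP)
  have h1 : (g, γ) ∈ NS (ov D P) := mem_normalizer_of_cj_le
    (cj2_le.2 fun x y m => ⟨cj2_le.1 e1 x y m, cj_le_iff.1 e x m.2⟩)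
  obtain ⟨n, h2, h3⟩ := Fusion.exists_pow_coprime_and_pow_eq (p := 2) (isOfFinOrder_of_finite γ) ho
  have h4 := pow_mem h1 n
  rw [Prod.pow_mk, h3] at h4
  exact ⟨γ ^ n, pow_mem hγ n, h2, (mem_normalizer_iff_cj.1 h4).le⟩

theorem Cor.hyp1 (h : Cor X Y D) (m : (x, y) ∈ D) (hx : x ∈ Fusion.opRes 2 X) : y ∈ Fusion.opRes 2 Y := by
  suffices H : p1 D ⊓ Fusion.opRes 2 X ≤ pull D (Fusion.opRes 2 Y) by
    obtain ⟨y', h1, m'⟩ := mem_pull.1 (H ⟨mem_p1.2 ⟨y, m⟩, hx⟩)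
    exact h.eq2 h.adm m' m ▸ h1
  refine inf_opRes_le h.syl1 fun P hP g hg ho e u hu => ?_
  obtain ⟨γ, hγ, h1, e1⟩ := h.exists_odd hP hg ho e
  obtain ⟨v, m'⟩ := mem_p1.1 (hP hu)
  refine mem_pull.2 ⟨v⁻¹ * (γ * v * γ⁻¹), ?_, mul_mem (inv_mem m') (cj2_le.1 e1 u v ⟨m', hu⟩).1⟩
  have hv := h.mem2 h.adm m'
  have h2 : v⁻¹ * γ * v⁻¹⁻¹ ∈ Fusion.opRes 2 Y :=
    Fusion.mem_opRes_of (mul_mem (mul_mem (inv_mem hv) hγ) (inv_mem (inv_mem hv))) (by rwa [ord_conj])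
  simpa [mul_assoc] using mul_mem h2 (inv_mem (Fusion.mem_opRes_of hγ h1))

/-- the hyperfocal subgroups correspond -/
theorem Cor.hyp (h : Cor X Y D) (m : (x, y) ∈ D) :
    x ∈ Fusion.opRes 2 X ↔ y ∈ Fusion.opRes 2 Y := ⟨h.hyp1 m, h.swap.hyp1 m⟩

theorem Cor.trans {Δ : Type*} [Group Δ] [Finite Δ] {Z : Subgroup Δ} {D' : Subgroup (Γ × Δ)}
    (h : Cor X Y D) (h' : Cor Y Z D') : ∃ D'', Cor X Z D'' := by
  obtain ⟨γ, hγ, e⟩ := h'.syl1.exists_cj_eq h.syl2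
  have h1 := h'.cj' hγ (one_mem Z)
  rw [← p1_cj γ (1 : Δ)] at e
  refine ⟨_, Cor.of_half (half_cmp h h1 e) ?_⟩
  convert half_cmp h1.swap h.swap (by rw [p1_sw, p2_sw, e])
  ext p
  exact ⟨fun ⟨y, h1, h2⟩ => ⟨y, h2, h1⟩, fun ⟨y, h1, h2⟩ => ⟨y, h2, h1⟩⟩

theorem FEq.symm (h : FEq G Γ) : FEq Γ G := let ⟨_, h⟩ := h; ⟨_, h.swap⟩

theorem FEq.trans {Δ : Type*} [Group Δ] [Finite Δ] (h : FEq G Γ) (h' : FEq Γ Δ) : FEq G Δ :=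
  let ⟨_, h⟩ := h; let ⟨_, h'⟩ := h'; h.trans h'

theorem FEq.sylow (h : FEq G Γ) (S : Sylow 2 G) (T : Sylow 2 Γ) :
    Nonempty ((S : Subgroup G) ≃* (T : Subgroup Γ)) := by
  obtain ⟨D, h⟩ := h
  obtain ⟨e, -⟩ := h.equiv h.adm
  exact ⟨((S.equiv h.syl1.toSylowTop).trans e).trans (h.syl2.toSylowTop.equiv T)⟩

theorem feq_iff (S : Sylow 2 G) :
    (∃ ι : (S : Subgroup G) →* Γ, (groupFusionSystem (S : Subgroup G)).IsRealizedBy ι ∧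
      ∃ T : Sylow 2 Γ, (T : Subgroup Γ) = ι.range) ↔ FEq G Γ := by
  constructor
  · rintro ⟨ι, ⟨hι, hr⟩, T, hT⟩
    set D := ((S : Subgroup G).subtype.prod ι).range
    have hm : ∀ {x y}, (x, y) ∈ D ↔ ∃ hx : x ∈ (S : Subgroup G), ι ⟨x, hx⟩ = y :=
      ⟨fun ⟨s, e⟩ => by obtain ⟨rfl, rfl⟩ := Prod.ext_iff.1 e; exact ⟨s.2, rfl⟩,
        fun ⟨hx, e⟩ => ⟨⟨_, hx⟩, Prod.ext rfl e⟩⟩
    have e1 : p1 D = S := Subgroup.ext fun x => mem_p1.trans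
      ⟨fun ⟨_, m⟩ => (hm.1 m).1, fun hx => ⟨_, hm.2 ⟨hx, rfl⟩⟩⟩
    have e2 : p2 D = ι.range := Subgroup.ext fun y => mem_p2.trans
      ⟨fun ⟨_, m⟩ => ⟨_, (hm.1 m).2⟩, fun ⟨s, e⟩ => ⟨_, hm.2 ⟨s.2, e⟩⟩⟩
    refine ⟨D, e1 ▸ .of_sylow_top S, (hT.trans e2.symm) ▸ .of_sylow_top T, fun x m => ?_, fun y m => ?_,
      fun U hU g _ e => ?_, fun U hU γ _ e => ?_⟩
    · obtain ⟨hx, e⟩ := hm.1 m
      exact congrArg Subtype.val (hι (e.trans ι.map_one.symm))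
    · obtain ⟨hx, e⟩ := hm.1 m
      exact e.symm.trans ι.map_one
    · have hP : p1 U ≤ S := e1 ▸ map_mono hU
      have h1 : ∀ x : p1 U, g * x * g⁻¹ ∈ (S : Subgroup G) := fun x => e1 ▸ cj_le_iff.1 e x x.2
      obtain ⟨γ, hγ⟩ := (hr (p1 U) hP ((MulAut.conj g).toMonoidHom.comp (p1 U).subtype) h1).1
        ⟨hP, h1, g, fun _ => rfl⟩
      refine ⟨γ, mem_top _, cj2_le.2 fun x y m => ?_⟩
      obtain ⟨hx, rfl⟩ := hm.1 (hU m)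
      exact hm.2 ⟨_, hγ ⟨x, mem_p1.2 ⟨_, m⟩⟩⟩
    · have hP : p1 U ≤ S := e1 ▸ map_mono hU
      have h1 : ∀ x : p1 U, ∃ s, ι s = γ * ι ⟨x, hP x.2⟩ * γ⁻¹ := fun x => by
        obtain ⟨y, m⟩ := mem_p1.1 x.2
        obtain ⟨hx, rfl⟩ := hm.1 (hU m)
        exact e2.le (cj_le_iff.1 e _ (mem_p2.2 ⟨_, m⟩))
      choose φ hφ using h1
      let ψ : p1 U →* (S : Subgroup G) := MonoidHom.mk' φ fun a b => hι (by
        rw [map_mul, hφ, hφ, hφ, conj_mul, ← map_mul]; rfl)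
      obtain ⟨-, -, g, hg⟩ := (hr (p1 U) hP ((S : Subgroup G).subtype.comp ψ) fun x => (φ x).2).2 ⟨γ, hφ⟩
      refine ⟨g, mem_top _, cj2_le.2 fun x y m => ?_⟩
      obtain ⟨hx, rfl⟩ := hm.1 (hU m)
      rw [← hg ⟨x, mem_p1.2 ⟨_, m⟩⟩]
      exact hm.2 ⟨_, hφ _⟩
  · rintro ⟨D₀, h₀⟩
    obtain ⟨g₀, -, e₀⟩ := h₀.syl1.exists_cj_eq (.of_sylow_top S)
    rw [← p1_cj g₀ (1 : Γ)] at e₀
    have h := h₀.cj' (mem_top g₀) (mem_top 1)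
    generalize cj (g₀, (1 : Γ)) D₀ = D at e₀ h
    choose f hf using fun s : (S : Subgroup G) => mem_p1.1 (e₀.ge s.2)
    let ι : (S : Subgroup G) →* Γ := MonoidHom.mk' f fun a b => h.eq2 h.adm (hf _) (mul_mem (hf a) (hf b))
    replace hf : ∀ s : (S : Subgroup G), ((s : G), ι s) ∈ D := hf
    refine ⟨ι, ⟨fun a b e => Subtype.ext (h.eq1 h.adm (hf a) (e ▸ hf b)),
      fun P hP φ hφ => ⟨fun ⟨_, _, g, hg⟩ => ?_, fun ⟨γ, hγ⟩ => ?_⟩⟩, h.syl2.toSylowTop, Subgroup.ext fun y => ?_⟩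
    · obtain ⟨γ, -, e⟩ := h.tr1 (ov D P) inf_le_left g (mem_top _) (by
        rw [p1_ov (e₀ ▸ hP), e₀]
        exact cj_le_iff.2 fun x hx => hg ⟨x, hx⟩ ▸ hφ _)
      exact ⟨γ, fun x => h.eq2 h.adm (hf ⟨φ x, hφ x⟩) (hg x ▸ cj2_le.1 e _ _ ⟨hf ⟨x, hP x.2⟩, x.2⟩ :)⟩
    · obtain ⟨g, -, e⟩ := h.tr2 (ov D P) inf_le_left γ (mem_top _) (cj_le_iff.2 fun y hy => by
        obtain ⟨x, m, hx⟩ := mem_p2.1 hy
        rw [h.eq2 h.adm m (hf ⟨x, hP hx⟩)]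
        exact mem_p2.2 ⟨_, (hγ ⟨x, hx⟩ ▸ hf ⟨φ ⟨x, hx⟩, hφ _⟩ :)⟩)
      exact ⟨hP, hφ, g, fun x => h.eq1 h.adm (hγ x ▸ hf ⟨φ x, hφ x⟩ :) (cj2_le.1 e _ _ ⟨hf ⟨x, hP x.2⟩, x.2⟩)⟩
    · refine mem_p2.trans ⟨fun ⟨x, m⟩ => ?_, fun ⟨s, e⟩ => ⟨s, e ▸ hf s⟩⟩
      exact ⟨⟨x, e₀.le (mem_p1.2 ⟨y, m⟩)⟩, h.eq2 h.adm (hf _) m⟩

theorem FEq.of_equiv (e : G ≃* Γ) : FEq G Γ := by
  obtain ⟨S⟩ : Nonempty (Sylow 2 G) := inferInstance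
  refine (feq_iff S).1 ⟨e.toMonoidHom.comp (S : Subgroup G).subtype, ⟨e.injective.comp Subtype.val_injective,
    fun P hP φ hφ => ⟨fun ⟨_, _, g, hg⟩ => ⟨e g, fun x => by simp [hg]⟩, fun ⟨γ, hγ⟩ => ⟨hP, hφ, e.symm γ, fun x =>
      e.injective (by simpa using hγ x)⟩⟩⟩, S.mapSurjective (f := e.toMonoidHom) e.surjective, ?_⟩
  rw [MonoidHom.range_comp, range_subtype]; rfl

end CfsgLib.GHF
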