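import Mathlib
import Cfsg.Agent.Lib.Tech.SylowIn

/-! A group is generated by a Sylow 2-subgroup and its elements of odd order. -/

set_option autoImplicit false

namespace CfsgLib.GHF

open Subgroup CfsgLib.Tech

variable {G : Type*} [Group G] [Finite G]

theorem le_of_syl_odd {S L K : Subgroup G} (hS : IsSylowIn 2 S L) (h1 : S ≤ K)
    (h2 : ∀ x ∈ L, Odd (orderOf x) → x ∈ K) : L ≤ K := by
  rw [← relIndex_eq_one, Nat.eq_one_iff_not_exists_prime_dvd]
  intro p hp hd
  have := Fact.mk hp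
  rcases hp.eq_two_or_odd' with rfl | ho
  · exact hS.not_dvd (hd.trans (relIndex_dvd_of_le_left _ h1))
  · obtain ⟨P, hP⟩ := exists_isSylowIn p L
    refine hP.not_dvd (hd.trans (relIndex_dvd_of_le_left _ fun x hx => h2 x (hP.le hx) ?_))
    obtain ⟨k, hk⟩ := isPGroup_zpowers_iff.1 (isPGroup_zpowers_of_mem hP.pgroup hx)
    exact hk ▸ ho.pow

end CfsgLib.GHF
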