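import Mathlib
import Cfsg.Agent.Lib.GHF.CorA
import Cfsg.Agent.Lib.GHF.Odd
import Cfsg.Agent.Lib.CFun.Alperin

/-! Package CORC of `plans/GHF.md`: subgroups of 2-power index and of odd index. -/

set_option autoImplicit false

namespace CfsgLib.GHF

open Subgroup Cfsg CfsgLib.W2 CfsgLib.Tech CfsgLib.PComp CfsgLib.Abel2 CfsgLib.L3K CfsgLib.GHD

variable {G Γ : Type*} [Group G] [Group Γ] [Finite G] [Finite Γ] {X X₁ : Subgroup G}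
  {Y Y₁ : Subgroup Γ} {D : Subgroup (G × Γ)}

omit [Finite G] [Finite Γ] in
theorem cj_ov {T : Subgroup G} {g : G} {γ : Γ} (h : cj (g, γ) (ov D T) ≤ D) :
    cj (g, γ) (ov D T) ≤ ov D (cj g T) :=
  le_inf h (cj_le_iff.2 fun _ hp => conj_mem_cj.2 hp.2)

theorem Cor.normal_tr1 (h : Cor X Y D) (h1 : X₁ ≤ X) (h2 : X ≤ NS X₁) (k3 : ∀ y ∈ Y, Odd (orderOf y) → y ∈ Y₁)
    (hm : ∀ x y, (x, y) ∈ D → (x ∈ X₁ ↔ y ∈ Y₁)) :
    ∀ U ≤ ov D X₁, ∀ g ∈ X₁, cj g (p1 U) ≤ p1 (ov D X₁) → ∃ γ ∈ Y₁, cj (g, γ) U ≤ ov D X₁ := by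
  have hS := h.syl1.inf_of_le_normalizer h2
  rw [inf_eq_right.2 h1] at hS
  have e : p1 (ov D X₁) ≤ p1 D ⊓ X₁ := fun x hx => by
    obtain ⟨y, hy⟩ := mem_p1.1 hx
    exact ⟨mem_p1.2 ⟨y, hy.1⟩, hy.2⟩
  intro U hU g hg hc
  obtain ⟨γ, hγ, h3⟩ := CFun.alperin_induction_extremal hS
    (fun T g => ∃ γ ∈ Y₁, cj (g, γ) (ov D T) ≤ D)
    (fun T a b _ _ _ _ _ ⟨γ, hγ, h3⟩ ⟨δ, hδ, h4⟩ => ⟨δ * γ, mul_mem hδ hγ, by
      rw [← Prod.mk_mul_mk, cj_mul]; exact (cj_mono _ (cj_ov h3)).trans h4⟩)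
    (fun T U g h3 _ _ _ ⟨γ, hγ, h4⟩ => ⟨γ, hγ, (cj_mono _ (inf_le_inf_left _ (comap_mono h3))).trans h4⟩)
    (fun T hT hE _ x hx => by
      obtain ⟨⟨_, γ⟩, ⟨h3, h4⟩, rfl⟩ := le_of_syl_odd (K := p1 (NS (ov D T) ⊓ prod ⊤ Y₁)) hE
        (fun s hs => by
          obtain ⟨y, hy⟩ := mem_p1.1 hs.1.1
          refine mem_p1.2 ⟨y, mem_normalizer_of_cj_le ?_, trivial, (hm s y hy).1 hs.1.2⟩
          have := cj_ov (T := T) ((cj_mono (s, y) inf_le_left).trans (cj_eq_of_mem hy).le)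
          rwa [mem_normalizer_iff_cj.1 hs.2] at this)
        (fun g hg ho => by
          have h3 := mem_normalizer_iff_cj.1 hg.2
          have h4 := p1_ov (D := D) (hT.trans inf_le_left)
          obtain ⟨γ, hγ, h5⟩ := h.tr1 (ov D T) inf_le_left g (h1 hg.1)
            (by rw [h4, h3]; exact hT.trans inf_le_left)
          have h6 := cj_ov h5
          rw [h3] at h6
          obtain ⟨k, m, hm, e⟩ := Nat.exists_eq_two_pow_mul_odd (orderOf_pos γ).ne'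
          refine mem_of_coprime_pow (a := 2 ^ k) (b := orderOf g) (ho.coprime_two_left.pow_left k)
            (mem_p1.2 ⟨γ ^ 2 ^ k, pow_mem (mem_normalizer_of_cj_le h6) (2 ^ k), trivial,
              k3 _ (pow_mem hγ _) (hm.of_dvd_nat (orderOf_dvd_of_pow_eq_one ?_))⟩) (by simp)
          rw [← pow_mul, ← e, pow_orderOf_eq_one]) hx
      exact ⟨γ, h4.2, (mem_normalizer_iff_cj.1 h3).le.trans inf_le_left⟩)
    (p1 U) ((map_mono hU).trans e) g hg (hc.trans e)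
  refine ⟨γ, hγ, le_inf ((cj_mono _ (le_inf (hU.trans inf_le_left) (le_comap_map _ _))).trans h3)
    (cj_le_iff.2 fun p hp => mul_mem (mul_mem hg (hU hp).2) (inv_mem hg))⟩

/-- normal subgroups of 2-power index over corresponding Sylow subgroups (Alperin) -/
theorem Cor.normal (h : Cor X Y D) (h1 : X₁ ≤ X) (h2 : X ≤ NS X₁)
    (h3 : ∀ x ∈ X, Odd (orderOf x) → x ∈ X₁) (k1 : Y₁ ≤ Y) (k2 : Y ≤ NS Y₁)
    (k3 : ∀ y ∈ Y, Odd (orderOf y) → y ∈ Y₁) (hm : ∀ x y, (x, y) ∈ D → (x ∈ X₁ ↔ y ∈ Y₁)) :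
    Cor X₁ Y₁ (ov D X₁) := by
  have e : ov (sw D) Y₁ = sw (ov D X₁) := by
    ext ⟨y, x⟩
    exact and_congr_right fun hp => (hm x y hp).symm
  refine ⟨?_, ?_, fun x hx => h.inj1 x hx.1, fun y hy => h.inj2 y hy.1, h.normal_tr1 h1 h2 k3 hm,
    fun U hU γ hγ hc => ?_⟩
  · convert h.syl1.inf_of_le_normalizer h2 using 1
    · ext x
      simp only [mem_p1, mem_ov, mem_inf, exists_and_right]
    · exact (inf_eq_right.2 h1).symm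
  · convert h.syl2.inf_of_le_normalizer k2 using 1
    · ext y
      simp only [mem_p2, mem_ov, mem_inf]
      exact ⟨fun ⟨x, a, b⟩ => ⟨⟨x, a⟩, (hm x y a).1 b⟩, fun ⟨⟨x, a⟩, b⟩ => ⟨x, a, (hm x y a).2 b⟩⟩
    · exact (inf_eq_right.2 k1).symm
  · obtain ⟨g, hg, h4⟩ := h.swap.normal_tr1 k1 k2 h3 (fun y x hp => (hm x y hp).symm) (sw U)
      (e ▸ comap_mono hU) γ hγ (by rwa [e, p1_sw, p1_sw])
    exact ⟨g, hg, cj_le_iff.2 fun p hp => (e ▸ cj_le_iff.1 h4 p.swap hp :)⟩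

/-- subgroups that control fusion -/
theorem Cor.sub (h : Cor X Y D) (h1 : X₁ ≤ X) (h2 : p1 D ≤ X₁)
    (h3 : ∀ P ≤ p1 D, ∀ g ∈ X, cj g P ≤ p1 D → ∃ c ∈ CS P, g * c ∈ X₁) (k1 : Y₁ ≤ Y)
    (k2 : p2 D ≤ Y₁) (k3 : ∀ P ≤ p2 D, ∀ g ∈ Y, cj g P ≤ p2 D → ∃ c ∈ CS P, g * c ∈ Y₁) :
    Cor X₁ Y₁ D := by
  refine ⟨h.syl1.of_le h2 h1, h.syl2.of_le k2 k1, h.inj1, h.inj2, fun U hU g hg hc => ?_,
    fun U hU γ hγ hc => ?_⟩
  · obtain ⟨γ, hγ, h4⟩ := h.tr1 U hU g (h1 hg) hc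
    obtain ⟨c, h5, h6⟩ := k3 (p2 U) (map_mono hU) γ hγ (cj_le_iff.2 fun y hy => by
      obtain ⟨x, hx⟩ := mem_p2.1 hy
      exact mem_p2.2 ⟨_, cj_le_iff.1 h4 _ hx⟩)
    refine ⟨_, h6, cj_le_iff.2 fun p hp => ?_⟩
    convert cj_le_iff.1 h4 p hp using 1
    exact Prod.ext rfl (by simp [mul_assoc, ← mul_assoc c, ← h5 p.2 ⟨p, hp, rfl⟩])
  · obtain ⟨g, hg, h4⟩ := h.tr2 U hU γ (k1 hγ) hc
    obtain ⟨c, h5, h6⟩ := h3 (p1 U) (map_mono hU) g hg (cj_le_iff.2 fun y hy => by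
      obtain ⟨x, hx⟩ := mem_p1.1 hy
      exact mem_p1.2 ⟨_, cj_le_iff.1 h4 _ hx⟩)
    refine ⟨_, h6, cj_le_iff.2 fun p hp => ?_⟩
    convert cj_le_iff.1 h4 p hp using 1
    exact Prod.ext (by simp [mul_assoc, ← mul_assoc c, ← h5 p.1 ⟨p, hp, rfl⟩]) rfl

/-- a subgroup of odd index that controls fusion -/
theorem feq_of_control {S : Subgroup G} (hS : IsSylowIn 2 S ⊤) (h1 : S ≤ X)
    (h2 : ∀ P ≤ S, ∀ g, cj g P ≤ S → ∃ c ∈ CS P, g * c ∈ X) : FEq G X := by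
  let D : Subgroup (G × X) := (S.subgroupOf X).map (X.subtype.prod (MonoidHom.id X))
  have hD : ∀ p, p ∈ D ↔ p.1 ∈ S ∧ p.1 = p.2 := fun p =>
    ⟨by rintro ⟨y, hy, rfl⟩; exact ⟨hy, rfl⟩, fun h => ⟨p.2, (h.2 ▸ h.1 :), Prod.ext h.2.symm rfl⟩⟩
  have e1 : p1 D = S := le_antisymm (by rintro _ ⟨p, hp, rfl⟩; exact ((hD p).1 hp).1)
    fun x hx => mem_p1.2 ⟨⟨x, h1 hx⟩, (hD _).2 ⟨hx, rfl⟩⟩
  have e2 : p2 D = S.subgroupOf X := le_antisymm (by rintro _ ⟨_, ⟨p, hp, rfl⟩, rfl⟩; exact hp)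
    fun x hx => mem_p2.2 ⟨x.1, (hD _).2 ⟨hx, rfl⟩⟩
  refine ⟨D, e1 ▸ hS, e2 ▸ IsSylowIn.of_sylow_top (hS.of_le h1 le_top).toSylow,
    fun x hx => ((hD _).1 hx).2, fun y hy => Subtype.ext ((hD _).1 hy).2.symm, fun U hU g _ hc => ?_,
    fun U hU γ _ hc => ⟨γ, trivial, cj_le_iff.2 fun p hp => (hD _).2 ?_⟩⟩
  · obtain ⟨c, h3, h4⟩ := h2 _ ((map_mono hU).trans e1.le) g (hc.trans e1.le)
    refine ⟨⟨_, h4⟩, trivial, cj_le_iff.2 fun p hp => (hD _).2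
      ⟨cj_le_iff.1 (hc.trans e1.le) _ ⟨p, hp, rfl⟩, ?_⟩⟩
    simp [← ((hD p).1 (hU hp)).2, mul_assoc, ← mul_assoc c, ← h3 p.1 ⟨p, hp, rfl⟩]
  · have := cj_le_iff.1 (hc.trans e2.le) _ ⟨p, hp, rfl⟩
    simpa [((hD p).1 (hU hp)).2, mem_subgroupOf] using this

end CfsgLib.GHF
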