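import Mathlib
import Cfsg.Agent.Lib.GHF.Defs

/-! More vocabulary for `plans/GHF.md`. -/

set_option autoImplicit false

namespace CfsgLib.GHF

open Subgroup Cfsg CfsgLib.W2 CfsgLib.Tech CfsgLib.PComp CfsgLib.Abel2 CfsgLib.L3K CfsgLib.GHD
open Matrix

/-- at least five coordinates, odd characteristic -/
structure Ok (ι : Type) [Fintype ι] (F : Type*) [Fintype F] : Prop where
  five : 5 ≤ Fintype.card ι
  odd : Odd (Fintype.card F)

/-- the kernel of the determinant -/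
abbrev SD (ι : Type) [Fintype ι] [DecidableEq ι] (K : Type*) [Field K] : Subgroup (GL ι K) :=
  (GeneralLinearGroup.det : GL ι K →* Kˣ).ker

/-- the space of intertwiners of two matrix representations -/
def Hm {ι : Type} [Fintype ι] [DecidableEq ι] {K : Type*} [Field K] {P : Type*} [Group P]
    (α β : P →* GL ι K) : Submodule K (Matrix ι ι K) where
  carrier := {m | ∀ p, m * (α p : Matrix ι ι K) = (β p : Matrix ι ι K) * m}
  zero_mem' p := by simp
  add_mem' {a b} ha hb p := by rw [add_mul, mul_add, ha p, hb p]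
  smul_mem' c a ha p := by rw [smul_mul_assoc, mul_smul_comm, ha p]

/-- the 2-adic valuation of `∏ (r^i - 1)` -/
def vp (n : ℕ) (r : ℤ) : ℕ := padicValInt 2 (∏ i ∈ Finset.range n, (r ^ (i + 1) - 1))

/-- `Γ` is `PSL_n(r)`, read as `PSU_n(-r)` for negative `r`, presented inside `GL_n(r²)`. -/
def Prov (n : ℕ) (r : ℤ) (Γ : Type*) [Group Γ] : Prop :=
  ∃ (K : Type) (_ : Field K) (_ : Fintype K) (A : Subgroup (GL (Fin n) K))
    (φ : GL (Fin n) K →* GL (Fin n) K) (τ : Kˣ →* Kˣ) (f : ↥(A ⊓ SD (Fin n) K) →* Γ),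
    Fr A φ τ ∧ (Fintype.card K : ℤ) = r ^ 2 ∧ (∀ x, τ x = x ^ r) ∧
      (Nat.card A).factorization 2 = vp n r ∧ Function.Surjective f ∧
      ∀ x, f x = 1 ↔ (x : GL (Fin n) K) ∈ center (GL (Fin n) K)

/-- `r` and `s` have the same 2-adic type -/
structure Ad (r s : ℤ) : Prop where
  sub : padicValInt 2 (r - 1) = padicValInt 2 (s - 1)
  add : padicValInt 2 (r + 1) = padicValInt 2 (s + 1)

theorem Ad.symm {r s : ℤ} (h : Ad r s) : Ad s r := ⟨h.sub.symm, h.add.symm⟩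

theorem Ad.trans {r s t : ℤ} (h : Ad r s) (h' : Ad s t) : Ad r t :=
  ⟨h.sub.trans h'.sub, h.add.trans h'.add⟩

theorem val_sub {q : ℕ} (h : 0 < q) : padicValInt 2 ((q : ℤ) - 1) = padicValNat 2 (q - 1) := by
  rw [← padicValInt.of_nat, Nat.cast_sub h, Nat.cast_one]

theorem val_add (q : ℕ) : padicValInt 2 ((q : ℤ) + 1) = padicValNat 2 (q + 1) := by
  rw [← padicValInt.of_nat, Nat.cast_add, Nat.cast_one]

theorem val_neg (a : ℤ) : padicValInt 2 (-a) = padicValInt 2 a := by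
  simp [padicValInt]

theorem ad_pos {q q' : ℕ} (h : Odd q) (h' : Odd q') : Ad q' q ↔
    padicValNat 2 (q' - 1) = padicValNat 2 (q - 1) ∧
      padicValNat 2 (q' + 1) = padicValNat 2 (q + 1) := by
  rw [← val_sub h.pos, ← val_sub h'.pos, ← val_add, ← val_add]
  exact ⟨fun a => ⟨a.1, a.2⟩, fun a => ⟨a.1, a.2⟩⟩

theorem ad_neg {q q' : ℕ} (h : Odd q) (h' : Odd q') : Ad (-q') q ↔
    padicValNat 2 (q' + 1) = padicValNat 2 (q - 1) ∧
      padicValNat 2 (q' - 1) = padicValNat 2 (q + 1) := by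
  rw [← val_sub h.pos, ← val_sub h'.pos, ← val_add, ← val_add, ← val_neg (q' + 1),
    ← val_neg (q' - 1), show -((q' : ℤ) + 1) = -q' - 1 by ring,
    show -((q' : ℤ) - 1) = -q' + 1 by ring]
  exact ⟨fun a => ⟨a.1, a.2⟩, fun a => ⟨a.1, a.2⟩⟩

end CfsgLib.GHF
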