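import Mathlib
import Cfsg.Agent.Lib.GHF.Defs2
import Cfsg.Agent.Lib.MatConj.Unitary
import Cfsg.Agent.Lib.Syl2EA.GL

/-! Package FRL of `plans/GHF.md`: the linear groups. -/

set_option autoImplicit false

namespace CfsgLib.GHF

open Subgroup Cfsg CfsgLib.W2 CfsgLib.Tech CfsgLib.PComp CfsgLib.Abel2 CfsgLib.L3K CfsgLib.GHD
open Matrix

theorem exists_prov_hom {S Γ : Type*} [Group S] [Group Γ] (s : S →* Γ) (hs : Function.Injective s) {B : Subgroup Γ}
    (hB : s.range = B) (hc : ∀ y, y ∈ center S ↔ s y ∈ center Γ) :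
    ∃ f : B →* S ⧸ center S, Function.Surjective f ∧ ∀ x, f x = 1 ↔ (x : Γ) ∈ center Γ := by
  subst hB
  refine ⟨(QuotientGroup.mk' _).comp (MonoidHom.ofInjective hs).symm.toMonoidHom,
    (QuotientGroup.mk'_surjective _).comp (MonoidHom.ofInjective hs).symm.surjective, fun x => ?_⟩
  obtain ⟨y, rfl⟩ := (MonoidHom.ofInjective hs).surjective x
  simpa [MonoidHom.ofInjective_apply] using hc y

theorem frl_vp (n : ℕ) (r : ℤ) :
    vp n r = (∏ i ∈ Finset.range n, (r ^ (i + 1) - 1).natAbs).factorization 2 := by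
  rw [vp, padicValInt, Nat.factorization_def _ Nat.prime_two]
  exact congrArg _ (map_prod Int.natAbsHom _ _)

variable {ι : Type} [Fintype ι] [DecidableEq ι] {K : Type*} [Field K]

theorem frl_dgm (d : ι → Kˣ) : (dgm d : Matrix ι ι K) = diagonal fun i => (d i : K) := rfl

theorem frl_pm (σ : Equiv.Perm ι) : (pm K σ : Matrix ι ι K) = σ⁻¹.permMatrix K := rfl

open GeneralLinearGroup in
theorem fr_map [Fintype K] {q : ℕ} (hK : Fintype.card K = q ^ 2) :
    Fr ((map (Unitary.conj hK) : GL ι K →* GL ι K).eqLocus (MonoidHom.id _)) (map (Unitary.conj hK))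
      (zpowGroupHom (q : ℤ)) where
  mem _ := Iff.rfl
  invol g := GeneralLinearGroup.ext fun i j => Unitary.conj_conj hK _
  diag d := GeneralLinearGroup.ext fun i j => by
    rw [GeneralLinearGroup.map_apply, frl_dgm, frl_dgm, diagonal_apply, diagonal_apply, apply_ite (Unitary.conj hK),
      map_zero]
    simp [Unitary.conj_apply]
  perm σ := GeneralLinearGroup.ext fun i j => by
    rw [GeneralLinearGroup.map_apply, frl_pm, Equiv.Perm.permMatrix, PEquiv.toMatrix_apply,
      apply_ite (Unitary.conj hK), map_zero, map_one]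
  det g := (GeneralLinearGroup.map_det _ g).trans (Units.ext (by simp [Unitary.conj_apply]))
  h90 c hc := by
    let τ : Matrix ι ι K →+* Matrix ι ι K := (Unitary.conj hK).mapMatrix
    have h0 : ∀ x, τ (τ x) = x := fun x => Matrix.ext fun i j => Unitary.conj_conj hK _
    have h1 : τ c = (c⁻¹ : GL ι K) := congrArg Units.val (eq_inv_of_mul_eq_one_right hc)
    have h2 : ∀ x ∈ MatConj.cc {(c : Matrix ι ι K)}, τ x ∈ MatConj.cc {(c : Matrix ι ι K)} := fun x hx =>
      MatConj.mem_cc.2 fun y hy => by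
        rw [← h0 y, ← map_mul, ← map_mul, MatConj.mem_cc.1 hx]
        rintro _ rfl
        rw [← h0 c, ← map_mul, ← map_mul, h1, (Commute.units_inv_left (hy _ rfl)).eq]
    let := MatConj.ccCommRing (S := {(c : Matrix ι ι K)}) (by rintro _ rfl _ rfl; rfl)
    let := MatConj.unitaryStar hK
    obtain ⟨ω, h3, h4⟩ := MatConj.exists_omega (Unitary.exists_not_fixed hK)
    let w : K →+* MatConj.cc {(c : Matrix ι ι K)} := (Matrix.scalar ι).codRestrict _ fun a =>
      MatConj.mem_cc.2 fun y _ => (scalar_commute a (Commute.all a) y).symm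
    have h5 : ∀ a, τ.restrict _ _ h2 (w a) = w (star a) := fun a =>
      Subtype.ext (diagonal_map (d := fun _ => a) (map_zero (Unitary.conj hK)))
    obtain ⟨d, ⟨e, rfl⟩, h6⟩ := MatConj.comm_hilbert90 (τ.restrict _ _ h2) (fun x => Subtype.ext (h0 x)) (ω := w ω)
      (by rw [h5, ← map_add, h3, map_one]) (by simpa [map_ofNat] using (IsUnit.mk0 _ h4).map w)
      (u := τ.restrict _ _ h2 ⟨c, MatConj.mem_cc_of_mem rfl⟩)
      (Subtype.ext ((congrArg₂ _ h1 (h0 c)).trans c.inv_mul))
    have h7 : ∀ y : GL ι K, y * c = c * y → y * Units.map (Subring.subtype _).toMonoidHom e =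
        Units.map (Subring.subtype _).toMonoidHom e * y := fun y hy =>
      Units.ext (MatConj.mem_cc.1 e.1.2 y (by rintro _ rfl; exact congrArg Units.val hy.symm))
    refine ⟨_, ?_, h7⟩
    rw [← h7 c rfl, ← inv_mul_eq_iff_eq_mul]
    exact Units.ext ((congrArg (· * _) h1.symm).trans (congrArg Subtype.val h6))

theorem prov_of_hom (n : ℕ) {F : Type*} [Field F] [Fintype F] (hF : Odd (Fintype.card F)) {K : Type} [Field K]
    [Fintype K] (hK : Fintype.card K = Fintype.card F ^ 2) (j : F →+* K)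
    (hj : ∀ x, Unitary.conj hK x = x ↔ ∃ y, j y = x) :
    Prov n (Fintype.card F) (Matrix.ProjectiveSpecialLinearGroup (Fin n) F) := by
  have h1 : Function.Injective (GeneralLinearGroup.map j : GL (Fin n) F → _) := fun g h k =>
    GeneralLinearGroup.ext fun a b => j.injective (congrArg (fun x : GL (Fin n) _ => x a b) k)
  have h2 : (GeneralLinearGroup.map j : GL (Fin n) F →* _).range =
      (GeneralLinearGroup.map (Unitary.conj hK)).eqLocus (MonoidHom.id _) := by
    refine le_antisymm ?_ fun g hg => ?_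
    · rintro _ ⟨g, rfl⟩
      exact GeneralLinearGroup.ext fun a b => (hj _).2 ⟨_, rfl⟩
    · choose M hM using fun a b => (hj _).1 (congrArg (fun x : GL (Fin n) _ => x a b) hg)
      have h3 : j.mapMatrix (of M) = g := Matrix.ext hM
      exact ⟨GeneralLinearGroup.mkOfDetNeZero (of M) fun k => g.det_ne_zero (by
        rw [← h3, ← RingHom.map_det, k, map_zero]), Units.ext h3⟩
  obtain ⟨f, h3, h4⟩ := exists_prov_hom ((GeneralLinearGroup.map j).comp SpecialLinearGroup.toGL)
    (h1.comp SpecialLinearGroup.toGL_injective)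
    (B := (GeneralLinearGroup.map (Unitary.conj hK)).eqLocus (MonoidHom.id _) ⊓ SD (Fin n) _) (by
      rw [← h2]
      refine le_antisymm ?_ ?_
      · rintro _ ⟨g, rfl⟩
        exact ⟨⟨_, rfl⟩, (GeneralLinearGroup.map_det _ _).trans (by simp)⟩
      · rintro _ ⟨⟨g, rfl⟩, hg⟩
        refine ⟨⟨g, j.injective ?_⟩, congrArg (GeneralLinearGroup.map j) (Units.ext rfl)⟩
        simpa using congrArg Units.val ((GeneralLinearGroup.map_det _ _).symm.trans hg)) fun y => by
      rw [← SpecialLinearGroup.toGL_mem_center_iff, GeneralLinearGroup.mem_center_iff_val_mem_range_scalar,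
        GeneralLinearGroup.mem_center_iff_val_mem_range_scalar]
      refine ⟨fun ⟨a, ha⟩ => ⟨j a, (diagonal_map (map_zero j)).symm.trans (congrArg j.mapMatrix ha)⟩,
        fun ⟨a, ha⟩ => ?_⟩
      cases n
      · exact ⟨1, Subsingleton.elim _ _⟩
      · refine ⟨y 0 0, Matrix.ext fun k l => j.injective ?_⟩
        have h5 : ∀ k l, j (y k l) = _ := fun k l => (congrFun (congrFun ha k) l).symm
        rw [scalar_apply, diagonal_apply, apply_ite j, h5, map_zero]
        simpa [diagonal_apply] using (h5 k l).symm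
  refine ⟨_, _, _, _, _, _, f, fr_map hK, by exact_mod_cast hK, fun _ => rfl, ?_, h3, h4⟩
  rw [← h2, ← Nat.card_congr (MonoidHom.ofInjective h1).toEquiv, Syl2EA.val_gl hF, frl_vp]
  congr 2
  refine Finset.prod_congr rfl fun i _ => ?_
  rw [← Nat.cast_pow, ← Nat.cast_pred (pow_pos Fintype.card_pos _), Int.natAbs_natCast]

theorem prov_L (n : ℕ) (F : Type*) [Field F] [Fintype F] (hF : Odd (Fintype.card F)) :
    Prov n (Fintype.card F) (Matrix.ProjectiveSpecialLinearGroup (Fin n) F) := by
  obtain ⟨p, _, m, hp, hm⟩ := FiniteField.card' F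
  have := Fact.mk hp
  have := Fintype.ofFinite (GaloisField p (m * 2))
  have hK : Fintype.card (GaloisField p (m * 2)) = Fintype.card F ^ 2 := by
    rw [← Nat.card_eq_fintype_card, GaloisField.card p _ (by simp), hm, pow_mul]
  have := Fintype.ofFinite (Unitary.fixedSubfield hK)
  let e := FiniteField.ringEquivOfCardEq (K := F) (K' := Unitary.fixedSubfield hK) (by
    rw [← Nat.card_eq_fintype_card (α := Unitary.fixedSubfield hK), Unitary.card_fixedSubfield])
  exact prov_of_hom n hF hK ((Unitary.fixedSubfield hK).subtype.comp e.toRingHom) fun x =>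
    ⟨fun h => ⟨e.symm ⟨x, h⟩, congrArg Subtype.val (e.apply_symm_apply _)⟩, fun ⟨y, h⟩ => h ▸ (e y).2⟩

end CfsgLib.GHF
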