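import Mathlib
import Cfsg.Agent.Lib.GHF.FrL
import Cfsg.Agent.Lib.Unitary.Center

/-! Package FRU of `plans/GHF.md`: the unitary groups. -/

set_option autoImplicit false

namespace CfsgLib.GHF

open Subgroup Cfsg CfsgLib.W2 CfsgLib.Tech CfsgLib.PComp CfsgLib.Abel2 CfsgLib.L3K CfsgLib.GHD
open Matrix

theorem exists_fr_U (n : ℕ) {K : Type} [Field K] [Fintype K] {q : ℕ} (hK : Fintype.card K = q ^ 2) :
    ∃ φ, Fr (GU n K q) φ (zpowGroupHom (-q : ℤ)) := by
  let := MatConj.unitaryStar hK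
  have hq : ∀ x : K, star x = x ^ q := fun _ => rfl
  refine ⟨MonoidHom.mk' (fun g => (star g)⁻¹) fun g h => by rw [star_mul, _root_.mul_inv_rev], fun g => ?_,
    fun g => ?_, fun d => inv_eq_of_mul_eq_one_right (Units.ext ?_), fun σ => inv_eq_of_mul_eq_one_right (Units.ext ?_),
    fun g => ?_, fun c hc => ?_⟩
  · rw [MatConj.mem_GU_iff_star hK, MonoidHom.mk'_apply, inv_eq_iff_mul_eq_one, Units.ext_iff]
    rfl
  · rw [MonoidHom.mk'_apply, star_inv, inv_inv, star_star]
  · rw [Units.val_mul, Units.coe_star, frl_dgm, frl_dgm, star_eq_conjTranspose, diagonal_conjTranspose,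
      diagonal_mul_diagonal, Units.val_one, ← diagonal_one]
    congr
    ext i
    simp [hq]
  · rw [Units.val_mul, Units.coe_star, frl_pm, star_eq_conjTranspose, conjTranspose_permMatrix, ← permMatrix_mul,
      mul_inv_cancel, permMatrix_one, Units.val_one]
  · rw [MonoidHom.mk'_apply, map_inv, zpowGroupHom_apply, _root_.zpow_neg, _root_.inv_inj, Units.ext_iff]
    simpa [hq] using MatConj.det_star (g : Matrix (Fin n) (Fin n) K)
  · obtain ⟨ω, h1, h2, h3⟩ := MatConj.exists_omega_matrix (n := Fin n) (Unitary.exists_not_fixed hK)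
    have h4 : star c⁻¹ = c⁻¹ := by rw [star_inv, ← mul_inv_eq_one.1 hc]
    obtain ⟨d, h5, h6⟩ := MatConj.exists_star_mul_self h1 h2 (congrArg Units.val h4) c⁻¹.isUnit (h3 _)
    refine ⟨d, inv_eq_of_mul_eq_one_right ?_, fun y hy => Units.ext (h6 y (h3 _)
      (Commute.units_inv_left (congrArg Units.val hy.symm)))⟩
    rw [← mul_assoc, show star d * d = c⁻¹ from Units.ext h5, inv_mul_cancel]

theorem prov_U {n : ℕ} (hn : 2 ≤ n) (K : Type) [Field K] [Fintype K] {q : ℕ}
    (hK : Fintype.card K = q ^ 2) (hq : Odd q) : Prov n (-q) (PSU n K q) := by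
  obtain ⟨φ, hφ⟩ := exists_fr_U n hK
  obtain ⟨f, h3, h4⟩ := exists_prov_hom (SpecialLinearGroup.toGL.comp (SU n K q).subtype)
    (SpecialLinearGroup.toGL_injective.comp (subtype_injective _)) (B := GU n K q ⊓ SD (Fin n) K) (by
      refine le_antisymm ?_ fun g hg => ⟨⟨⟨g, congrArg Units.val hg.2⟩, hg.1⟩, Units.ext rfl⟩
      rintro _ ⟨g, rfl⟩
      exact ⟨g.2, Units.ext g.1.2⟩) fun y => by
      rw [Unitary.mem_center_SU_iff hK hn, GeneralLinearGroup.mem_center_iff_val_mem_range_scalar]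
      exact exists_congr fun a => by rw [smul_one_eq_diagonal, eq_comm]; rfl
  refine ⟨_, _, _, _, φ, _, f, hφ, by rw [hK, neg_sq, Nat.cast_pow], fun _ => rfl, ?_, h3, h4⟩
  have h5 := Nat.card_pos (α := GU n K q)
  rw [Unitary.card_GU hK] at h5 ⊢
  rw [Nat.factorization_mul (Nat.pos_of_mul_pos_right h5).ne' (Nat.pos_of_mul_pos_left h5).ne', Finsupp.add_apply,
    Nat.factorization_eq_zero_of_not_dvd hq.pow.not_two_dvd_nat, zero_add, frl_vp]
  congr 2
  refine Finset.prod_congr rfl fun i _ => ?_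
  split_ifs with h
  · rw [h.add_one.neg_pow, ← neg_add', Int.natAbs_neg]
    norm_cast
  · rw [(Nat.not_even_iff_odd.1 h).add_one.neg_pow, ← Nat.cast_pow, ← Nat.cast_pred (pow_pos hq.pos _),
      Int.natAbs_natCast]

end CfsgLib.GHF
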