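import Mathlib
import Cfsg.Agent.Lib.GHF.Defs2
import Cfsg.Agent.Lib.TwoGrp.FusModel

/-! Package ORD of `plans/GHF.md`: orders. -/

set_option autoImplicit false

namespace CfsgLib.GHF

open Subgroup Cfsg CfsgLib.W2 CfsgLib.Tech CfsgLib.PComp CfsgLib.Abel2 CfsgLib.L3K CfsgLib.GHD

variable {r s : ℤ} {a : ℕ}

namespace Od

theorem sub_ne (h3 : 2 ≤ |r|) : r - 1 ≠ 0 := fun h => by
  rw [sub_eq_zero.1 h] at h3; norm_num at h3

theorem add_ne (h3 : 2 ≤ |r|) : r + 1 ≠ 0 := fun h => by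
  rw [eq_neg_of_add_eq_zero_left h] at h3; norm_num at h3

theorem le_val {z : ℤ} (hz : z ≠ 0) {n : ℕ} : n ≤ padicValInt 2 z ↔ (2 : ℤ) ^ n ∣ z := by
  have := padicValInt_dvd_iff (p := 2) n z
  simp only [Nat.cast_ofNat, hz, false_or] at this
  exact this.symm

theorem val_eq {z u : ℤ} {n : ℕ} (h : z = 2 ^ n * u) (hu : Odd u) : padicValInt 2 z = n := by
  have hu0 : u ≠ 0 := by rintro rfl; exact absurd hu (by decide)
  have hz : z ≠ 0 := h ▸ mul_ne_zero (by positivity) hu0
  refine le_antisymm (le_of_not_gt fun hc => ?_) ((le_val hz).2 ⟨u, h⟩)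
  have := (le_val hz).1 (Nat.succ_le_of_lt hc)
  rw [h, pow_succ, mul_dvd_mul_iff_left (by positivity)] at this
  exact (Int.not_even_iff_odd.2 hu) (even_iff_two_dvd.2 this)

theorem exists_odd {z : ℤ} (hz : z ≠ 0) : ∃ u, Odd u ∧ z = 2 ^ padicValInt 2 z * u := by
  obtain ⟨u, hu⟩ := (le_val hz).1 le_rfl
  refine ⟨u, Int.not_even_iff_odd.1 fun ⟨w, hw⟩ => ?_, hu⟩
  have := (le_val hz (n := padicValInt 2 z + 1)).2 ⟨w, by rw [pow_succ]; linear_combination hu + 2 ^ padicValInt 2 z * hw⟩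
  omega

theorem val_sq (h3 : 2 ≤ |r|) :
    padicValInt 2 (r ^ 2 - 1) = padicValInt 2 (r - 1) + padicValInt 2 (r + 1) := by
  rw [← padicValInt.mul (sub_ne h3) (add_ne h3)]
  congr 1; ring

/-- the two cases `r ≡ 1` and `r ≡ 3` modulo 4 -/
theorem cases (hr : Odd r) (h3 : 2 ≤ |r|) (ha : padicValInt 2 (r ^ 2 - 1) = a + 1) :
    (padicValInt 2 (r - 1) = a ∧ padicValInt 2 (r + 1) = 1) ∨
      (padicValInt 2 (r - 1) = 1 ∧ padicValInt 2 (r + 1) = a) := by
  rw [val_sq h3] at ha
  obtain ⟨k, rfl⟩ := hr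
  rcases Int.even_or_odd' k with ⟨m, rfl | rfl⟩
  · have : padicValInt 2 (2 * (2 * m) + 1 + 1) = 1 :=
      val_eq (u := 2 * m + 1) (by ring) ⟨m, rfl⟩
    omega
  · have : padicValInt 2 (2 * (2 * m + 1) + 1 - 1) = 1 :=
      val_eq (u := 2 * m + 1) (by ring) ⟨m, rfl⟩
    omega

theorem pow_ne (h3 : 2 ≤ |r|) {i : ℕ} (hi : i ≠ 0) : r ^ i - 1 ≠ 0 := fun h => by
  have h1 : |r| ^ i = 1 := by rw [← abs_pow, sub_eq_zero.1 h, abs_one]
  have := one_lt_pow₀ (show (1 : ℤ) < |r| by omega) hi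
  omega

theorem emult {z : ℤ} (hz : z ≠ 0) : emultiplicity (2 : ℤ) z = padicValInt 2 z := by
  rw [padicValInt.of_ne_one_ne_zero (by norm_num) hz]
  exact (Int.finiteMultiplicity_iff.2 ⟨by norm_num, hz⟩).emultiplicity_eq_multiplicity

theorem val_odd (hr : Odd r) (h3 : 2 ≤ |r|) {i : ℕ} (hi : Odd i) :
    padicValInt 2 (r ^ i - 1) = padicValInt 2 (r - 1) := by
  have := emultiplicity_pow_sub_pow_of_prime Int.prime_two (x := r) (y := 1)
    (even_iff_two_dvd.1 (hr.sub_odd odd_one))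
    (fun h => Int.not_even_iff_odd.2 hr (even_iff_two_dvd.2 h)) (n := i)
    (fun h => Nat.not_even_iff_odd.2 hi (even_iff_two_dvd.2 (by exact_mod_cast h)))
  rw [one_pow, emult (pow_ne h3 hi.pos.ne'), emult (sub_ne h3)] at this
  exact_mod_cast this

theorem val_even (hr : Odd r) (h3 : 2 ≤ |r|) {i : ℕ} (hi : Even i) (h0 : i ≠ 0) :
    padicValInt 2 (r ^ i - 1) + 1 =
      padicValInt 2 (r + 1) + padicValInt 2 (r - 1) + padicValNat 2 i := by
  have := Int.two_pow_sub_pow (x := r) (y := 1) (even_iff_two_dvd.1 (hr.sub_odd odd_one))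
    (fun h => Int.not_even_iff_odd.2 hr (even_iff_two_dvd.2 h)) hi
  rw [one_pow, emult (pow_ne h3 h0), emult (sub_ne h3), emult (add_ne h3),
    emult (z := i) (by exact_mod_cast h0), padicValInt.of_nat] at this
  exact_mod_cast this

theorem vp_succ (h3 : 2 ≤ |r|) (n : ℕ) :
    vp (n + 1) r = vp n r + padicValInt 2 (r ^ (n + 1) - 1) := by
  rw [vp, Finset.prod_range_succ, padicValInt.mul
    (Finset.prod_ne_zero_iff.2 fun i _ => pow_ne h3 i.succ_ne_zero) (pow_ne h3 n.succ_ne_zero), vp]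

theorem vp_zero : vp 0 r = 0 := by simp [vp]

theorem fact_succ (n : ℕ) :
    padicValNat 2 (n + 1).factorial = padicValNat 2 n.factorial + padicValNat 2 (n + 1) := by
  rw [Nat.factorial_succ, padicValNat.mul n.succ_ne_zero n.factorial_ne_zero, add_comm]

theorem nat_odd {n : ℕ} (h : Odd n) : padicValNat 2 n = 0 :=
  padicValNat.eq_zero_of_not_dvd fun h' => Nat.not_even_iff_odd.2 h (even_iff_two_dvd.2 h')

theorem vp_one (hr : Odd r) (h3 : 2 ≤ |r|) (h1 : padicValInt 2 (r - 1) = a)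
    (h2 : padicValInt 2 (r + 1) = 1) (n : ℕ) : vp n r = a * n + padicValNat 2 n.factorial := by
  induction n with
  | zero => simp [vp_zero]
  | succ n ih =>
    rw [vp_succ h3, ih, fact_succ, mul_add]
    rcases Nat.even_or_odd (n + 1) with h | h
    · have := val_even hr h3 h n.succ_ne_zero
      omega
    · have := val_odd hr h3 h
      have := nat_odd h
      omega

theorem vp_three (hr : Odd r) (h3 : 2 ≤ |r|) (h1 : padicValInt 2 (r - 1) = 1)
    (h2 : padicValInt 2 (r + 1) = a) (n : ℕ) :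
    vp n r + n / 2 = n + a * (n / 2) + padicValNat 2 n.factorial := by
  induction n with
  | zero => simp [vp_zero]
  | succ n ih =>
    rw [vp_succ h3, fact_succ]
    rcases Nat.even_or_odd (n + 1) with h | h
    · have := val_even hr h3 h n.succ_ne_zero
      have e : (n + 1) / 2 = n / 2 + 1 := by obtain ⟨k, hk⟩ := h; omega
      rw [e, mul_add]
      omega
    · have := val_odd hr h3 h
      have := nat_odd h
      have e : (n + 1) / 2 = n / 2 := by obtain ⟨k, hk⟩ := h; omega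
      rw [e]
      omega

theorem fact_half (n : ℕ) :
    padicValNat 2 n.factorial = padicValNat 2 (n / 2).factorial + n / 2 := by
  rw [← padicValNat_factorial_mul, ← padicValNat_factorial_mul_add (p := 2) (n := n % 2) (n / 2)
    (Nat.mod_lt _ two_pos), Nat.div_add_mod]

section card

variable {n N : ℕ} {e : ZMod N} {π : Equiv.Perm (Fin n)}

theorem finite_mono (ι : Type) [Finite ι] (N : ℕ) [NeZero N] : Finite (Mono ι N) :=
  Finite.of_equiv _ SemidirectProduct.equivProd.symm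

/-- the diagonal part -/
abbrev DD (e : ZMod N) (π : Equiv.Perm (Fin n)) := {d : Fin n → ZMod N // ∀ i, d (π i) = e * d i}

theorem card_UU : Nat.card (GHF.UU N e π) =
    Nat.card (centralizer ({π} : Set (Equiv.Perm (Fin n)))) * Nat.card (DD e π) := by
  rw [← Nat.card_prod]
  exact Nat.card_congr
    { toFun := fun u => (⟨u.1.right, mem_centralizer_singleton_iff.2 u.2.1⟩,
        ⟨fun i => Multiplicative.toAdd (u.1.left i), u.2.2⟩)
      invFun := fun p => ⟨⟨fun i => Multiplicative.ofAdd (p.2.1 i), p.1.1⟩,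
        mem_centralizer_singleton_iff.1 p.1.2, p.2.2⟩
      left_inv := fun _ => rfl
      right_inv := fun _ => rfl }

/-- the solutions of `e x = x` -/
def Fx (e : ZMod N) : AddSubgroup (ZMod N) where
  carrier := {x | e * x = x}
  zero_mem' := mul_zero e
  add_mem' {x y} hx hy := by
    change e * (x + y) = x + y
    rw [mul_add, hx, hy]
  neg_mem' {x} hx := by
    change e * -x = -x
    rw [mul_neg, hx]

theorem card_DD [NeZero N] (he : e * e = 1) (hπ : π * π = 1) : Nat.card (DD e π) =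
    N ^ (Finset.univ.filter fun i => i < π i).card *
      Nat.card (Fx e) ^ (Finset.univ.filter fun i => π i = i).card := by
  have hh : ∀ i, π (π i) = i := fun i => by rw [← Equiv.Perm.mul_apply, hπ]; rfl
  let X : Fin n → Type := fun i => {x : ZMod N // (π i < i → x = 0) ∧ (π i = i → e * x = x)}
  have e1 : DD e π ≃ ∀ i, X i :=
    { toFun := fun d i => ⟨if π i < i then 0 else d.1 i, fun h => if_pos h, fun h => by
        rw [if_neg (by rw [h]; exact lt_irrefl _), ← d.2, h]⟩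
      invFun := fun x => ⟨fun i => if π i < i then e * (x (π i)).1 else (x i).1, fun i => by
        simp only [hh]
        rcases lt_trichotomy (π i) i with h | h | h
        · rw [if_neg h.not_gt, if_pos h, ← mul_assoc, he, one_mul]
        · rw [if_neg (by rw [h]; exact lt_irrefl _), if_neg (by rw [h]; exact lt_irrefl _),
            (x i).2.2 h]
          exact congrArg (fun j => (x j).1) h
        · rw [if_pos h, if_neg h.not_gt]
          exact congrArg (fun j => e * (x j).1) (hh i)⟩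
      left_inv := fun d => Subtype.ext (funext fun i => by
        simp only [hh]
        split_ifs with h1 h2
        · exact absurd h2 h1.not_gt
        · rw [d.2, ← mul_assoc, he, one_mul]
        · rfl)
      right_inv := fun x => funext fun i => Subtype.ext (by
        simp only
        split_ifs with h1
        · exact ((x i).2.1 h1).symm
        · rfl) }
  have e2 : ∀ i, Nat.card (X i) =
      (if i < π i then N else 1) * (if π i = i then Nat.card (Fx e) else 1) := fun i => by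
    rcases lt_trichotomy (π i) i with h | h | h
    · rw [if_neg h.not_gt, if_neg h.ne, Nat.card_eq_one_iff_exists]
      exact ⟨⟨0, fun _ => rfl, fun _ => mul_zero e⟩, fun y => Subtype.ext (y.2.1 h)⟩
    · rw [if_neg (by rw [h]; exact lt_irrefl _), if_pos h, one_mul]
      exact Nat.card_congr (Equiv.subtypeEquivRight fun x =>
        ⟨fun hx => hx.2 h, fun hx => ⟨fun h' => absurd h h'.ne, fun _ => hx⟩⟩)
    · rw [if_pos h, if_neg h.ne', mul_one]
      refine (Nat.card_congr (Equiv.subtypeUnivEquiv fun x =>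
        ⟨fun h' => absurd h' h.not_gt, fun h' => absurd h' h.ne'⟩)).trans (Nat.card_zmod N)
  rw [Nat.card_congr e1, Nat.card_pi, Finset.prod_congr rfl fun i _ => e2 i, Finset.prod_mul_distrib,
    Finset.prod_ite, Finset.prod_ite]
  simp

theorem count (hπ : π * π = 1) : 2 * (Finset.univ.filter fun i => i < π i).card +
    (Finset.univ.filter fun i => π i = i).card = n := by
  have hh : ∀ i, π (π i) = i := fun i => by rw [← Equiv.Perm.mul_apply, hπ]; rfl
  have e1 : (Finset.univ.filter fun i => π i < i).card =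
      (Finset.univ.filter fun i => i < π i).card :=
    Finset.card_bij' (fun i _ => π i) (fun i _ => π i) (by simp [hh]) (by simp [hh])
      (by simp [hh]) (by simp [hh])
  have e2 := Finset.card_filter_add_card_filter_not (s := (Finset.univ : Finset (Fin n)))
    (fun i => i < π i)
  have e3 := Finset.card_filter_add_card_filter_not
    (s := Finset.univ.filter fun i : Fin n => ¬ i < π i) (fun i => π i = i)
  rw [Finset.filter_filter, Finset.filter_filter,
    Finset.filter_congr (q := fun i => π i = i) (fun i _ => by omega),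
    Finset.filter_congr (p := fun i => ¬ i < π i ∧ ¬ π i = i) (q := fun i => π i < i)
      (fun i _ => by omega)] at e3
  rw [Finset.card_univ, Fintype.card_fin] at e2
  omega

theorem dvd_Fx {k : ℕ} (hk : k ≤ a + 1) (h : (2 : ℤ) ^ k ∣ r - 1) :
    2 ^ k ∣ Nat.card (Fx (r : ZMod (2 ^ (a + 1)))) := by
  obtain ⟨u, hu⟩ := h
  obtain ⟨l, hl⟩ := Nat.exists_eq_add_of_le hk
  have h1 : ((2 ^ l : ℕ) : ZMod (2 ^ (a + 1))) ∈ Fx (r : ZMod (2 ^ (a + 1))) := by
    change (r : ZMod (2 ^ (a + 1))) * _ = _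
    have h2 : ((2 ^ (a + 1) : ℕ) : ZMod (2 ^ (a + 1))) = 0 := ZMod.natCast_self _
    rw [sub_eq_iff_eq_add.1 hu]
    rw [show ((2 ^ (a + 1) : ℕ) : ZMod (2 ^ (a + 1))) = 2 ^ k * 2 ^ l by
      rw [← pow_add, ← hl]; push_cast; rfl] at h2
    push_cast
    linear_combination u * h2
  have h2 := AddSubgroup.addOrderOf_dvd_natCard _ h1
  rwa [ZMod.addOrderOf_coe _ (by positivity), Nat.gcd_eq_right (pow_dvd_pow 2 (by omega)),
    Nat.pow_div (by omega) two_pos, show a + 1 - l = k by omega] at h2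

end card

end Od

open Od

theorem Ad.odd (h : Ad r s) (hr : Odd r) (h3 : 2 ≤ |r|) : Odd s := by
  have h1 : 1 ≤ padicValInt 2 (r - 1) :=
    (le_val (sub_ne h3)).2 (by simpa using even_iff_two_dvd.1 (hr.sub_odd odd_one))
  rw [h.sub] at h1
  have h2 : (2 : ℤ) ∣ s - 1 := by
    by_contra hc
    rw [padicValInt.eq_zero_of_not_dvd (p := 2) hc] at h1
    omega
  obtain ⟨k, hk⟩ := h2
  exact ⟨k, by omega⟩

theorem Ad.sq (h : Ad r s) (h3 : 2 ≤ |r|) (h3' : 2 ≤ |s|) :
    padicValInt 2 (r ^ 2 - 1) = padicValInt 2 (s ^ 2 - 1) := by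
  rw [val_sq h3, val_sq h3', h.sub, h.add]

theorem exists_a (hr : Odd r) (h3 : 2 ≤ |r|) : ∃ a, 2 ≤ a ∧ padicValInt 2 (r ^ 2 - 1) = a + 1 := by
  have := (le_val (pow_ne h3 two_ne_zero) (n := 3)).2 (Int.eight_dvd_sq_sub_one_of_odd hr)
  exact ⟨padicValInt 2 (r ^ 2 - 1) - 1, by omega, by omega⟩

theorem Ad.cast (h : Ad r s) (hr : Odd r) (h3 : 2 ≤ |r|) (h3' : 2 ≤ |s|)
    (ha : padicValInt 2 (r ^ 2 - 1) = a + 1) : (r : ZMod (2 ^ (a + 1))) = s := by
  rw [ZMod.intCast_eq_intCast_iff_dvd_sub]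
  push_cast
  rcases cases hr h3 ha with ⟨h1, -⟩ | ⟨-, h1⟩
  · obtain ⟨_, ⟨u, rfl⟩, hu⟩ := exists_odd (sub_ne h3)
    obtain ⟨_, ⟨w, rfl⟩, hw⟩ := exists_odd (sub_ne h3')
    rw [← h.sub, h1] at hw
    rw [h1] at hu
    exact ⟨w - u, by linear_combination hw - hu⟩
  · obtain ⟨_, ⟨u, rfl⟩, hu⟩ := exists_odd (add_ne h3)
    obtain ⟨_, ⟨w, rfl⟩, hw⟩ := exists_odd (add_ne h3')
    rw [← h.add, h1] at hw
    rw [h1] at hu
    exact ⟨w - u, by linear_combination hw - hu⟩

theorem Ad.vp_eq (h : Ad r s) (hr : Odd r) (h3 : 2 ≤ |r|) (h3' : 2 ≤ |s|) (n : ℕ) :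
    vp n r = vp n s := by
  have hs := h.odd hr h3
  induction n with
  | zero => rw [vp_zero, vp_zero]
  | succ n ih =>
    rw [vp_succ h3, vp_succ h3', ih]
    rcases Nat.even_or_odd (n + 1) with e | e
    · have h1 := val_even hr h3 e n.succ_ne_zero
      have h2 := val_even hs h3' e n.succ_ne_zero
      rw [h.sub, h.add] at h1
      omega
    · rw [val_odd hr h3 e, val_odd hs h3' e, h.sub]

theorem ord (n : ℕ) (hr : Odd r) (h3 : 2 ≤ |r|) (ha : padicValInt 2 (r ^ 2 - 1) = a + 1) :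
    ∃ π : Equiv.Perm (Fin n), π * π = 1 ∧
      vp n r ≤ (Nat.card (GHF.UU (2 ^ (a + 1)) (r : ZMod (2 ^ (a + 1))) π)).factorization 2 := by
  have he : (r : ZMod (2 ^ (a + 1))) * r = 1 := by
    have := (ZMod.intCast_eq_intCast_iff_dvd_sub 1 (r ^ 2) (2 ^ (a + 1))).2
      (by push_cast; exact (le_val (pow_ne h3 two_ne_zero)).1 ha.ge)
    push_cast at this
    rw [this, sq]
  have key : ∀ (π : Equiv.Perm (Fin n)) (c : ℕ), π * π = 1 →
      2 ^ c ∣ Nat.card (centralizer ({π} : Set (Equiv.Perm (Fin n)))) →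
      c + (a + 1) * (Finset.univ.filter fun i => i < π i).card +
        padicValInt 2 (r - 1) * (Finset.univ.filter fun i => π i = i).card ≤
      (Nat.card (GHF.UU (2 ^ (a + 1)) (r : ZMod (2 ^ (a + 1))) π)).factorization 2 := by
    intro π c hπ hc
    have : Finite (Mono (Fin n) (2 ^ (a + 1))) := finite_mono _ _
    rw [← Nat.prime_two.pow_dvd_iff_le_factorization Nat.card_pos.ne', card_UU, card_DD he hπ,
      add_assoc, pow_add, pow_add, pow_mul, pow_mul]
    refine mul_dvd_mul hc (mul_dvd_mul_left _ (pow_dvd_pow_of_dvd (dvd_Fx ?_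
      ((le_val (sub_ne h3)).1 le_rfl)) _))
    rw [← ha, val_sq h3]
    omega
  rcases cases hr h3 ha with ⟨h1, h2⟩ | ⟨h1, h2⟩
  · refine ⟨1, mul_one 1, le_trans ?_ (key 1 (padicValNat 2 n.factorial) (mul_one 1) ?_)⟩
    · rw [vp_one hr h3 h1 h2, h1]
      simp [add_comm]
    · rw [Equiv.Perm.nat_card_centralizer]
      simpa using pow_padicValNat_dvd
  · obtain ⟨π, hπ⟩ := (Equiv.Perm.exists_with_cycleType_iff (Fin n)
      (m := Multiset.replicate (n / 2) 2)).2 ⟨by simp; omega, fun b hb => by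
        rw [Multiset.eq_of_mem_replicate hb]⟩
    have h4 : π * π = 1 := by
      rw [← sq, ← orderOf_dvd_iff_pow_eq_one, ← Equiv.Perm.lcm_cycleType, hπ, Multiset.lcm_dvd]
      intro b hb
      rw [Multiset.eq_of_mem_replicate hb]
    have h5 := count h4
    have h6 : (Finset.univ.filter fun i => π i = i).card + 2 * (n / 2) = n := by
      have h7 := Equiv.Perm.sum_cycleType π
      have h8 := Finset.card_filter_add_card_filter_not (s := (Finset.univ : Finset (Fin n)))
        (fun i => π i = i)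
      rw [hπ, Multiset.sum_replicate, smul_eq_mul, Equiv.Perm.support] at h7
      rw [Finset.card_univ, Fintype.card_fin] at h8
      simp only [ne_eq] at h7
      omega
    refine ⟨π, h4, le_trans ?_ (key π (padicValNat 2 n.factorial) h4 ?_)⟩
    · have h7 := vp_three hr h3 h1 h2 n
      rw [show (Finset.univ.filter fun i => i < π i).card = n / 2 by omega, h1, add_mul]
      omega
    · rw [Equiv.Perm.nat_card_centralizer, hπ, fact_half, add_comm, pow_add, mul_assoc,
        Multiset.prod_replicate]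
      refine Dvd.dvd.mul_left (mul_dvd_mul_left _ ?_) _
      rcases Nat.eq_zero_or_pos (n / 2) with h0 | h0
      · simp [h0]
      · rw [Multiset.toFinset_replicate, if_neg h0.ne', Finset.prod_singleton,
          Multiset.count_replicate_self]
        exact pow_padicValNat_dvd

theorem exists_root {K : Type*} [Field K] [Fintype K] (hK : (Fintype.card K : ℤ) = r ^ 2)
    (ha : padicValInt 2 (r ^ 2 - 1) = a + 1) : ∃ ω : Kˣ, IsPrimitiveRoot ω (2 ^ (a + 1)) ∧
      ω ^ r = ω ^ (r : ZMod (2 ^ (a + 1))).val := by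
  have h1 : 2 ^ (a + 1) ∣ Nat.card Kˣ := by
    have h2 := padicValInt_dvd (p := 2) (r ^ 2 - 1)
    rw [ha, ← hK] at h2
    rw [Nat.card_units, Nat.card_eq_fintype_card, ← Int.natCast_dvd_natCast,
      Nat.cast_sub Fintype.card_pos]
    exact_mod_cast h2
  obtain ⟨g, hg⟩ := IsCyclic.exists_ofOrder_eq_natCard (α := Kˣ)
  have h2 : orderOf (g ^ (orderOf g / 2 ^ (a + 1))) = 2 ^ (a + 1) :=
    orderOf_pow_orderOf_div (orderOf_pos g).ne' (hg ▸ h1)
  refine ⟨_, h2 ▸ IsPrimitiveRoot.orderOf _, ?_⟩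
  rw [← zpow_natCast _ (ZMod.val _), zpow_eq_zpow_iff_modEq, h2,
    ← ZMod.intCast_eq_intCast_iff]
  simp

/-- every odd 2-adic type is the type of a prime -/
theorem exists_prime_ad (hr : Odd r) (h3 : 2 ≤ |r|) : ∃ p : ℕ, p.Prime ∧ Odd p ∧ Ad r p := by
  obtain ⟨a, h2, ha⟩ := exists_a hr h3
  have od : ∀ {u : ℕ}, ¬ 2 ∣ u → Odd (u : ℤ) := fun h => by
    exact_mod_cast Nat.not_even_iff_odd.1 fun h' => h (even_iff_two_dvd.1 h')
  rcases cases hr h3 ha with ⟨h4, h5⟩ | ⟨h4, h5⟩
  · obtain ⟨p, u, v, hp, h6, h7, h8, hu, hv⟩ := TwoGrp.exists_prime_sub_one h2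
    refine ⟨p, hp, hp.odd_of_ne_two (by omega), h4.trans (val_eq ?_ (od hu)).symm,
      h5.trans (val_eq ?_ (od hv)).symm⟩
    · rw [h7]; push_cast; ring
    · exact_mod_cast (by rw [h8, pow_one] : p + 1 = 2 ^ 1 * v)
  · obtain ⟨p, u, v, hp, h6, h7, h8, hu, hv⟩ := TwoGrp.exists_prime_add_one h2
    refine ⟨p, hp, hp.odd_of_ne_two (by omega), h4.trans (val_eq ?_ (od hv)).symm,
      h5.trans (val_eq ?_ (od hu)).symm⟩
    · rw [h8]; push_cast; ring
    · exact_mod_cast h7

end CfsgLib.GHF
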