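import Mathlib
import Cfsg.Agent.Lib.GHF.Defs2

/-! Package MONS of `plans/GHF.md`: semisimple representations. -/

set_option autoImplicit false

namespace CfsgLib.GHF

open Subgroup Cfsg CfsgLib.W2 CfsgLib.Tech CfsgLib.PComp CfsgLib.Abel2 CfsgLib.L3K CfsgLib.GHD
open Matrix

section Modules

universe u

variable (K : Type*) [Field K] (A : Type*) [Ring A] [Algebra K A]

/-- the dimension of the space of module homomorphisms -/
noncomputable def hd (M N : Type*) [AddCommGroup M] [Module A M] [AddCommGroup N] [Module K N]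
    [Module A N] [IsScalarTower K A N] : ℕ := Module.finrank K (M →ₗ[A] N)

variable {K A}

section
variable {M M' N N' : Type*} [AddCommGroup M] [Module K M] [Module A M] [IsScalarTower K A M]
  [FiniteDimensional K M] [AddCommGroup M'] [Module K M'] [Module A M'] [IsScalarTower K A M']
  [FiniteDimensional K M'] [AddCommGroup N] [Module K N] [Module A N] [IsScalarTower K A N]
  [FiniteDimensional K N] [AddCommGroup N'] [Module K N'] [Module A N'] [IsScalarTower K A N']
  [FiniteDimensional K N']

omit [Module K M] [IsScalarTower K A M] [FiniteDimensional K M] [Module K M']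
  [IsScalarTower K A M'] [FiniteDimensional K M'] [FiniteDimensional K N] [FiniteDimensional K N'] in
theorem hd_congr (e : M ≃ₗ[A] M') (e' : N ≃ₗ[A] N') : hd K A M N = hd K A M' N' :=
  LinearEquiv.finrank_eq
    { e.arrowCongrAddEquiv e' with
      map_smul' := fun c f => LinearMap.ext fun x => e'.toLinearMap.map_smul_of_tower c _ }

theorem hd_prod_left : hd K A (M × M') N = hd K A M N + hd K A M' N := by
  rw [hd, hd, hd, ← Module.finrank_prod, (LinearMap.coprodEquiv K).finrank_eq]

theorem hd_prod_right : hd K A M (N × N') = hd K A M N + hd K A M N' := by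
  rw [hd, hd, hd, ← Module.finrank_prod, (LinearMap.prodEquiv K).finrank_eq]

theorem fd_sub (U : Submodule A M) : FiniteDimensional K U :=
  FiniteDimensional.of_injective (U.subtype.restrictScalars K) U.injective_subtype

theorem subsingleton_of_hd (h : hd K A M M = 0) : Subsingleton M := by
  have : Subsingleton (M →ₗ[A] M) := Module.finrank_zero_iff.1 h
  exact ⟨fun a b => by
    have e : (LinearMap.id : M →ₗ[A] M) = 0 := Subsingleton.elim _ _
    exact (DFunLike.congr_fun e a).trans (DFunLike.congr_fun e b).symm⟩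

end

theorem equiv_of_hd [IsSemisimpleRing A] (n : ℕ) :
    ∀ (M N : Type u) [AddCommGroup M] [Module K M] [Module A M] [IsScalarTower K A M]
      [FiniteDimensional K M] [AddCommGroup N] [Module K N] [Module A N] [IsScalarTower K A N]
      [FiniteDimensional K N], Module.finrank K M + Module.finrank K N = n →
      hd K A M M + hd K A N N ≤ hd K A M N + hd K A N M → Nonempty (M ≃ₗ[A] N) := by
  induction n using Nat.strong_induction_on with
  | _ n ih =>
  have key : ∀ (M N : Type u) [AddCommGroup M] [Module K M] [Module A M] [IsScalarTower K A M]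
      [FiniteDimensional K M] [AddCommGroup N] [Module K N] [Module A N] [IsScalarTower K A N]
      [FiniteDimensional K N], Module.finrank K M + Module.finrank K N = n →
      hd K A M M + hd K A N N ≤ hd K A M N + hd K A N M → ∀ f : M →ₗ[A] N, f ≠ 0 →
      Nonempty (M ≃ₗ[A] N) := by
    intro M N _ _ _ _ _ _ _ _ _ _ hn h f hf
    obtain ⟨C, hC⟩ := exists_isCompl (LinearMap.ker f)
    obtain ⟨N', hN'⟩ := exists_isCompl (LinearMap.range f)
    have := fd_sub (K := K) (LinearMap.ker f)
    have := fd_sub (K := K) (LinearMap.range f)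
    have := fd_sub (K := K) N'
    let e0 : C ≃ₗ[A] LinearMap.range f :=
      (Submodule.quotientEquivOfIsCompl _ _ hC).symm.trans f.quotKerEquivRange
    let e1 : M ≃ₗ[A] LinearMap.range f × LinearMap.ker f :=
      (Submodule.prodEquivOfIsCompl _ _ hC.symm).symm.trans (e0.prodCongr (.refl _ _))
    let e2 : N ≃ₗ[A] LinearMap.range f × N' := (Submodule.prodEquivOfIsCompl _ _ hN').symm
    rw [hd_congr e1 e1, hd_congr e2 e2, hd_congr e1 e2, hd_congr e2 e1] at h
    simp only [hd_prod_left, hd_prod_right] at h
    rw [(e1.restrictScalars K).finrank_eq, (e2.restrictScalars K).finrank_eq, Module.finrank_prod,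
      Module.finrank_prod] at hn
    have : Nontrivial (LinearMap.range f) :=
      Submodule.nontrivial_iff_ne_bot.2 (mt LinearMap.range_eq_bot.1 hf)
    have h0 : 0 < Module.finrank K (LinearMap.range f) := Module.finrank_pos
    obtain ⟨e3⟩ := ih _ (by omega) (LinearMap.ker f) N' rfl (by omega)
    exact ⟨e1.trans ((LinearEquiv.prodCongr (.refl _ _) e3).trans e2.symm)⟩
  intro M N _ _ _ _ _ _ _ _ _ _ hn h
  by_cases h1 : ∃ f : M →ₗ[A] N, f ≠ 0
  · obtain ⟨f, hf⟩ := h1
    exact key M N hn h f hf
  by_cases h2 : ∃ f : N →ₗ[A] M, f ≠ 0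
  · obtain ⟨f, hf⟩ := h2
    exact (key N M (by omega) (by omega) f hf).map .symm
  push Not at h1 h2
  have : Subsingleton (M →ₗ[A] N) := ⟨fun a b => (h1 a).trans (h1 b).symm⟩
  have : Subsingleton (N →ₗ[A] M) := ⟨fun a b => (h2 a).trans (h2 b).symm⟩
  have h3 : hd K A M N = 0 := Module.finrank_zero_of_subsingleton
  have h4 : hd K A N M = 0 := Module.finrank_zero_of_subsingleton
  have := subsingleton_of_hd (K := K) (A := A) (M := M) (by omega)
  have := subsingleton_of_hd (K := K) (A := A) (M := N) (by omega)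
  exact ⟨LinearEquiv.ofSubsingleton M N⟩

end Modules

variable {ι : Type} [Fintype ι] [DecidableEq ι] {K : Type*} [Field K] {P : Type*} [Group P]
  [Finite P]

/-- the linear representation given by a matrix representation -/
noncomputable def mrep (α : P →* GL ι K) : Representation K P (ι → K) :=
  (Matrix.toLinAlgEquiv' (R := K) (n := ι)).toMonoidHom.comp ((Units.coeHom _).comp α)

omit [Finite P] in
theorem mrep_apply (α : P →* GL ι K) (p : P) :
    mrep α p = Matrix.toLin' (α p : Matrix ι ι K) := rfl

/-- intertwining matrices are intertwining maps -/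
noncomputable def hmEquiv (α β : P →* GL ι K) :
    Hm α β ≃ₗ[K] (mrep α).IntertwiningMap (mrep β) where
  toFun m := ⟨Matrix.toLin' m.1, fun p => by
    rw [mrep_apply, mrep_apply, ← Matrix.toLin'_mul, ← Matrix.toLin'_mul, m.2 p]⟩
  invFun f := ⟨LinearMap.toMatrix' f.toLinearMap, fun p => Matrix.toLin'.injective (by
    rw [Matrix.toLin'_mul, Matrix.toLin'_mul, Matrix.toLin'_toMatrix']
    exact f.isIntertwining' p)⟩
  map_add' a b := Representation.IntertwiningMap.ext (map_add Matrix.toLin' a.1 b.1)
  map_smul' c a := Representation.IntertwiningMap.ext (map_smul Matrix.toLin' c a.1)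
  left_inv m := Subtype.ext (LinearMap.toMatrix'_toLin' _)
  right_inv f := Representation.IntertwiningMap.ext (Matrix.toLin'_toMatrix' _)

omit [Finite P] in
theorem finrank_hm (α β : P →* GL ι K) : Module.finrank K (Hm α β) =
    hd K (MonoidAlgebra K P) (mrep α).asModule (mrep β).asModule :=
  ((hmEquiv α β).trans (Representation.IntertwiningMap.equivLinearMapAsModule _ _)).finrank_eq

/-- two representations of a 2-group in odd characteristic with matching intertwining numbers
are conjugate -/
theorem conj_of_finrank (hP : IsPGroup 2 P) (h2 : (2 : K) ≠ 0) (α β : P →* GL ι K)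
    (h : Module.finrank K (Hm α α) + Module.finrank K (Hm β β) ≤
      Module.finrank K (Hm α β) + Module.finrank K (Hm β α)) :
    ∃ g : GL ι K, ∀ p, g * α p * g⁻¹ = β p := by
  have : NeZero (Nat.card P : K) := by
    obtain ⟨k, hk⟩ := hP.exists_card_eq
    exact ⟨by rw [hk]; push_cast; exact pow_ne_zero _ h2⟩
  simp only [finrank_hm] at h
  obtain ⟨e⟩ := equiv_of_hd _ _ _ rfl h
  let m := ((hmEquiv α β).trans
    (Representation.IntertwiningMap.equivLinearMapAsModule _ _)).symm e.toLinearMap
  have hm : ∀ v, Matrix.toLin' m.1 v = e v := fun v =>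
    DFunLike.congr_fun (((hmEquiv α β).trans
      (Representation.IntertwiningMap.equivLinearMapAsModule _ _)).apply_symm_apply e.toLinearMap) v
  have hu : IsUnit m.1 := by
    rw [← Matrix.mulVec_injective_iff_isUnit]
    intro a b hab
    exact e.injective ((hm a).symm.trans ((Matrix.toLin'_apply _ _).trans
      (hab.trans ((Matrix.toLin'_apply _ _).symm.trans (hm b)))))
  refine ⟨hu.unit, fun p => mul_inv_eq_iff_eq_mul.2 (Units.ext ?_)⟩
  exact m.2 p

/-- multiplication by units on both sides -/
def hmConj {α α' β β' : P →* GL ι K} {g h : GL ι K} (hg : ∀ p, g * α p * g⁻¹ = α' p)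
    (hh : ∀ p, h * β p * h⁻¹ = β' p) : Hm α β →ₗ[K] Hm α' β' where
  toFun m := ⟨(h : Matrix ι ι K) * m.1 * (g⁻¹ : GL ι K), fun p => by
    have e1 : ((g⁻¹ : GL ι K) : Matrix ι ι K) * (α' p : GL ι K) = (α p : GL ι K) * (g⁻¹ : GL ι K) := by
      rw [← Units.val_mul, ← Units.val_mul, ← hg p]; congr 1; group
    have e2 : ((β' p : GL ι K) : Matrix ι ι K) * h = h * (β p : GL ι K) := by
      rw [← Units.val_mul, ← Units.val_mul, ← hh p]; congr 1; group
    rw [mul_assoc, e1, ← mul_assoc, mul_assoc _ m.1, m.2 p, ← mul_assoc, ← e2]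
    simp only [mul_assoc]⟩
  map_add' a b := Subtype.ext (by simp [mul_add, add_mul])
  map_smul' c a := Subtype.ext (by simp)

omit [Finite P] in
theorem finrank_hm_le {α α' β β' : P →* GL ι K} {g h : GL ι K} (hg : ∀ p, g * α p * g⁻¹ = α' p)
    (hh : ∀ p, h * β p * h⁻¹ = β' p) :
    Module.finrank K (Hm α β) ≤ Module.finrank K (Hm α' β') := by
  refine LinearMap.finrank_le_finrank_of_injective (f := hmConj hg hh) fun a b e => Subtype.ext ?_
  have e1 : (h : Matrix ι ι K) * a.1 * (g⁻¹ : GL ι K) = (h : Matrix ι ι K) * b.1 * (g⁻¹ : GL ι K) :=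
    congrArg Subtype.val e
  rwa [Units.mul_left_inj, Units.mul_right_inj] at e1

omit [Finite P] in
theorem finrank_of_conj (α β : P →* GL ι K) {g : GL ι K} (hg : ∀ p, g * α p * g⁻¹ = β p) :
    Module.finrank K (Hm α α) + Module.finrank K (Hm β β) ≤
      Module.finrank K (Hm α β) + Module.finrank K (Hm β α) := by
  have h1 : ∀ γ : P →* GL ι K, ∀ p, 1 * γ p * 1⁻¹ = γ p := fun γ p => by group
  have h2 : ∀ p, g⁻¹ * β p * g⁻¹⁻¹ = α p := fun p => by rw [← hg p]; group
  exact add_le_add (finrank_hm_le (h1 α) hg) (finrank_hm_le (h1 β) h2)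

end CfsgLib.GHF
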