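import Mathlib
import Cfsg.Agent.Lib.GHF.MonS

/-! Package MONH of `plans/GHF.md`: monomial representations. -/

set_option autoImplicit false

namespace CfsgLib.GHF

open Subgroup Cfsg CfsgLib.W2 CfsgLib.Tech CfsgLib.PComp CfsgLib.Abel2 CfsgLib.L3K CfsgLib.GHD
open Matrix

variable {ι : Type} [Fintype ι] [DecidableEq ι] {K K' : Type*} [Field K] [Field K'] {N a : ℕ}
  {ω : Kˣ} {ω' : K'ˣ}

theorem mh_pm (σ : Equiv.Perm ι) (i j : ι) :
    (pm K σ : Matrix ι ι K) i j = if i = σ j then 1 else 0 := by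
  change (σ⁻¹.permMatrix K) i j = _
  simp [Equiv.Perm.permMatrix, PEquiv.toMatrix_apply, Equiv.toPEquiv_apply, Equiv.Perm.inv_def,
    Equiv.symm_apply_eq]

theorem mh_dgm (d : ι → Kˣ) : (dgm d : Matrix ι ι K) = diagonal fun i => (d i : K) := rfl

theorem mh_mul_pm (m : Matrix ι ι K) (σ : Equiv.Perm ι) (i j : ι) :
    (m * (pm K σ : Matrix ι ι K)) i j = m i (σ j) := by
  simp [mul_apply, mh_pm]

theorem mh_pm_mul (m : Matrix ι ι K) (σ : Equiv.Perm ι) (i j : ι) :
    ((pm K σ : Matrix ι ι K) * m) (σ i) j = m i j := by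
  simp [mul_apply, mh_pm]

theorem pm_conj (σ : Equiv.Perm ι) (d : ι → Kˣ) :
    pm K σ * dgm d * (pm K σ)⁻¹ = dgm fun i => d (σ.symm i) := by
  rw [mul_inv_eq_iff_eq_mul]
  ext i j
  obtain ⟨i, rfl⟩ := σ.surjective i
  rw [Units.val_mul, Units.val_mul, mh_pm_mul, mh_mul_pm, mh_dgm, mh_dgm]
  simp [diagonal_apply]

theorem det_dgm (d : ι → Kˣ) : GeneralLinearGroup.det (dgm d) = ∏ i, d i := by
  ext
  rw [GeneralLinearGroup.val_det_apply, mh_dgm, det_diagonal, Units.coe_prod]

/-- the character `x ↦ ω ^ x` -/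
def mhChi [NeZero N] (hω : ω ^ N = 1) : Multiplicative (ZMod N) →* Kˣ :=
  (AddChar.zmodChar N hω).toMonoidHom

theorem mhChi_apply [NeZero N] (hω : ω ^ N = 1) (x : Multiplicative (ZMod N)) :
    mhChi hω x = ω ^ (Multiplicative.toAdd x).val := rfl

theorem mhChi_inj [NeZero N] (hω : IsPrimitiveRoot ω N) : Function.Injective (mhChi hω.pow_eq_one) :=
  fun x y h => Multiplicative.toAdd.injective (ZMod.val_injective N
    (hω.pow_inj (ZMod.val_lt _) (ZMod.val_lt _) h))

theorem exists_mono [NeZero N] (hω : ω ^ N = 1) : ∃ ρ : Mono ι N →* GL ι K, IsMono ω ρ := by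
  refine ⟨SemidirectProduct.lift (dgm.comp ((mhChi hω).compLeft ι)) (pm K) fun σ => ?_, fun u => rfl⟩
  ext1 d
  exact (pm_conj σ fun i => mhChi hω (d i)).symm

theorem mh_half (hω : IsPrimitiveRoot ω (2 ^ (a + 1))) : IsPrimitiveRoot ((ω : K) ^ 2 ^ a) 2 :=
  (IsPrimitiveRoot.coe_units_iff.2 hω).pow (by positivity) (pow_succ 2 a)

theorem two_ne_of_root (hω : IsPrimitiveRoot ω (2 ^ (a + 1))) : (2 : K) ≠ 0 := by
  intro h
  have h1 := (mh_half hω).eq_neg_one_of_two_right
  exact (mh_half hω).ne_one one_lt_two (by rw [h1]; linear_combination -h)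

/-- functions transforming by a cocycle -/
theorem finrank_cocycle {P X B V : Type*} [Group P] [MulAction P X] [Finite X] [CommGroup B]
    [AddCommGroup V] [Module K V] (c : P → X → B)
    (hc : ∀ p q x, c (p * q) x = c p (q • x) * c q x) (χ : B →* Kˣ) (hχ : Function.Injective χ)
    (e : V ≃ₗ[K] (X → K)) (W : Submodule K V)
    (hW : ∀ m, m ∈ W ↔ ∀ p x, e m (p • x) = χ (c p x) * e m x) :
    Module.finrank K W = Nat.card {o : MulAction.orbitRel.Quotient P X //
      ∀ p : P, p • o.out = o.out → c p o.out = 1} := by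
  classical
  set G := {o : MulAction.orbitRel.Quotient P X // ∀ p : P, p • o.out = o.out → c p o.out = 1}
  have := Fintype.ofFinite G
  let ev : W →ₗ[K] (G → K) := LinearMap.pi fun o =>
    (LinearMap.proj o.1.out).comp (e.toLinearMap.comp W.subtype)
  have hev : ∀ (m : W) (o : G), ev m o = e m o.1.out := fun _ _ => rfl
  have ht : ∀ x : X, ∃ t : P, t • (Quotient.mk'' x : MulAction.orbitRel.Quotient P X).out = x :=
    fun x => (MulAction.orbitRel P X).symm (Quotient.mk_out' (s₁ := MulAction.orbitRel P X) x)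
  choose t ht using ht
  rw [Nat.card_eq_fintype_card, ← Module.finrank_fintype_fun_eq_card K]
  refine (LinearEquiv.ofBijective ev ⟨?_, fun f => ?_⟩).finrank_eq
  · rw [injective_iff_map_eq_zero]
    intro m hm
    refine Subtype.ext (e.injective (funext fun x => ?_))
    have h1 : e m (Quotient.mk'' x : MulAction.orbitRel.Quotient P X).out = 0 := by
      by_cases h : ∀ p : P, p • (Quotient.mk'' x : MulAction.orbitRel.Quotient P X).out =
          (Quotient.mk'' x : MulAction.orbitRel.Quotient P X).out → c p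
            (Quotient.mk'' x : MulAction.orbitRel.Quotient P X).out = 1
      · exact congrFun hm ⟨_, h⟩
      · push Not at h
        obtain ⟨p, h1, h2⟩ := h
        have h3 := (hW m).1 m.2 p (Quotient.mk'' x : MulAction.orbitRel.Quotient P X).out
        rw [h1] at h3
        by_contra h4
        exact h2 (hχ (Units.ext (by rw [map_one]; exact (mul_eq_right₀ h4).1 h3.symm)))
    rw [← ht x, (hW m).1 m.2, h1, mul_zero, ZeroMemClass.coe_zero, map_zero, Pi.zero_apply]
  · let f' : MulAction.orbitRel.Quotient P X → K := fun o =>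
      if h : ∀ p : P, p • o.out = o.out → c p o.out = 1 then f ⟨o, h⟩ else 0
    let g : X → K := fun x =>
      χ (c (t x) (Quotient.mk'' x : MulAction.orbitRel.Quotient P X).out) * f' (Quotient.mk'' x)
    refine ⟨⟨e.symm g, (hW _).2 fun p x => ?_⟩, funext fun o => ?_⟩
    · have h0 : (Quotient.mk'' (p • x) : MulAction.orbitRel.Quotient P X) = Quotient.mk'' x :=
        Quotient.sound' (MulAction.mem_orbit x p)
      have h1 := ht (p • x)
      have h2 := ht x
      rw [e.apply_symm_apply]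
      simp only [g]
      rw [h0] at h1 ⊢
      generalize (Quotient.mk'' x : MulAction.orbitRel.Quotient P X) = o at h1 h2
      by_cases h : ∀ p : P, p • o.out = o.out → c p o.out = 1
      · have h3 : ((p * t x)⁻¹ * t (p • x)) • o.out = o.out := by
          rw [mul_smul, h1, inv_smul_eq_iff, mul_smul, h2]
        have h4 := hc (p * t x) ((p * t x)⁻¹ * t (p • x)) o.out
        rw [mul_inv_cancel_left, h _ h3, h3, mul_one, hc, h2] at h4
        rw [h4, map_mul, Units.val_mul, mul_assoc]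
      · simp only [f', dif_neg h, mul_zero]
    · have h1 := ht o.1.out
      rw [hev, e.apply_symm_apply]
      simp only [g]
      rw [Quotient.out_eq'] at h1 ⊢
      rw [o.2 _ h1, map_one, Units.val_one, one_mul]
      exact dif_pos o.2

section

variable [NeZero N] {ρ : Mono ι N →* GL ι K} {ρ' : Mono ι N →* GL ι K'}

theorem IsMono.entry (hρ : IsMono ω ρ) (hω : ω ^ N = 1) (u : Mono ι N) (i j : ι) :
    (ρ u : Matrix ι ι K) i j = if i = u.right j then (mhChi hω (u.left i) : K) else 0 := by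
  rw [hρ u, Units.val_mul, mh_mul_pm, mh_dgm, diagonal_apply]
  rfl

theorem IsMono.scalar (hρ : IsMono ω ρ) (hω : ω ^ N = 1) {u : Mono ι N} {r : K}
    (h : scalar ι r = (ρ u : Matrix ι ι K)) : u.right = 1 ∧ ∀ i, (mhChi hω (u.left i) : K) = r := by
  have h1 : ∀ j, u.right j = j := fun j => by
    by_contra h1
    have := congrFun (congrFun h (u.right j)) j
    rw [hρ.entry hω, if_pos rfl, scalar_apply, diagonal_apply_ne _ h1] at this
    exact Units.ne_zero _ this.symm
  refine ⟨Equiv.ext h1, fun i => ?_⟩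
  have := congrFun (congrFun h i) i
  rw [hρ.entry hω, if_pos (h1 i).symm, scalar_apply, diagonal_apply_eq] at this
  exact this.symm

theorem IsMono.inj (hρ : IsMono ω ρ) (hω : IsPrimitiveRoot ω N) : Function.Injective ρ := by
  rw [injective_iff_map_eq_one]
  intro u hu
  obtain ⟨h1, h2⟩ := hρ.scalar hω.pow_eq_one (u := u) (r := 1) (by rw [hu, map_one, Units.val_one])
  exact SemidirectProduct.ext (funext fun i => mhChi_inj hω (Units.ext (by
    rw [h2, SemidirectProduct.one_left, Pi.one_apply, map_one, Units.val_one]))) h1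

theorem IsMono.center (hρ : IsMono ω ρ) (hω : IsPrimitiveRoot ω N) (u : Mono ι N) :
    ρ u ∈ center (GL ι K) ↔ u.right = 1 ∧ ∀ i j, u.left i = u.left j := by
  rw [GeneralLinearGroup.mem_center_iff_val_mem_range_scalar]
  constructor
  · rintro ⟨r, hr⟩
    obtain ⟨h1, h2⟩ := hρ.scalar hω.pow_eq_one hr
    exact ⟨h1, fun i j => mhChi_inj hω (Units.ext ((h2 i).trans (h2 j).symm))⟩
  · rintro ⟨h1, h2⟩
    rcases isEmpty_or_nonempty ι with h | ⟨⟨k⟩⟩
    · exact ⟨1, Subsingleton.elim _ _⟩
    · refine ⟨mhChi hω.pow_eq_one (u.left k), ?_⟩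
      ext i j
      rw [hρ.entry hω.pow_eq_one, h1, scalar_apply, diagonal_apply, h2 i k]
      rfl

/-- the action on pairs of coordinates -/
@[reducible] def mhAct {P : Type*} [Group P] (α β : P →* Mono ι N) : MulAction P (ι × ι) where
  smul p x := ((β p).right x.1, (α p).right x.2)
  one_smul x := by
    change ((β 1).right x.1, (α 1).right x.2) = x
    simp
  mul_smul p q x := by
    change ((β (p * q)).right x.1, (α (p * q)).right x.2) =
      ((β p).right ((β q).right x.1), (α p).right ((α q).right x.2))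
    simp

theorem IsMono.finrank_card (hρ : IsMono ω ρ) (hω : IsPrimitiveRoot ω N) {P : Type*} [Group P]
    (α β : P →* Mono ι N) : letI := mhAct α β
    Module.finrank K (Hm (ρ.comp α) (ρ.comp β)) = Nat.card {o : MulAction.orbitRel.Quotient P (ι × ι) //
      ∀ p : P, p • o.out = o.out →
        (β p).left ((β p).right o.out.1) / (α p).left ((α p).right o.out.2) = 1} := by
  let _ := mhAct α β
  have hs : ∀ (p : P) (x : ι × ι), p • x = ((β p).right x.1, (α p).right x.2) := fun _ _ => rfl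
  refine finrank_cocycle
    (fun p x => (β p).left ((β p).right x.1) / (α p).left ((α p).right x.2)) (fun p q x => ?_)
    (mhChi hω.pow_eq_one) (mhChi_inj hω)
    ((ofLinearEquiv K).symm.trans (LinearEquiv.curry K K ι ι).symm) _ fun m => ?_
  · simp only [hs, map_mul, SemidirectProduct.mul_left, SemidirectProduct.mul_right, Pi.mul_apply,
      pact_apply, Equiv.Perm.mul_apply, Equiv.symm_apply_apply]
    exact mul_div_mul_comm _ _ _ _
  · refine forall_congr' fun p => ?_
    have k1 : ∀ i j, (m * (ρ (α p) : Matrix ι ι K)) i j =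
        m i ((α p).right j) * mhChi hω.pow_eq_one ((α p).left ((α p).right j)) := fun i j => by
      simp [mul_apply, hρ.entry hω.pow_eq_one]
    have k2 : ∀ i j, ((ρ (β p) : Matrix ι ι K) * m) ((β p).right i) j =
        mhChi hω.pow_eq_one ((β p).left ((β p).right i)) * m i j := fun i j => by
      simp [mul_apply, hρ.entry hω.pow_eq_one]
    have k3 : ∀ x : ι × ι, (m * (ρ (α p) : Matrix ι ι K)) ((β p).right x.1) x.2 =
        ((ρ (β p) : Matrix ι ι K) * m) ((β p).right x.1) x.2 ↔
        m ((β p).right x.1) ((α p).right x.2) = mhChi hω.pow_eq_one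
          ((β p).left ((β p).right x.1) / (α p).left ((α p).right x.2)) * m x.1 x.2 := fun x => by
      rw [k1, k2, map_div, Units.val_div_eq_div_val, div_mul_eq_mul_div, eq_div_iff (Units.ne_zero _)]
    constructor
    · intro h x
      exact (k3 x).1 (congrFun (congrFun h _) _)
    · intro h
      ext i j
      obtain ⟨i, rfl⟩ := (β p).right.surjective i
      exact (k3 (i, j)).2 (h (i, j))

/-- the intertwining numbers do not depend on the field -/
theorem IsMono.finrank_eq (hρ : IsMono ω ρ) (hρ' : IsMono ω' ρ') (hω : IsPrimitiveRoot ω N)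
    (hω' : IsPrimitiveRoot ω' N) {P : Type*} [Group P] (α β : P →* Mono ι N) :
    Module.finrank K (Hm (ρ.comp α) (ρ.comp β)) =
      Module.finrank K' (Hm (ρ'.comp α) (ρ'.comp β)) := by
  rw [hρ.finrank_card hω, hρ'.finrank_card hω']

end

variable {ρ : Mono ι (2 ^ (a + 1)) →* GL ι K} {ρ' : Mono ι (2 ^ (a + 1)) →* GL ι K'}

theorem IsMono.det_eq (hρ : IsMono ω ρ) (hω : IsPrimitiveRoot ω (2 ^ (a + 1)))
    (u : Mono ι (2 ^ (a + 1))) : GeneralLinearGroup.det (ρ u) = mhChi hω.pow_eq_one ((∏ i, u.left i) *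
      if Equiv.Perm.sign u.right = 1 then 1 else
        Multiplicative.ofAdd ((2 ^ a : ℕ) : ZMod (2 ^ (a + 1)))) := by
  rw [hρ u, map_mul, map_mul, det_dgm, map_prod]
  congr 1
  ext
  rw [GeneralLinearGroup.val_det_apply]
  change det (u.right⁻¹.permMatrix K) = _
  rw [det_permutation, Equiv.Perm.sign_inv]
  rcases Int.units_eq_one_or (Equiv.Perm.sign u.right) with h | h
  · simp [h]
  · rw [h, if_neg (by decide), mhChi_apply, toAdd_ofAdd, ZMod.val_natCast,
      Nat.mod_eq_of_lt (Nat.pow_lt_pow_right one_lt_two (Nat.lt_succ_self a)), Units.val_pow_eq_pow_val,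
      (mh_half hω).eq_neg_one_of_two_right]
    simp

theorem IsMono.det_iff (hρ : IsMono ω ρ) (hρ' : IsMono ω' ρ')
    (hω : IsPrimitiveRoot ω (2 ^ (a + 1))) (hω' : IsPrimitiveRoot ω' (2 ^ (a + 1)))
    (u : Mono ι (2 ^ (a + 1))) : ρ u ∈ SD ι K ↔ ρ' u ∈ SD ι K' := by
  rw [MonoidHom.mem_ker, MonoidHom.mem_ker, hρ.det_eq hω, hρ'.det_eq hω',
    map_eq_one_iff _ (mhChi_inj hω), map_eq_one_iff _ (mhChi_inj hω')]

theorem IsMono.transfer (hρ : IsMono ω ρ) (hρ' : IsMono ω' ρ')
    (hω : IsPrimitiveRoot ω (2 ^ (a + 1))) (hω' : IsPrimitiveRoot ω' (2 ^ (a + 1)))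
    {P : Type*} [Group P] [Finite P] (hP : IsPGroup 2 P) (α β : P →* Mono ι (2 ^ (a + 1)))
    {g : GL ι K} (hg : ∀ p, g * ρ (α p) * g⁻¹ = ρ (β p)) :
    ∃ g' : GL ι K', ∀ p, g' * ρ' (α p) * g'⁻¹ = ρ' (β p) := by
  have h := finrank_of_conj (ρ.comp α) (ρ.comp β) hg
  simp only [hρ.finrank_eq hρ' hω hω'] at h
  exact conj_of_finrank hP (two_ne_of_root hω') (ρ'.comp α) (ρ'.comp β) h

end CfsgLib.GHF
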