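import Mathlib
import Cfsg.Agent.Lib.GHF.MonH
import Cfsg.Agent.Lib.GHF.CorA

/-! Package TW of `plans/GHF.md`: twisting and descent. -/

set_option autoImplicit false

namespace CfsgLib.GHF

open Subgroup Cfsg CfsgLib.W2 CfsgLib.Tech CfsgLib.PComp CfsgLib.Abel2 CfsgLib.L3K CfsgLib.GHD
open Matrix

variable {ι : Type} [Fintype ι] [DecidableEq ι] {K K' : Type*} [Field K] [Field K'] {a : ℕ}
  {A : Subgroup (GL ι K)} {φ : GL ι K →* GL ι K} {τ : Kˣ →* Kˣ} {ω : Kˣ}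
  {A' : Subgroup (GL ι K')} {φ' : GL ι K' →* GL ι K'} {τ' : K'ˣ →* K'ˣ} {ω' : K'ˣ}
  {ρ : Mono ι (2 ^ (a + 1)) →* GL ι K} {ρ' : Mono ι (2 ^ (a + 1)) →* GL ι K'}
  {e : ZMod (2 ^ (a + 1))} {π : Equiv.Perm ι} {h : GL ι K}

theorem Fr.exists_twist (hA : Fr A φ τ) (hπ : π * π = 1) : ∃ h, φ h = h * pm K π := by
  obtain ⟨d, hd, -⟩ := hA.h90 (pm K π) (by rw [hA.perm, ← map_mul, hπ, map_one])
  exact ⟨d, hd⟩

theorem Fr.twist_mem (hA : Fr A φ τ) (hρ : IsMono ω ρ) (hω : IsPrimitiveRoot ω (2 ^ (a + 1)))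
    (he : τ ω = ω ^ e.val) (hπ : π * π = 1) (hh : φ h = h * pm K π) {u : Mono ι (2 ^ (a + 1))}
    (hu : u ∈ GHF.UU (2 ^ (a + 1)) e π) : h * ρ u * h⁻¹ ∈ A := by
  have h1 : pm K π * φ (ρ u) * (pm K π)⁻¹ = ρ u := by
    rw [hρ u, map_mul, hA.diag, hA.perm, ← mul_assoc, mul_assoc _ (pm K u.right),
      show pm K u.right * (pm K π)⁻¹ = (pm K π)⁻¹ * pm K u.right by
        rw [mul_inv_eq_iff_eq_mul, mul_assoc, ← map_mul, hu.1, map_mul, inv_mul_cancel_left],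
      ← mul_assoc, pm_conj]
    congr 2
    funext i
    have h2 := hu.2 (π.symm i)
    rw [Equiv.apply_symm_apply] at h2
    rw [map_pow, he, ← pow_mul, h2, ZMod.val_mul]
    exact pow_eq_pow_mod _ hω.pow_eq_one
  rw [hA.mem, map_mul, map_mul, map_inv, hh]
  conv_rhs => rw [← h1]
  group

theorem Fr.descent (hA : Fr A φ τ) {S : Set (GL ι K)} (hS : S ⊆ A) {g : GL ι K}
    (hg : ∀ s ∈ S, g * s * g⁻¹ ∈ A) : ∃ g' ∈ A, ∀ s ∈ S, g' * s * g'⁻¹ = g * s * g⁻¹ := by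
  obtain ⟨d, hd, hc⟩ := hA.h90 (g⁻¹ * φ g) (by rw [map_mul, map_inv, hA.invol]; group)
  refine ⟨g * d⁻¹, (hA.mem _).2 (by rw [map_mul, map_inv, hd]; group), fun s hs => ?_⟩
  have h1 := (hA.mem _).1 (hg s hs)
  rw [map_mul, map_mul, map_inv, (hA.mem s).1 (hS hs)] at h1
  have h2 := hc s (by
    calc s * (g⁻¹ * φ g) = g⁻¹ * (g * s * g⁻¹) * φ g := by group
      _ = _ := by rw [← h1]; group)
  calc g * d⁻¹ * s * (g * d⁻¹)⁻¹ = g * d⁻¹ * (s * d) * g⁻¹ := by group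
    _ = _ := by rw [h2]; group

theorem Fr.exists_det [Nonempty ι] (hA : Fr A φ τ) (hρ : IsMono ω ρ) (hπ : π * π = 1)
    (hh : φ h = h * pm K π) {U : Subgroup (Mono ι (2 ^ (a + 1)))}
    (hU : U ≤ GHF.UU (2 ^ (a + 1)) e π) (h2 : IsPGroup 2 U) {μ : Kˣ} (h1 : τ μ = μ)
    (ho : Odd (orderOf μ)) : ∃ c ∈ A, GeneralLinearGroup.det c = μ ∧
      ∀ u ∈ U, c * (h * ρ u * h⁻¹) = h * ρ u * h⁻¹ * c := by
  classical
  obtain ⟨i0⟩ := ‹Nonempty ι›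
  have hQ : IsPGroup 2 (U.map SemidirectProduct.rightHom ⊔ zpowers π : Subgroup (Equiv.Perm ι)) :=
    IsPGroup.to_sup_of_normal_right' (h2.map _)
      (isPGroup_zpowers_of_pow (k := 1) (by rw [pow_one, pow_two, hπ])) (by
        rintro _ ⟨u, hu, rfl⟩
        refine mem_normalizer_of_forall ?_
        rintro _ ⟨n, rfl⟩
        have h3 : Commute u.right π := (hU hu).1
        change u.right * π ^ n * u.right⁻¹ ∈ _
        rw [(h3.zpow_right n).eq, mul_inv_cancel_right]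
        exact zpow_mem_zpowers _ _)
  generalize hQe : (U.map SemidirectProduct.rightHom ⊔ zpowers π : Subgroup (Equiv.Perm ι)) = Q at hQ
  have q1 : π ∈ Q := hQe ▸ mem_sup_right (mem_zpowers π)
  have q2 : ∀ u ∈ U, u.right ∈ Q := fun u hu => hQe ▸ mem_sup_left ⟨u, hu, rfl⟩
  obtain ⟨k, hk⟩ := hQ.card_orbit i0
  obtain ⟨m, hm⟩ := exists_pow_eq_self_of_coprime (x := μ) (n := 2 ^ k)
    (Nat.Coprime.pow_left k (Nat.coprime_two_left.2 ho))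
  let f : ι → Kˣ := fun i => if i ∈ MulAction.orbit Q i0 then μ ^ m else 1
  have hf : ∀ σ ∈ Q, pm K σ * dgm f = dgm f * pm K σ := fun σ hσ => by
    rw [← mul_inv_eq_iff_eq_mul, pm_conj]
    congr 1
    funext i
    have : σ.symm i ∈ MulAction.orbit Q i0 ↔ i ∈ MulAction.orbit Q i0 := by
      refine ⟨fun h => ?_, fun h => MulAction.mapsTo_smul_orbit (⟨σ, hσ⟩⁻¹ : Q) i0 h⟩
      have := MulAction.mapsTo_smul_orbit (⟨σ, hσ⟩ : Q) i0 h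
      change σ (σ.symm i) ∈ _ at this
      rwa [Equiv.apply_symm_apply] at this
    simp only [f, this]
  refine ⟨h * dgm f * h⁻¹, (hA.mem _).2 ?_, ?_, fun u hu => ?_⟩
  · have h3 : (fun i => τ (f i)) = f := funext fun i => by
      simp only [f]
      split_ifs
      · rw [map_pow, h1]
      · exact map_one τ
    rw [map_mul, map_mul, map_inv, hh, hA.diag, h3, mul_assoc h, hf π q1]
    group
  · rw [map_mul, map_mul, map_inv, mul_inv_cancel_comm, det_dgm, Finset.prod_ite, Finset.prod_const,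
      Finset.prod_const_one, mul_one, ← Fintype.card_subtype, ← Nat.card_eq_fintype_card, hk,
      ← pow_mul, mul_comm, pow_mul, hm]
  · have h3 : dgm f * ρ u = ρ u * dgm f := by
      rw [hρ u, mul_assoc, hf _ (q2 u hu), ← mul_assoc, ← mul_assoc, ← map_mul, mul_comm f, map_mul]
    calc h * dgm f * h⁻¹ * (h * ρ u * h⁻¹) = h * (dgm f * ρ u) * h⁻¹ := by group
      _ = _ := by rw [h3]; group

variable [Finite K] [Finite K']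

namespace Tw

variable {h' : GL ι K'} {U : Subgroup (Mono ι (2 ^ (a + 1)))} {D : Subgroup (GL ι K × GL ι K')}

omit [Finite K'] in
theorem syl (hA : Fr A φ τ) (hρ : IsMono ω ρ) (hω : IsPrimitiveRoot ω (2 ^ (a + 1)))
    (he : τ ω = ω ^ e.val) (hπ : π * π = 1)
    (ho : (Nat.card A).factorization 2 ≤ (Nat.card (GHF.UU (2 ^ (a + 1)) e π)).factorization 2)
    (hh : φ h = h * pm K π) (hU : IsSylowIn 2 U (GHF.UU (2 ^ (a + 1)) e π))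
    (hD : ∀ x y, (x, y) ∈ D ↔ ∃ u ∈ U, x = h * ρ u * h⁻¹ ∧ y = h' * ρ' u * h'⁻¹) :
    IsSylowIn 2 (p1 D) A := by
  have : Finite (Mono ι (2 ^ (a + 1))) := Finite.of_injective ρ (hρ.inj hω)
  have h1 : p1 D = cj h (U.map ρ) := by
    ext x
    rw [mem_p1, mem_cj]
    constructor
    · rintro ⟨y, hy⟩
      obtain ⟨u, hu, rfl, -⟩ := (hD _ _).1 hy
      exact ⟨u, hu, by group⟩
    · rintro ⟨u, hu, e⟩
      exact ⟨_, (hD _ _).2 ⟨u, hu, by rw [e]; group, rfl⟩⟩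
  obtain ⟨T, hT⟩ := exists_isSylowIn 2 A
  rw [h1]
  refine hT.of_card_le (isPGroup_cj _ (hU.pgroup.map _)) (cj_le_iff.2 ?_) ?_
  · rintro _ ⟨u, hu, rfl⟩
    exact hA.twist_mem hρ hω he hπ hh (hU.le hu)
  · rw [card_cj, card_map_of_injective (hρ.inj hω), hT.card_eq_pow, hU.card_eq_pow]
    exact Nat.pow_le_pow_right two_pos ho

omit [Finite K] [Finite K'] in
theorem inj (hρ' : IsMono ω' ρ') (hω' : IsPrimitiveRoot ω' (2 ^ (a + 1)))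
    (hD : ∀ x y, (x, y) ∈ D ↔ ∃ u ∈ U, x = h * ρ u * h⁻¹ ∧ y = h' * ρ' u * h'⁻¹) (x : GL ι K)
    (hx : (x, (1 : GL ι K')) ∈ D) : x = 1 := by
  obtain ⟨u, -, rfl, e⟩ := (hD _ _).1 hx
  have h1 : u = 1 := hρ'.inj hω' (by rw [map_one]; exact conj_eq_one_iff.1 e.symm)
  rw [h1, map_one, mul_one, mul_inv_cancel]

omit [Finite K'] in
theorem tr (hA' : Fr A' φ' τ') (hρ : IsMono ω ρ) (hρ' : IsMono ω' ρ')
    (hω : IsPrimitiveRoot ω (2 ^ (a + 1))) (hω' : IsPrimitiveRoot ω' (2 ^ (a + 1)))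
    (he' : τ' ω' = ω' ^ e.val) (hπ : π * π = 1) (hh' : φ' h' = h' * pm K' π)
    (hU : U ≤ GHF.UU (2 ^ (a + 1)) e π) (h2 : IsPGroup 2 U)
    (hD : ∀ x y, (x, y) ∈ D ↔ ∃ u ∈ U, x = h * ρ u * h⁻¹ ∧ y = h' * ρ' u * h'⁻¹) :
    ∀ V ≤ D, ∀ g ∈ A, cj g (p1 V) ≤ p1 D → ∃ γ ∈ A', cj (g, γ) V ≤ D := by
  intro V hV g _ hc
  have : Finite (Mono ι (2 ^ (a + 1))) := Finite.of_injective ρ (hρ.inj hω)
  let P : Subgroup (Mono ι (2 ^ (a + 1))) := U ⊓ V.comap (((MulAut.conj h).toMonoidHom.comp ρ).prod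
    ((MulAut.conj h').toMonoidHom.comp ρ'))
  have h1 : ∀ p : P, ∃ u ∈ U, h⁻¹ * g * h * ρ p * (h⁻¹ * g * h)⁻¹ = ρ u := fun p => by
    obtain ⟨y, hy⟩ := mem_p1.1 (cj_le_iff.1 hc (h * ρ p * h⁻¹) (mem_p1.2 ⟨_, p.2.2⟩))
    obtain ⟨u, hu, e, -⟩ := (hD _ _).1 hy
    refine ⟨u, hu, ?_⟩
    calc _ = h⁻¹ * (g * (h * ρ p * h⁻¹) * g⁻¹) * h := by group
      _ = _ := by rw [e]; group
  choose b hb hb' using h1
  let β : P →* Mono ι (2 ^ (a + 1)) := MonoidHom.mk' b fun p q => hρ.inj hω (by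
    rw [map_mul, ← hb', ← hb', ← hb', coe_mul, map_mul]; group)
  obtain ⟨g', hg'⟩ := hρ.transfer hρ' hω hω' (h2.to_le (inf_le_left : P ≤ U)) P.subtype β hb'
  have h3 : ∀ p : P, h' * g' * h'⁻¹ * (h' * ρ' p * h'⁻¹) * (h' * g' * h'⁻¹)⁻¹ =
      h' * ρ' (b p) * h'⁻¹ := fun p => by
    have h4 : g' * ρ' p * g'⁻¹ = ρ' (b p) := hg' p
    rw [← h4]; group
  obtain ⟨γ, hγ, h4⟩ := hA'.descent (S := Set.range fun p : P => h' * ρ' p * h'⁻¹)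
    (g := h' * g' * h'⁻¹) (by
      rintro _ ⟨p, rfl⟩
      exact hA'.twist_mem hρ' hω' he' hπ hh' (hU p.2.1)) (by
      rintro _ ⟨p, rfl⟩
      rw [h3]
      exact hA'.twist_mem hρ' hω' he' hπ hh' (hU (hb p)))
  refine ⟨γ, hγ, cj2_le.2 fun x y hxy => ?_⟩
  obtain ⟨u, hu, rfl, rfl⟩ := (hD _ _).1 (hV hxy)
  refine (hD _ _).2 ⟨b ⟨u, hu, hxy⟩, hb _, ?_, (h4 _ ⟨⟨u, hu, hxy⟩, rfl⟩).trans (h3 ⟨u, hu, hxy⟩)⟩
  rw [← hb']
  group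

end Tw

theorem cor_gl (hA : Fr A φ τ) (hA' : Fr A' φ' τ') (hρ : IsMono ω ρ) (hρ' : IsMono ω' ρ')
    (hω : IsPrimitiveRoot ω (2 ^ (a + 1))) (hω' : IsPrimitiveRoot ω' (2 ^ (a + 1)))
    (he : τ ω = ω ^ e.val) (he' : τ' ω' = ω' ^ e.val) (hπ : π * π = 1)
    (ho : (Nat.card A).factorization 2 ≤ (Nat.card (GHF.UU (2 ^ (a + 1)) e π)).factorization 2)
    (ho' : (Nat.card A').factorization 2 ≤ (Nat.card (GHF.UU (2 ^ (a + 1)) e π)).factorization 2) :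
    ∃ (h : GL ι K) (h' : GL ι K') (U : Subgroup (Mono ι (2 ^ (a + 1))))
      (D : Subgroup (GL ι K × GL ι K')), φ h = h * pm K π ∧ φ' h' = h' * pm K' π ∧
      U ≤ GHF.UU (2 ^ (a + 1)) e π ∧ IsPGroup 2 U ∧ Cor A A' D ∧
      ∀ x y, (x, y) ∈ D ↔ ∃ u ∈ U, x = h * ρ u * h⁻¹ ∧ y = h' * ρ' u * h'⁻¹ := by
  have : Finite (Mono ι (2 ^ (a + 1))) := Finite.of_injective ρ (hρ.inj hω)
  obtain ⟨h, hh⟩ := hA.exists_twist hπ
  obtain ⟨h', hh'⟩ := hA'.exists_twist hπ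
  obtain ⟨U, hU⟩ := exists_isSylowIn 2 (GHF.UU (2 ^ (a + 1)) e π)
  have hD : ∀ x y, (x, y) ∈ U.map (((MulAut.conj h).toMonoidHom.comp ρ).prod
      ((MulAut.conj h').toMonoidHom.comp ρ')) ↔ ∃ u ∈ U, x = h * ρ u * h⁻¹ ∧ y = h' * ρ' u * h'⁻¹ :=
    fun x y => ⟨fun ⟨u, hu, e⟩ => ⟨u, hu, (congrArg Prod.fst e).symm, (congrArg Prod.snd e).symm⟩,
      fun ⟨u, hu, e, e'⟩ => ⟨u, hu, Prod.ext e.symm e'.symm⟩⟩
  generalize U.map (((MulAut.conj h).toMonoidHom.comp ρ).prod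
      ((MulAut.conj h').toMonoidHom.comp ρ')) = D at hD
  have hD' : ∀ y x, (y, x) ∈ sw D ↔ ∃ u ∈ U, y = h' * ρ' u * h'⁻¹ ∧ x = h * ρ u * h⁻¹ :=
    fun y x => (hD x y).trans ⟨fun ⟨u, hu, e, e'⟩ => ⟨u, hu, e', e⟩, fun ⟨u, hu, e, e'⟩ => ⟨u, hu, e', e⟩⟩
  refine ⟨h, h', U, D, hh, hh', hU.le, hU.pgroup, ⟨Tw.syl hA hρ hω he hπ ho hh hU hD,
    p1_sw D ▸ Tw.syl hA' hρ' hω' he' hπ ho' hh' hU hD', Tw.inj hρ' hω' hD,
    fun y hy => Tw.inj hρ hω hD' y hy,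
    Tw.tr hA' hρ hρ' hω hω' he' hπ hh' hU.le hU.pgroup hD, fun V hV γ hγ hc => ?_⟩, hD⟩
  obtain ⟨g, hg, h1⟩ := Tw.tr hA hρ' hρ hω' hω he hπ hh hU.le hU.pgroup hD' (sw V) (sw_mono hV) γ hγ
    (by rwa [p1_sw, p1_sw])
  exact ⟨g, hg, by simpa only [sw_sw] using sw_cj_le h1⟩

end CfsgLib.GHF
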