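import Mathlib
import Cfsg.Agent.Lib.GHF.Tw
import Cfsg.Agent.Lib.GHF.CorB
import Cfsg.Agent.Lib.GHF.CorC
import Cfsg.Agent.Lib.GHF.Ord
import Cfsg.Agent.Lib.GHF.FrL
import Cfsg.Agent.Lib.GHF.FrU

/-! Package BMO of `plans/GHF.md`: the fusion system depends only on the 2-adic type. -/

set_option autoImplicit false

namespace CfsgLib.GHF

open Subgroup Cfsg CfsgLib.W2 CfsgLib.Tech CfsgLib.PComp CfsgLib.Abel2 CfsgLib.L3K CfsgLib.GHD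
open Matrix

namespace Bm

variable {ι : Type} [Fintype ι] [DecidableEq ι] {K : Type*} [Field K] [Finite K] {a : ℕ}
  {A : Subgroup (GL ι K)} {φ : GL ι K →* GL ι K} {τ : Kˣ →* Kˣ} {ω : Kˣ}
  {ρ : Mono ι (2 ^ (a + 1)) →* GL ι K} {e : ZMod (2 ^ (a + 1))} {π : Equiv.Perm ι} {h : GL ι K}
  {U : Subgroup (Mono ι (2 ^ (a + 1)))}

/-- the matrices whose determinant has odd order -/
def OD (ι : Type) [Fintype ι] [DecidableEq ι] (K : Type*) [Field K] : Subgroup (GL ι K) where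
  carrier := {g | Odd (orderOf (GeneralLinearGroup.det g))}
  one_mem' := by simp
  mul_mem' {x y} hx hy := by
    refine (Odd.mul hx hy).of_dvd_nat ?_
    rw [map_mul]
    exact (Commute.all _ _).orderOf_mul_dvd_mul_orderOf
  inv_mem' {x} hx := by simpa using hx

omit [Finite K] in
theorem mem_OD {g : GL ι K} : g ∈ OD ι K ↔ Odd (orderOf (GeneralLinearGroup.det g)) := Iff.rfl

omit [Finite K] in
theorem det_conj (g x : GL ι K) :
    GeneralLinearGroup.det (g * x * g⁻¹) = GeneralLinearGroup.det x := by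
  rw [map_mul, map_mul, map_inv, mul_inv_cancel_comm]

theorem norm : A ≤ NS (A ⊓ OD ι K) := fun g hg =>
  mem_normalizer_of_cj_le (cj_le_iff.2 fun x hx =>
    ⟨A.mul_mem (A.mul_mem hg hx.1) (A.inv_mem hg), by
      have := hx.2
      change _ ∈ OD ι K at this ⊢
      rwa [mem_OD, det_conj]⟩)

omit [Finite K] in
theorem odd_mem : ∀ x ∈ A, Odd (orderOf x) → x ∈ A ⊓ OD ι K := fun _ hx ho =>
  ⟨hx, ho.of_dvd_nat (orderOf_map_dvd _ _)⟩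

omit [Finite K] in
theorem sd_le : A ⊓ SD ι K ≤ A ⊓ OD ι K := inf_le_inf_left _ fun x hx => by
  rw [mem_OD, MonoidHom.mem_ker.1 hx, orderOf_one]
  exact odd_one

omit [Finite K] in
theorem mem_sd (u : Mono ι (2 ^ (a + 1))) : h * ρ u * h⁻¹ ∈ SD ι K ↔ ρ u ∈ SD ι K := by
  rw [MonoidHom.mem_ker, det_conj, MonoidHom.mem_ker]

omit [Finite K] in
theorem od_iff (h2 : IsPGroup 2 U) {u : Mono ι (2 ^ (a + 1))} (hu : u ∈ U) :
    h * ρ u * h⁻¹ ∈ OD ι K ↔ ρ u ∈ SD ι K := by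
  rw [mem_OD, det_conj, MonoidHom.mem_ker]
  refine ⟨fun ho => ?_, fun h1 => by rw [h1, orderOf_one]; exact odd_one⟩
  obtain ⟨k, hk⟩ := h2 ⟨u, hu⟩
  have h3 : orderOf (GeneralLinearGroup.det (ρ u)) ∣ 2 ^ k := orderOf_dvd_of_pow_eq_one (by
    rw [← map_pow, ← map_pow, show u ^ 2 ^ k = 1 from congrArg Subtype.val hk, map_one, map_one])
  exact orderOf_eq_one_iff.1 (Nat.Coprime.eq_one_of_dvd (ho.coprime_two_right.pow_right k) h3)

omit [Finite K] in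
theorem ctl [Nonempty ι] (hA : Fr A φ τ) (hρ : IsMono ω ρ) (hπ : π * π = 1)
    (hh : φ h = h * pm K π) (hU : U ≤ GHF.UU (2 ^ (a + 1)) e π) (h2 : IsPGroup 2 U)
    {P : Subgroup (GL ι K)} (hP : ∀ x ∈ P, ∃ u ∈ U, x = h * ρ u * h⁻¹) {g : GL ι K}
    (hg : g ∈ A ⊓ OD ι K) : ∃ c ∈ CS P, g * c ∈ A ⊓ SD ι K := by
  obtain ⟨c, h3, h4, h5⟩ := hA.exists_det hρ hπ hh hU h2 (μ := (GeneralLinearGroup.det g)⁻¹)
    (by rw [map_inv, ← hA.det, (hA.mem g).1 hg.1]) (by rw [orderOf_inv]; exact hg.2)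
  refine ⟨c, fun x hx => ?_, mul_mem hg.1 h3, ?_⟩
  · obtain ⟨u, hu, rfl⟩ := hP x hx
    exact (h5 u hu).symm
  · change _ ∈ SD ι K
    rw [MonoidHom.mem_ker, map_mul, h4, mul_inv_cancel]

omit [Finite K] in
theorem cen_conj (g x : GL ι K) : g * x * g⁻¹ ∈ center (GL ι K) ↔ x ∈ center (GL ι K) :=
  (Subgroup.Normal.mem_comm_iff inferInstance).trans (by rw [inv_mul_cancel_left])

theorem two_le {K : Type*} [Field K] [Fintype K] {r : ℤ} (hK : (Fintype.card K : ℤ) = r ^ 2) :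
    2 ≤ |r| := by
  have h1 : (1 : ℤ) < r ^ 2 := hK ▸ by exact_mod_cast Fintype.one_lt_card
  exact (one_lt_sq_iff_one_lt_abs r).1 h1

end Bm

open Bm

theorem cor_sl {ι : Type} [Fintype ι] [DecidableEq ι] [Nonempty ι] {K K' : Type*} [Field K]
    [Field K'] [Finite K] [Finite K'] {a : ℕ}
    {A : Subgroup (GL ι K)} {φ : GL ι K →* GL ι K} {τ : Kˣ →* Kˣ} {ω : Kˣ}
    {A' : Subgroup (GL ι K')} {φ' : GL ι K' →* GL ι K'} {τ' : K'ˣ →* K'ˣ} {ω' : K'ˣ}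
    {e : ZMod (2 ^ (a + 1))} {π : Equiv.Perm ι} (hA : Fr A φ τ) (hA' : Fr A' φ' τ')
    (hω : IsPrimitiveRoot ω (2 ^ (a + 1))) (hω' : IsPrimitiveRoot ω' (2 ^ (a + 1)))
    (he : τ ω = ω ^ e.val) (he' : τ' ω' = ω' ^ e.val) (hπ : π * π = 1)
    (ho : (Nat.card A).factorization 2 ≤ (Nat.card (GHF.UU (2 ^ (a + 1)) e π)).factorization 2)
    (ho' : (Nat.card A').factorization 2 ≤ (Nat.card (GHF.UU (2 ^ (a + 1)) e π)).factorization 2) :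
    ∃ D, Cor (A ⊓ SD ι K) (A' ⊓ SD ι K') D ∧
      ∀ x y, (x, y) ∈ D → (x ∈ center (GL ι K) ↔ y ∈ center (GL ι K')) := by
  obtain ⟨ρ, hρ⟩ := exists_mono (ι := ι) hω.pow_eq_one
  obtain ⟨ρ', hρ'⟩ := exists_mono (ι := ι) hω'.pow_eq_one
  obtain ⟨h, h', U, D, hh, hh', hU, h2, hD, hm⟩ :=
    cor_gl hA hA' hρ hρ' hω hω' he he' hπ ho ho'
  have h3 : Cor (A ⊓ OD ι K) (A' ⊓ OD ι K') (ov D (A ⊓ OD ι K)) :=
    hD.normal inf_le_left norm odd_mem inf_le_left norm odd_mem fun x y hp => by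
      rw [mem_inf, mem_inf, and_iff_right (hD.mem1 hD.adm hp), and_iff_right (hD.mem2 hD.adm hp)]
      obtain ⟨u, hu, rfl, rfl⟩ := (hm x y).1 hp
      rw [od_iff h2 hu, od_iff h2 hu, hρ.det_iff hρ' hω hω']
  refine ⟨_, h3.sub sd_le (fun x hx => ?_) (fun P hP g hg _ => ctl hA hρ hπ hh hU h2
    (fun x hx => ?_) hg) sd_le (fun y hy => ?_) (fun P hP g hg _ => ctl hA' hρ' hπ hh' hU h2
    (fun y hy => ?_) hg), fun x y hp => ?_⟩
  · obtain ⟨y, hy⟩ := mem_p1.1 hx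
    have h4 := h3.mem1 h3.adm hy
    obtain ⟨u, hu, rfl, rfl⟩ := (hm x y).1 hy.1
    exact ⟨h4.1, (mem_sd u).2 ((od_iff h2 hu).1 h4.2)⟩
  · obtain ⟨y, hy⟩ := mem_p1.1 (hP hx)
    obtain ⟨u, hu, h4, -⟩ := (hm x y).1 hy.1
    exact ⟨u, hu, h4⟩
  · obtain ⟨x, hx⟩ := mem_p2.1 hy
    have h4 := h3.mem2 h3.adm hx
    obtain ⟨u, hu, rfl, rfl⟩ := (hm x y).1 hx.1
    exact ⟨h4.1, (mem_sd u).2 ((od_iff h2 hu).1 h4.2)⟩
  · obtain ⟨x, hx⟩ := mem_p2.1 (hP hy)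
    obtain ⟨u, hu, -, h4⟩ := (hm x y).1 hx.1
    exact ⟨u, hu, h4⟩
  · obtain ⟨u, -, rfl, rfl⟩ := (hm x y).1 hp.1
    rw [cen_conj, cen_conj, hρ.center hω, hρ'.center hω']

theorem bmo {n : ℕ} (hn : 1 ≤ n) {r s : ℤ} {Γ Γ' : Type*} [Group Γ] [Group Γ'] (h : Prov n r Γ)
    (h' : Prov n s Γ') (hr : Odd r) (e : Ad r s) : FEq Γ Γ' := by
  obtain ⟨K, _, _, A, φ, τ, f, hA, hK, hτ, ho, hf, hk⟩ := h
  obtain ⟨K', _, _, A', φ', τ', f', hA', hK', hτ', ho', hf', hk'⟩ := h'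
  have h3 := two_le hK
  have h3' := two_le hK'
  obtain ⟨a, -, ha⟩ := exists_a hr h3
  obtain ⟨ω, hω, he⟩ := exists_root hK ha
  obtain ⟨ω', hω', he'⟩ := exists_root hK' (e.sq h3 h3' ▸ ha)
  obtain ⟨π, hπ, hv⟩ := ord n hr h3 ha
  have : Nonempty (Fin n) := ⟨⟨0, hn⟩⟩
  obtain ⟨D, hD, hc⟩ := cor_sl hA hA' hω hω' ((hτ ω).trans he)
    (((hτ' ω').trans he').trans (by rw [e.cast hr h3 h3' ha])) hπ (ho ▸ hv)
    (by rw [ho', ← e.vp_eq hr h3 h3']; exact hv)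
  obtain ⟨D', hD', -⟩ := hD.map f f' fun x y hp => by rw [hk, hk', hc _ _ hp]
  rw [MonoidHom.range_eq_top.2 hf, MonoidHom.range_eq_top.2 hf'] at hD'
  exact ⟨D', hD'⟩

theorem bmo_ll {n : ℕ} (hn : 1 ≤ n) {F F' : Type*} [Field F] [Fintype F] [Field F'] [Fintype F']
    (hF : Odd (Fintype.card F)) (hF' : Odd (Fintype.card F'))
    (e : Ad (Fintype.card F') (Fintype.card F)) :
    FEq (ProjectiveSpecialLinearGroup (Fin n) F') (ProjectiveSpecialLinearGroup (Fin n) F) :=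
  bmo hn (prov_L n F' hF') (prov_L n F hF) (by exact_mod_cast hF') e

theorem bmo_ul {n : ℕ} (hn : 2 ≤ n) {F : Type*} [Field F] [Fintype F] {K : Type} [Field K]
    [Fintype K] {q : ℕ} (hF : Odd (Fintype.card F)) (hK : Fintype.card K = q ^ 2) (hq : Odd q)
    (e : Ad (-q) (Fintype.card F)) : FEq (PSU n K q) (ProjectiveSpecialLinearGroup (Fin n) F) :=
  bmo (by omega) (prov_U hn K hK hq) (prov_L n F hF) (Odd.neg (by exact_mod_cast hq)) e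

end CfsgLib.GHF
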