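import Mathlib
import Cfsg.Agent.Lib.GHF.Defs
import Cfsg.Agent.Lib.GHF.Odd
import Cfsg.Agent.S2767

/-! Package GEN of `plans/GHF.md`: general lemmas. -/

set_option autoImplicit false

namespace CfsgLib.GHF

open Subgroup Cfsg CfsgLib.W2 CfsgLib.Tech CfsgLib.PComp CfsgLib.Abel2 CfsgLib.L3K CfsgLib.GHD

variable {H : Type*} [Group H] [Finite H]

omit [Finite H] in
/-- the central involution of a dihedral 2-group -/
theorem dih {a b : H} (ha : a * a = 1) (hb : b * b = 1) (h2 : IsPGroup 2 (zpowers (a * b)))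
    (hn : a * b ≠ b * a) : ∃ j : ℕ, (a * b) ^ (2 * j) ≠ 1 ∧ (a * b) ^ (2 * j) ∈ Cx a ⊓ Cx b ∧
      (a * b) ^ (2 * j) * (a * b) ^ (2 * j) = 1 ∧
      a * (a * b) ^ (2 * j) = ((a * b) ^ j)⁻¹ * a * (a * b) ^ j := by
  obtain ⟨k, hk⟩ := isPGroup_iff_mem.1 h2 _ (mem_zpowers _)
  obtain ⟨k, -, ho⟩ := (Nat.dvd_prime_pow Nat.prime_two).1 (orderOf_dvd_of_pow_eq_one hk)
  have h1 := pow_orderOf_eq_one (a * b)
  have ea : ∀ n : ℕ, a * (a * b) ^ n = ((a * b) ^ n)⁻¹ * a := fun n =>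
    inv_pow (a * b) n ▸ SemiconjBy.pow_right (left_inverts ha hb) n
  have eb : ∀ n : ℕ, b * (a * b) ^ n = ((a * b) ^ n)⁻¹ * b := fun n =>
    inv_pow (a * b) n ▸ SemiconjBy.pow_right (right_inverts ha hb) n
  have hi : (a * b)⁻¹ = b * a := by
    rw [_root_.mul_inv_rev, inv_eq_of_mul_eq_one_left ha, inv_eq_of_mul_eq_one_left hb]
  obtain _ | _ | k := k
  · rw [ho, pow_zero, pow_one] at h1
    exact absurd (by rw [← hi, h1, inv_one]) hn
  · rw [ho, zero_add, pow_one, sq] at h1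
    exact absurd ((eq_inv_of_mul_eq_one_left h1).trans hi) hn
  have h3 : (a * b) ^ (2 * 2 ^ k) * (a * b) ^ (2 * 2 ^ k) = 1 := by
    rw [← pow_add, ← h1, ho]; congr 1; ring
  refine ⟨2 ^ k, pow_ne_one_of_lt_orderOf (by positivity) (by rw [ho]; grind), ⟨mem_Cx.2 ?_, mem_Cx.2 ?_⟩,
    h3, by rw [two_mul, pow_add, ← mul_assoc, ea]⟩
  · rw [ea, inv_eq_of_mul_eq_one_left h3]
  · rw [eb, inv_eq_of_mul_eq_one_left h3]

theorem two_dih {a b : H} (ha : a * a = 1) (hb : b * b = 1) (h2 : IsPGroup 2 (zpowers (a * b)))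
    {Z : Subgroup H} (hZ : IsPGroup 2 Z) (hc : Z ≤ center H) :
    IsPGroup 2 (Z ⊔ zpowers a ⊔ zpowers b : Subgroup H) := by
  have : Z.Normal := ⟨fun n hn g => by simpa [mem_center_iff.1 (hc hn) g] using hn⟩
  have h3 : a ∈ NS (Z ⊔ zpowers (a * b)) := mem_normalizer_iff_cj.2 (by
    rw [cj_sup, cj_eq_of_normal, cj_zpowers, left_inverts ha hb, mul_inv_cancel_right, zpowers_inv])
  refine ((hZ.to_sup_of_normal_left h2).to_sup_of_normal_left' (isPGroup_two_zpowers ha)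
    (zpowers_le.2 h3)).to_le (sup_le (sup_le_sup_right le_sup_left _) (zpowers_le.2 ?_))
  simpa [← mul_assoc, ha] using mul_mem (mem_sup_right (mem_zpowers a))
    (mem_sup_left (S := Z ⊔ zpowers (a * b)) (mem_sup_right (mem_zpowers (a * b))))

theorem syl2 {M : Subgroup H} {a b : H} (ha : a * a = 1) (hb : b * b = 1) (am : a ∈ M)
    (bm : b ∈ M) : ∃ m ∈ M, IsPGroup 2 (zpowers (a * (m * b * m⁻¹))) := by
  obtain ⟨S, hS, h1⟩ := exists_isSylowIn_ge (isPGroup_two_zpowers ha) (zpowers_le.2 am)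
  obtain ⟨m, hm, h2⟩ := hS.exists_conj_mem bm (isPGroup_two_zpowers hb)
  exact ⟨m, hm, isPGroup_zpowers_of_mem hS.pgroup (mul_mem (h1 (mem_zpowers a)) h2)⟩

theorem syl2K {K : Subgroup H} [K.Normal] {a b : H} (ha : a * a = 1) (hb : b * b = 1)
    (hk : a * b * (a * b) ∈ K) : ∃ k ∈ K, IsPGroup 2 (zpowers (a * (k * b * k⁻¹))) := by
  obtain ⟨i, m, ⟨c, rfl⟩, e⟩ := Nat.exists_eq_two_pow_mul_odd (orderOf_pos (a * b)).ne'
  have ea : ∀ n : ℕ, a * ((a * b) ^ n)⁻¹ = (a * b) ^ n * a := fun n => by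
    simpa only [inv_pow, inv_inv] using (SemiconjBy.pow_right (left_inverts ha hb) n).inv_right.eq
  have eb : ∀ n : ℕ, b * (a * b) ^ n = ((a * b) ^ n)⁻¹ * b := fun n =>
    inv_pow (a * b) n ▸ SemiconjBy.pow_right (right_inverts ha hb) n
  refine ⟨((a * b) ^ (2 * (c * c + c)))⁻¹, inv_mem (by rw [pow_mul, sq]; exact pow_mem hk _),
    isPGroup_zpowers_of_pow (k := i) ?_⟩
  rw [inv_inv, mul_assoc, eb, ← mul_assoc, ea, mul_assoc, ← mul_assoc a, ea, mul_assoc, ← pow_succ,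
    ← pow_add, ← pow_mul, ← orderOf_dvd_iff_pow_eq_one, e]
  exact ⟨2 * c + 1, by ring⟩

open scoped commutatorElement in
theorem le_Cx_of_pair {T A Z : Subgroup H} (hT : IsSylowIn 2 T A) (hZ : IsPGroup 2 Z)
    (hc : Z ≤ center H) {b : H} (h1 : ∀ a ∈ A, ⁅a, b⁆ ∈ Z) (h2 : T ≤ Cx b) : A ≤ Cx b := by
  refine le_of_syl_odd hT h2 fun x hx ho => ?_
  have h3 : ∀ n : ℕ, x ^ n * b = ⁅x, b⁆ ^ n * b * x ^ n := fun n => by
    induction n with
    | zero => simp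
    | succ n ih =>
      rw [pow_succ', mul_assoc, ih, ← mul_assoc, ← mul_assoc, mem_center_iff.1 (pow_mem (hc (h1 x hx)) n),
        pow_succ ⁅x, b⁆, commutatorElement_def]
      group
  obtain ⟨k, hk⟩ := isPGroup_iff_mem.1 hZ _ (h1 x hx)
  exact commutatorElement_eq_one_iff_mul_comm.1 (mem_bot.1 (mem_of_coprime_pow
    (ho.coprime_two_left.pow_left k) (mem_bot.2 hk) (by simpa using (h3 (orderOf x)).symm))) |> mem_Cx.2

theorem comm_of_pairing {S A B Z : Subgroup H} (hS : IsSylowIn 2 S ⊤) [A.Normal] [B.Normal]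
    (hZ : IsPGroup 2 Z) (hc : Z ≤ center H) (h1 : ⁅A, B⁆ ≤ Z) (h2 : S ⊓ A ≤ CS (S ⊓ B)) :
    A ≤ CS B := by
  have h3 : ∀ N : Subgroup H, N.Normal → IsSylowIn 2 (S ⊓ N) N := fun N _ => by
    simpa using hS.inf_of_le_normalizer (N := N) (by rw [normalizer_eq_top])
  exact fun a ha b hb => mem_Cx.1 <| le_Cx_of_pair (h3 B ‹_›) hZ hc
    (fun b hb => h1 (commutator_comm A B ▸ commutator_mem_commutator hb ha))
    (fun s hs => Cx_comm.1 (le_Cx_of_pair (h3 A ‹_›) hZ hc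
      (fun a ha => h1 (commutator_mem_commutator ha hs.2)) (fun t ht => mem_Cx.2 (h2 ht s hs).symm) ha)) hb

theorem comm_ncl (hO : pPrimeCore 2 H = ⊥) {S A B : Subgroup H} (hS : IsSylowIn 2 S ⊤)
    (hA : IsStronglyClosed A S) (hB : IsStronglyClosed B S) (h1 : A ≤ CS B)
    (h2 : A ⊓ B ≤ center H) : normalClosure (A : Set H) ≤ CS (normalClosure (B : Set H)) := by
  have : (A ⊓ B).Normal := ⟨fun n hn g => by simpa [mem_center_iff.1 (h2 hn) g] using hn⟩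
  have h3 := Agent.S2767.result hS.toSylowTop A B hA hB fun a ha b hb => (h1 ha b hb).symm
  rw [hO, sup_bot_eq, normalClosure_eq_self (A ⊓ B)] at h3
  refine le_centralizer_iff.1 (normalClosure_le_normal (N := CS (normalClosure (A : Set H)))
    (le_centralizer_iff.1 ((closure_le _).2 ?_)))
  intro x hx b hb
  have hN := hS.inf_of_le_normalizer (N := normalClosure (A : Set H)) (by rw [normalizer_eq_top])
  obtain ⟨a, ha, e⟩ := Group.mem_conjugatesOfSet_iff.1 hx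
  obtain ⟨g, rfl⟩ := isConj_iff.1 e
  obtain ⟨n, hn, h4⟩ := hN.exists_conj_mem ⟨trivial, subset_closure hx⟩ (by
    rw [← cj_zpowers]; exact isPGroup_cj g (isPGroup_zpowers_of_mem hS.pgroup (hA.1 ha)))
  have h5 := h1 (hA.2 a ha (n * g) (by simpa [mul_assoc] using h4.1)) b hb
  have h6 := mem_center_iff.1 (h2 (h3 (commutator_mem_commutator (inv_mem hn.2)
    (subset_normalClosure hb)))) (g * a * g⁻¹)
  rw [commutatorElement_def] at h6
  calc b * (g * a * g⁻¹) = (n⁻¹ * b * n⁻¹⁻¹ * b⁻¹)⁻¹ * n⁻¹ * (b * (n * g * a * (n * g)⁻¹)) * n := by group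
    _ = (n⁻¹ * b * n⁻¹⁻¹ * b⁻¹)⁻¹ * (g * a * g⁻¹ * (n⁻¹ * b * n⁻¹⁻¹ * b⁻¹)) * b := by rw [h5]; group
    _ = _ := by rw [h6]; group

theorem two_of_central (hO : pPrimeCore 2 H = ⊥) {S N : Subgroup H} (hS : IsSylowIn 2 S ⊤)
    [N.Normal] (h : S ⊓ N ≤ center H) : IsPGroup 2 N ∧ N ≤ center H := by
  have h1 : IsSylowIn 2 (S ⊓ N) N := by
    simpa using hS.inf_of_le_normalizer (N := N) (by rw [normalizer_eq_top])
  have h2 : N ≤ S ⊓ N := le_of_npc (npc_of_burnside h1 fun n _ _ x hx => mem_center_iff.1 (h hx) n) h1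
    ((opOf_le_pPrimeCore (Normal.isSubnormal ‹_›)).trans (hO.le.trans bot_le)) le_rfl
  exact ⟨h1.pgroup.to_le h2, h2.trans h⟩

/-- a group acting through an elementary abelian 2-group fixes a coset -/
theorem exists_fix {X V F : Subgroup H} (hV : ∀ v ∈ V, v * v = 1) (hF : F ≤ V) (hne : ¬ V ≤ F)
    (hX : X ≤ CS F) (h1 : X ≤ NS V) (h2 : ∀ g ∈ X, g * g ∈ CS V) :
    ∃ e ∈ V, e ∉ F ∧ ∀ g ∈ X, e⁻¹ * (g * e * g⁻¹) ∈ F := by
  classical
  let φ : H →* MulAut H := MulAut.conj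
  have hi : ∀ v ∈ V, v⁻¹ = v := fun v hv => inv_eq_of_mul_eq_one_left (hV v hv)
  have hc : ∀ v ∈ V, ∀ w ∈ V, v * w = w * v := fun v hv w hw => by
    rw [← hi _ (mul_mem hv hw), _root_.mul_inv_rev, hi v hv, hi w hw]
  have h3 : ∀ g ∈ X, ∀ v ∈ V, φ g v ∈ V := fun g hg v hv => conj_mem_of_mem_normalizer (h1 hg) hv
  have h4 : ∀ g ∈ X, ∀ v ∈ V, φ g (φ g v) = v := fun g hg v hv => by
    rw [← MulAut.mul_apply, ← map_mul]
    exact mul_inv_eq_of_eq_mul (h2 g hg v hv).symm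
  have h5 : ∀ g ∈ X, ∀ k ∈ X, ∀ v ∈ V, φ g (φ k v) = φ k (φ g v) := fun g hg k hk v hv => by
    have := congrArg (fun w => φ g (φ k w)) (h4 _ (mul_mem hk hg) v hv)
    simp only [map_mul, MulAut.mul_apply] at this
    rw [← this, h4 k hk _ (h3 g hg _ (h3 k hk _ (h3 g hg v hv))), h4 g hg _ (h3 k hk _ (h3 g hg v hv))]
  have h6 : ∀ s : Finset H, (∀ g ∈ s, g ∈ X) → ∃ e ∈ V, e ∉ F ∧ ∀ g ∈ s, e⁻¹ * φ g e ∈ F := fun s => by
    refine s.induction_on (fun _ => ?_) fun g s _ ih hs => ?_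
    · simpa using SetLike.not_le_iff_exists.1 hne
    obtain ⟨e, a, b, c⟩ := ih fun k hk => hs k (Finset.mem_insert_of_mem hk)
    have hg := hs g (Finset.mem_insert_self g s)
    by_cases h : e⁻¹ * φ g e ∈ F
    · exact ⟨e, a, b, by simpa [h] using c⟩
    refine ⟨_, mul_mem (inv_mem a) (h3 g hg e a), h, Finset.forall_mem_insert .. |>.2 ⟨?_, fun k hk => ?_⟩⟩
    · rw [map_mul, map_inv, h4 g hg e a, hi _ (h3 g hg e a), hi e a, hc (φ g e) (h3 g hg e a) e a,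
        inv_mul_cancel]
      exact one_mem _
    · have h7 : φ g (e⁻¹ * φ k e) = e⁻¹ * φ k e := mul_inv_eq_of_eq_mul (hX hg _ (c k hk)).symm
      have hk' := hs k (Finset.mem_insert_of_mem hk)
      rw [map_mul, map_inv, inv_mul_eq_iff_eq_mul] at h7
      rw [map_mul, map_inv, h5 k hk' g hg e a, h7, ← mul_assoc (φ g e), hc _ (inv_mem (h3 k hk' e a)) _
        (mul_mem (mul_mem (h3 g hg e a) (inv_mem a)) (h3 k hk' e a)), mul_inv_cancel_right,
        hc _ (h3 g hg e a) _ (inv_mem a), inv_mul_cancel]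
      exact one_mem _
  simpa [φ] using h6 (Set.toFinite (X : Set H)).toFinset (by simp)

end CfsgLib.GHF
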