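import Mathlib
import Cfsg.Agent.Lib.GHF.Defs2
import Cfsg.Agent.Lib.GHF.Gen

/-! Package GA of `plans/GHF.md`: diagonal involutions and block matrices. -/

set_option autoImplicit false
set_option linter.unusedSectionVars false

namespace CfsgLib.GHF

open Subgroup Cfsg CfsgLib.W2 CfsgLib.Tech CfsgLib.PComp CfsgLib.Abel2 CfsgLib.L3K CfsgLib.GHD
open Matrix

variable {ι : Type} [Fintype ι] [DecidableEq ι] {F : Type*} [Field F] [Fintype F]
  {A : Subgroup (ProjectiveSpecialLinearGroup ι F)} {g x y : SpecialLinearGroup ι F}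
  {i j k l : ι} {v : ι → ZMod 2}

/-- `(-1)^a` -/
def sg (F : Type*) [Field F] (a : ZMod 2) : F := if a = 0 then 1 else -1

section

omit [Fintype F]

theorem sg_zero : sg F 0 = 1 := if_pos rfl

theorem sg_one : sg F 1 = -1 := if_neg (by decide)

theorem sg_add (a b : ZMod 2) : sg F (a + b) = sg F a * sg F b := by
  rcases z2_cases a with rfl | rfl <;> rcases z2_cases b with rfl | rfl <;>
    simp [z2_add_self, sg_zero, sg_one]

theorem sg_sq (a : ZMod 2) : sg F a * sg F a = 1 := by rw [← sg_add, z2_add_self, sg_zero]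

theorem sg_inj (h2 : (2 : F) ≠ 0) {a b : ZMod 2} (e : sg F a = sg F b) : a = b := by
  have k : (1 : F) ≠ -1 := fun e => h2 (by linear_combination e)
  rcases z2_cases a with rfl | rfl <;> rcases z2_cases b with rfl | rfl
  exacts [rfl, absurd (sg_zero.symm.trans (e.trans sg_one)) k,
    absurd (sg_zero.symm.trans (e.symm.trans sg_one)) k, rfl]

omit [Fintype ι] in
theorem sgn_eq (v : ι → ZMod 2) : sgn F v = diagonal fun i => sg F (v i) := rfl

theorem det_sgn (v : ι → ZMod 2) : (sgn F v).det = sg F (∑ i, v i) := by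
  rw [sgn_eq, det_diagonal]
  induction (Finset.univ : Finset ι) using Finset.induction_on with
  | empty => simp [sg_zero]
  | insert a s ha ih => rw [Finset.prod_insert ha, Finset.sum_insert ha, sg_add, ih]

theorem exists_row (g : SpecialLinearGroup ι F) (a : ι) : ∃ b, (g : Matrix ι ι F) a b ≠ 0 := by
  by_contra! hc
  exact one_ne_zero (g.2.symm.trans (det_eq_zero_of_row_eq_zero a hc))

theorem exists_col (g : SpecialLinearGroup ι F) (b : ι) : ∃ a, (g : Matrix ι ι F) a b ≠ 0 := by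
  by_contra! hc
  exact one_ne_zero (g.2.symm.trans (det_eq_zero_of_column_eq_zero b hc))

theorem coe_mul_inv (g : SpecialLinearGroup ι F) :
    (g : Matrix ι ι F) * (g⁻¹ : SpecialLinearGroup ι F) = 1 := congrArg Subtype.val (mul_inv_cancel g)

theorem coe_inv_mul (g : SpecialLinearGroup ι F) :
    ((g⁻¹ : SpecialLinearGroup ι F) : Matrix ι ι F) * g = 1 := congrArg Subtype.val (inv_mul_cancel g)

theorem rank_conj (g : SpecialLinearGroup ι F) (M : Matrix ι ι F) :
    ((g : Matrix ι ι F) * M * (g⁻¹ : SpecialLinearGroup ι F) - 1).rank = (M - 1).rank := by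
  rw [show (g : Matrix ι ι F) * M * (g⁻¹ : SpecialLinearGroup ι F) - 1 =
      g * (M - 1) * (g⁻¹ : SpecialLinearGroup ι F) by rw [mul_sub, sub_mul, mul_one, coe_mul_inv],
    rank_mul_eq_left_of_isUnit_det _ _ (by rw [g⁻¹.2]; exact isUnit_one),
    rank_mul_eq_right_of_isUnit_det _ _ (by rw [g.2]; exact isUnit_one)]

/-- the weight of a vector -/
def wt (v : ι → ZMod 2) : ℕ := (Finset.univ.filter fun i => v i ≠ 0).card

theorem rank_sgn (h2 : (2 : F) ≠ 0) (v : ι → ZMod 2) : (sgn F v - 1).rank = wt v := by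
  classical
  rw [sgn_eq, ← diagonal_one, diagonal_sub, rank_diagonal, Fintype.card_subtype, wt]
  congr 1
  refine Finset.filter_congr fun a _ => not_congr ⟨fun e => sg_inj h2 ?_, fun e => by rw [e, sg_zero, sub_self]⟩
  rw [sg_zero, sub_eq_zero.1 e]

theorem wt_ee (d : i ≠ j) : wt (ee i j) = 2 := by
  refine (congrArg Finset.card (Finset.ext fun a => ?_)).trans (Finset.card_pair d)
  by_cases h1 : a = i
  · simp [h1, ee_left d]
  by_cases h2 : a = j
  · simp [h2, ee_right d]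
  simp [h1, h2, ee_of_ne h1 h2]

theorem eq_ee_of_wt (e : wt v = 2) : ∃ k l, k ≠ l ∧ v = ee k l := by
  obtain ⟨k, l, d, e⟩ := Finset.card_eq_two.1 e
  have h0 : ∀ a, v a ≠ 0 ↔ a = k ∨ a = l := fun a => by simpa using Finset.ext_iff.1 e a
  refine ⟨k, l, d, funext fun a => ?_⟩
  by_cases h1 : a = k
  · rw [(z2_cases _).resolve_left ((h0 a).2 (.inl h1)), h1, ee_left d]
  by_cases h2 : a = l
  · rw [(z2_cases _).resolve_left ((h0 a).2 (.inr h2)), h2, ee_right d]
  rw [ee_of_ne h1 h2, not_not.1 (mt (h0 a).1 (not_or.2 ⟨h1, h2⟩))]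

theorem wt_add_one (v : ι → ZMod 2) : wt v + wt (v + 1) = Fintype.card ι := by
  rw [wt, wt, ← Finset.card_univ, ← Finset.card_filter_add_card_filter_not (s := Finset.univ) (fun i => v i ≠ 0)]
  congr 2
  refine Finset.filter_congr fun a _ => ?_
  rw [Pi.add_apply, Pi.one_apply]
  generalize v a = x
  revert x
  decide

omit [Fintype ι] in
theorem sgn_add_one (v : ι → ZMod 2) : sgn F (v + 1) = -sgn F v := by
  simp only [sgn_eq, diagonal_neg, Pi.add_apply, Pi.one_apply, sg_add, sg_one, mul_neg, mul_one]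

theorem mul_sgn_iff (h2 : (2 : F) ≠ 0) {M : Matrix ι ι F} {u : ι → ZMod 2} :
    M * sgn F u = sgn F v * M ↔ ∀ a b, M a b ≠ 0 → v a = u b := by
  simp only [sgn_eq, ← Matrix.ext_iff, mul_diagonal, diagonal_mul]
  refine forall₂_congr fun a b => ⟨fun e h1 => sg_inj h2 ?_, fun e => ?_⟩
  · exact (mul_left_cancel₀ h1 (e.trans (mul_comm _ _))).symm
  · by_cases h1 : M a b = 0
    · simp [h1]
    · rw [e h1, mul_comm]

end

namespace Ok

variable (h : Ok ι F)
include h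

omit [DecidableEq ι] in
theorem two_ne : (2 : F) ≠ 0 := by
  refine Ring.two_ne_zero fun e => ?_
  have := FiniteField.even_card_of_char_two e
  have := Nat.odd_iff.1 h.odd
  omega

omit h [Fintype F] in
theorem coe_dz (hv : Ev v) : (dz F v : Matrix ι ι F) = sgn F v := by
  exact congrArg Subtype.val (dif_pos (by rw [det_sgn, hv, sg_zero]))

omit h [Fintype F] in
theorem dz_add {u : ι → ZMod 2} (hu : Ev u) (hv : Ev v) : dz F (u + v) = dz F u * dz F v := by
  refine Subtype.ext ?_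
  rw [Matrix.SpecialLinearGroup.coe_mul, coe_dz hu, coe_dz hv, coe_dz (hu.add hv)]
  simp only [sgn_eq, diagonal_mul_diagonal, Pi.add_apply, sg_add]

omit h [Fintype F] in
theorem mk_eq_iff : mkP F x = mkP F y ↔ ∃ c : F, (x : Matrix ι ι F) = c • (y : Matrix ι ι F) := by
  rw [eq_comm, QuotientGroup.mk'_eq_mk']
  refine ⟨fun ⟨z, hz, e⟩ => ?_, fun ⟨c, e⟩ => ⟨y⁻¹ * x, mem_center_iff.2 fun g => Subtype.ext ?_, by simp⟩⟩
  · obtain ⟨r, -, hr⟩ := Matrix.SpecialLinearGroup.mem_center_iff.1 hz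
    exact ⟨r, by rw [← e, Matrix.SpecialLinearGroup.coe_mul, ← hr, scalar_apply, ← smul_one_eq_diagonal,
      mul_smul_comm, mul_one]⟩
  · simp only [Matrix.SpecialLinearGroup.coe_mul, e, mul_smul_comm, smul_mul_assoc, coe_inv_mul, mul_one, one_mul]

omit h [Fintype F] in
theorem dz_zero : dz F (0 : ι → ZMod 2) = 1 := by
  have := dz_add (F := F) (ι := ι) Ev.zero Ev.zero
  rw [add_zero] at this
  exact left_eq_mul.1 this

omit h [Fintype F] in
theorem dz_sq (hv : Ev v) : dz F v * dz F v = 1 := by rw [← dz_add hv hv, vadd_self, dz_zero]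

theorem mul_dz_iff {u : ι → ZMod 2} (hu : Ev u) (hv : Ev v) :
    g * dz F u = dz F v * g ↔ ∀ a b, (g : Matrix ι ι F) a b ≠ 0 → v a = u b := by
  rw [← mul_sgn_iff h.two_ne, ← coe_dz hu, ← coe_dz hv]
  exact Subtype.ext_iff

omit [DecidableEq ι] in
theorem nonempty : Nonempty ι := Fintype.card_pos_iff.1 (by have := h.five; omega)

theorem lab : Lab (ζP (ι := ι) F) := by
  refine ⟨h.five, fun u v hu hv => by rw [ζP, dz_add hu hv, map_mul]; rfl, fun v hv e => ?_⟩
  obtain ⟨c, hc⟩ := (mk_eq_iff (y := 1)).1 e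
  obtain ⟨o⟩ := h.nonempty
  have k : ∀ a, sg F (v a) = c := fun a => by
    simpa [coe_dz hv, sgn_eq] using congrFun (congrFun hc a) a
  exact (z2_cases (v o)).imp (fun e => funext fun a => (sg_inj h.two_ne ((k a).trans (k o).symm)).trans e)
    fun e => funext fun a => (sg_inj h.two_ne ((k a).trans (k o).symm)).trans e

theorem wt2_sq (hy : Wt2 F y) : y * y = 1 := by
  obtain ⟨a, b, g, -, rfl⟩ := hy
  rw [conj_mul, dz_sq (ev_ee a b), mul_one, mul_inv_cancel]

omit h [Fintype F] in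
theorem wt2_conj (hy : Wt2 F y) (g : SpecialLinearGroup ι F) : Wt2 F (g * y * g⁻¹) := by
  obtain ⟨a, b, g', d, rfl⟩ := hy
  exact ⟨a, b, g * g', d, by group⟩

theorem wt2_rank (hy : Wt2 F y) : ((y : Matrix ι ι F) - 1).rank = 2 := by
  obtain ⟨a, b, g, d, rfl⟩ := hy
  rw [Matrix.SpecialLinearGroup.coe_mul, Matrix.SpecialLinearGroup.coe_mul, rank_conj, coe_dz (ev_ee a b),
    rank_sgn h.two_ne, wt_ee d]

/-- commutation with a conjugate of `zᵢⱼ` lifts to `SL` -/
theorem comm_of_wt2 (hy : Wt2 F y) (e : mkP F x * mkP F y = mkP F y * mkP F x) :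
    x * y = y * x := by
  obtain ⟨c, hc⟩ := (mk_eq_iff (x := x * y * x⁻¹) (y := y)).1 (by
    rw [map_mul, map_mul, e, map_inv, mul_inv_cancel_right])
  have h1 := congrArg Subtype.val (h.wt2_sq (wt2_conj hy x))
  have h2 := h.wt2_rank (wt2_conj hy x)
  obtain ⟨o⟩ := h.nonempty
  rw [Matrix.SpecialLinearGroup.coe_mul, hc, smul_mul_smul, ← Matrix.SpecialLinearGroup.coe_mul, h.wt2_sq hy] at h1
  rcases mul_self_eq_one_iff.1 (show c * c = 1 by simpa using congrFun (congrFun h1 o) o) with rfl | rfl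
  · exact mul_inv_eq_iff_eq_mul.1 (Subtype.ext (hc.trans (one_smul _ _)))
  · obtain ⟨a, b, g, d, rfl⟩ := hy
    rw [hc, Matrix.SpecialLinearGroup.coe_mul, Matrix.SpecialLinearGroup.coe_mul, neg_one_smul, ← neg_mul, ← mul_neg,
      rank_conj, coe_dz (ev_ee a b), ← sgn_add_one, rank_sgn h.two_ne] at h2
    have := wt_add_one (ee a b)
    have := h.five
    rw [wt_ee d] at *
    omega

omit h [Fintype F] in
theorem exists_wt2 (d : i ≠ j) {z : ProjectiveSpecialLinearGroup ι F}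
    (e : IsConj (zz (ζP F) i j) z) : ∃ y, Wt2 F y ∧ mkP F y = z := by
  obtain ⟨c, rfl⟩ := isConj_iff.1 e
  obtain ⟨g, rfl⟩ := QuotientGroup.mk'_surjective _ c
  exact ⟨_, ⟨i, j, g, d, rfl⟩, by rw [map_mul, map_mul, map_inv]; rfl⟩

theorem le_F2_iff (hA : A ≤ EE (ζP F)) :
    A ≤ F2 (ζP F) i j ↔ ∀ v, Ev v → ζP F v ∈ A → v i = v j := by
  refine ⟨fun e v hv m => (h.lab.mem_F2 hv).1 (e m), fun e x hx => ?_⟩
  obtain ⟨v, hv, rfl⟩ := h.lab.mem_E_iff.1 (hA hx)
  exact (h.lab.mem_F2 hv).2 (e v hv hx)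

theorem mem_Bk' : g ∈ Bk F A ↔
    ∀ v, Ev v → ζP F v ∈ A → ∀ a b, (g : Matrix ι ι F) a b ≠ 0 → v a = v b :=
  ⟨fun e v hv m => (h.mul_dz_iff hv hv).1 (e _ ⟨v, hv, m, rfl⟩).symm,
    fun e _ ⟨v, hv, m, e'⟩ => e' ▸ ((h.mul_dz_iff hv hv).2 (e v hv m)).symm⟩

theorem mem_Bk (hA : A ≤ EE (ζP F)) :
    g ∈ Bk F A ↔ ∀ a b, (g : Matrix ι ι F) a b ≠ 0 → A ≤ F2 (ζP F) a b := by
  simp only [h.mem_Bk', h.le_F2_iff hA]
  exact ⟨fun e a b k v hv m => e v hv m a b k, fun e v hv m a b k => e a b k v hv m⟩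

theorem mk_mem (hA : A ≤ EE (ζP F)) (hg : g ∈ Bk F A) : mkP F g ∈ CS A := by
  refine mem_centralizer_iff.2 fun a ha => ?_
  obtain ⟨v, hv, rfl⟩ := h.lab.mem_E_iff.1 (hA ha)
  rw [ζP, ← map_mul, hg _ ⟨v, hv, ha, rfl⟩, map_mul]

omit h [Fintype F] in
theorem dz_mem (hv : Ev v) : dz F v ∈ Bk F A := by
  rintro _ ⟨u, hu, -, rfl⟩
  rw [← dz_add hu hv, add_comm, dz_add hv hu]

theorem wt2_mem (hy : Wt2 F y) (e : mkP F y ∈ CS A) : y ∈ Bk F A := by
  rintro _ ⟨u, hu, m, rfl⟩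
  exact h.comm_of_wt2 hy (e _ m)

/-- an element centralising `A` modulo scalars shifts the blocks by a character -/
theorem chi (hg : mkP F g ∈ CS A) : ∃ s : (ι → ZMod 2) → ZMod 2, ∀ v, Ev v → ζP F v ∈ A →
    ∀ a b, (g : Matrix ι ι F) a b ≠ 0 → v a = v b + s v := by
  obtain ⟨o⟩ := h.nonempty
  obtain ⟨p, hp⟩ := exists_row g o
  refine ⟨fun v => v o + v p, fun v hv m a b k => ?_⟩
  obtain ⟨c, hc⟩ := (mk_eq_iff (x := dz F v * g) (y := g * dz F v)).1 (by
    rw [map_mul, map_mul]; exact hg _ m)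
  have key : ∀ a b, (g : Matrix ι ι F) a b ≠ 0 → sg F (v a + v b) = c := fun a b k => by
    have := congrFun (congrFun hc a) b
    simp only [Matrix.SpecialLinearGroup.coe_mul, coe_dz hv, sgn_eq, diagonal_mul, mul_diagonal, Matrix.smul_apply,
      smul_eq_mul] at this
    refine mul_right_cancel₀ k ?_
    rw [sg_add, mul_right_comm, this, mul_assoc, mul_assoc, sg_sq, mul_one]
  beta_reduce
  rw [← sg_inj h.two_ne ((key a b k).trans (key o p hp).symm), add_left_comm, z2_add_self, add_zero]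

theorem mem_Bk_of_entry (hA : A ≤ EE (ζP F)) (hg : mkP F g ∈ CS A)
    (e : (g : Matrix ι ι F) i j ≠ 0) (hij : A ≤ F2 (ζP F) i j) : g ∈ Bk F A := by
  obtain ⟨s, hs⟩ := h.chi hg
  refine h.mem_Bk'.2 fun v hv m a b k => ?_
  rw [hs v hv m a b k, left_eq_add.1 (((h.le_F2_iff hA).1 hij v hv m).symm.trans (hs v hv m i j e)), add_zero]

theorem mem_Bk_of_comm (hA : A ≤ EE (ζP F)) (hg : mkP F g ∈ CS A) (d : i ≠ j)
    (hij : A ≤ F2 (ζP F) i j) (e : mkP F g ∈ Cx (zz (ζP F) i j)) : g ∈ Bk F A := by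
  obtain ⟨b, hb⟩ := exists_row g i
  have h1 := (h.mul_dz_iff (ev_ee i j) (ev_ee i j)).1
    (h.comm_of_wt2 ⟨i, j, 1, d, by simp⟩ (mem_Cx.1 e)) i b hb
  refine h.mem_Bk_of_entry hA hg hb ?_
  by_cases h2 : b = i
  · rwa [h2, F2_self]
  by_cases h3 : b = j
  · rwa [h3]
  rw [ee_left d, ee_of_ne h2 h3] at h1
  exact absurd h1 (by decide)

theorem sq_mem_Bk (hA : A ≤ EE (ζP F)) (hg : mkP F g ∈ CS A) : g * g ∈ Bk F A := by
  obtain ⟨s, hs⟩ := h.chi hg
  refine h.mem_Bk'.2 fun v hv m a b k => ?_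
  rw [Matrix.SpecialLinearGroup.coe_mul, mul_apply] at k
  obtain ⟨c, -, k⟩ := Finset.exists_ne_zero_of_sum_ne_zero k
  rw [hs v hv m a c (left_ne_zero_of_mul k), hs v hv m c b (right_ne_zero_of_mul k), add_assoc,
    z2_add_self, add_zero]

/-- `SL → PSL` is injective on the matrices supported on a proper subset -/
theorem sup_inj {s : Set ι} (hk : k ∉ s) (hx : x ∈ Sup F s) (hy : y ∈ Sup F s)
    (e : mkP F x = mkP F y) : x = y := by
  obtain ⟨c, hc⟩ := mk_eq_iff.1 e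
  have := congrFun (congrFun hc k) k
  rw [Matrix.smul_apply, hx k k (.inl hk), hy k k (.inl hk), one_apply_eq, smul_eq_mul, mul_one] at this
  exact Subtype.ext (by rw [hc, ← this, one_smul])

/-- two lifts of involutions generate a 2-group if their images do -/
theorem two_lift (hx : x * x = 1) (hy : y * y = 1)
    (e : IsPGroup 2 (zpowers (mkP F x * mkP F y))) : IsPGroup 2 (closure {x, y}) := by
  obtain ⟨n, hn⟩ := isPGroup_iff_mem.1 e _ (mem_zpowers _)
  rw [← map_mul, ← map_pow, QuotientGroup.mk'_apply, QuotientGroup.eq_one_iff] at hn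
  have h1 : x * (x * y) ^ 2 ^ n = (x * y)⁻¹ ^ 2 ^ n * x := SemiconjBy.pow_right (left_inverts hx hy) _
  rw [mem_center_iff.1 hn x, mul_left_inj, inv_pow, eq_inv_iff_mul_eq_one, ← sq, ← pow_mul, ← pow_succ] at h1
  refine (two_dih hx hy (isPGroup_zpowers_of_pow h1) IsPGroup.of_bot bot_le).to_le ((closure_le _).2 ?_)
  rintro _ (rfl | rfl)
  exacts [mem_sup_left (mem_sup_right (mem_zpowers _)), mem_sup_right (mem_zpowers _)]

/-- block permutations -/
theorem exists_perm (hA : A ≤ EE (ζP F)) (σ : Equiv.Perm ι)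
    (hσ : ∀ a, A ≤ F2 (ζP F) a (σ a)) :
    ∃ g ∈ Bk F A, ∀ a b, g * dz F (ee a b) * g⁻¹ = dz F (ee (σ a) (σ b)) := by
  obtain ⟨o⟩ := h.nonempty
  let g : SpecialLinearGroup ι F := ⟨diagonal (Function.update 1 o ((Equiv.Perm.sign σ : ℤ) : F)) *
    σ⁻¹.permMatrix F, by
      rw [det_mul, det_diagonal, Finset.prod_update_of_mem (Finset.mem_univ o), det_permutation,
        Equiv.Perm.sign_inv]
      rcases Int.units_eq_one_or (Equiv.Perm.sign σ) with e | e <;> simp [e]⟩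
  have k : ∀ a b, (g : Matrix ι ι F) a b ≠ 0 → a = σ b := fun a b e => by
    by_contra k
    refine e ?_
    simp [g, diagonal_mul, PEquiv.toMatrix_apply, Equiv.symm_apply_eq, k]
  refine ⟨g, (h.mem_Bk hA).2 fun a b e => by rw [k a b e, F2_symm]; exact hσ b, fun a b =>
    mul_inv_eq_iff_eq_mul.2 ((h.mul_dz_iff (ev_ee _ _) (ev_ee _ _)).2 fun c d e => ?_)⟩
  rw [k c d e, ← ee_comp]
  simp

end Ok

end CfsgLib.GHF
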