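import Mathlib
import Cfsg.Agent.Lib.GHF.Defs2

/-! Coordinate projections, block restriction and block embeddings of matrices. -/

set_option autoImplicit false

namespace CfsgLib.GHF.Pj

open Subgroup Cfsg CfsgLib.GHD
open Matrix

variable {ι : Type} [Fintype ι] [DecidableEq ι] {F : Type*} [Field F]

open scoped _root_.Classical in
/-- the projection onto the coordinates in `s` -/
noncomputable def pj (F : Type*) [Field F] (s : Set ι) : Matrix ι ι F :=
  diagonal fun a => if a ∈ s then 1 else 0

variable {s : Set ι} {G H : Matrix ι ι F} {a b : ι}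

theorem pj_mul_in (h : a ∈ s) : (pj F s * G) a b = G a b := by
  simp [pj, diagonal_mul, h]

theorem pj_mul_out (h : a ∉ s) : (pj F s * G) a b = 0 := by
  simp [pj, diagonal_mul, h]

theorem mul_pj_in (h : b ∈ s) : (G * pj F s) a b = G a b := by
  simp [pj, mul_diagonal, h]

theorem mul_pj_out (h : b ∉ s) : (G * pj F s) a b = 0 := by
  simp [pj, mul_diagonal, h]

theorem pj_sq : pj F s * pj F s = pj F s := by
  ext a b
  by_cases h : a ∈ s
  · exact pj_mul_in h
  · rw [pj_mul_out h, ← mul_one (pj F s), pj_mul_out h]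

theorem pj_mul_of_subset {t : Set ι} (h : s ⊆ t) : pj F s * pj F t = pj F s := by
  ext a b
  by_cases hb : b ∈ t
  · exact mul_pj_in hb
  · rw [mul_pj_out hb, ← one_mul (pj F s), mul_pj_out fun e => hb (h e)]

theorem pj_mul_of_disjoint {t : Set ι} (h : ∀ a ∈ s, a ∉ t) : pj F s * pj F t = 0 := by
  ext a b
  by_cases hb : b ∈ t
  · rw [mul_pj_in hb, ← one_mul (pj F s), mul_pj_out fun e => h b e hb]; rfl
  · exact mul_pj_out hb

theorem comm_pj_iff : Commute (pj F s) G ↔ ∀ a b, G a b ≠ 0 → (a ∈ s ↔ b ∈ s) := by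
  constructor
  · intro e a b h
    have e1 : (pj F s * G) a b = (G * pj F s) a b := by rw [e.eq]
    constructor
    · intro ha
      by_contra hb
      rw [pj_mul_in ha, mul_pj_out hb] at e1
      exact h e1
    · intro hb
      by_contra ha
      rw [pj_mul_out ha, mul_pj_in hb] at e1
      exact h e1.symm
  · intro h
    refine Matrix.ext fun a b => ?_
    by_cases ha : a ∈ s <;> by_cases hb : b ∈ s
    · rw [pj_mul_in ha, mul_pj_in hb]
    · rw [pj_mul_in ha, mul_pj_out hb]; by_contra e; exact hb ((h a b e).1 ha)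
    · rw [pj_mul_out ha, mul_pj_in hb]; by_contra e; exact ha ((h a b (Ne.symm e)).2 hb)
    · rw [pj_mul_out ha, mul_pj_out hb]

theorem comm_diag (d : ι → F) : Commute (pj F s) (diagonal d) :=
  (diagonal_mul_diagonal _ _).trans (by
    rw [pj, diagonal_mul_diagonal]; congr 1; funext a; exact mul_comm _ _)

theorem comm_pj (t : Set ι) : Commute (pj F s) (pj F t) := comm_diag _

theorem comm_sgn (v : ι → ZMod 2) : Commute (pj F s) (sgn F v) := comm_diag _

/-- `G` is the identity outside `s` -/
def Sp (s : Set ι) (G : Matrix ι ι F) : Prop :=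
  (1 - pj F s) * G = 1 - pj F s ∧ G * (1 - pj F s) = 1 - pj F s

theorem sp_iff : Sp s G ↔ ∀ a b, a ∉ s ∨ b ∉ s → G a b = (1 : Matrix ι ι F) a b := by
  constructor
  · rintro ⟨h1, h2⟩ a b (h | h)
    · have := congrFun (congrFun h1 a) b
      rwa [sub_mul, one_mul, Matrix.sub_apply, Matrix.sub_apply, pj_mul_out h, ← mul_one (pj F s), pj_mul_out h,
        sub_zero, sub_zero] at this
    · have := congrFun (congrFun h2 a) b
      rwa [mul_sub, mul_one, Matrix.sub_apply, Matrix.sub_apply, mul_pj_out h, ← one_mul (pj F s), mul_pj_out h,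
        sub_zero, sub_zero] at this
  · intro h
    constructor
    · ext a b
      rw [sub_mul, one_mul, Matrix.sub_apply, Matrix.sub_apply]
      by_cases ha : a ∈ s
      · rw [pj_mul_in ha, ← mul_one (pj F s), pj_mul_in ha, sub_self, sub_self]
      · rw [pj_mul_out ha, ← mul_one (pj F s), pj_mul_out ha, h a b (.inl ha)]
    · ext a b
      rw [mul_sub, mul_one, Matrix.sub_apply, Matrix.sub_apply]
      by_cases hb : b ∈ s
      · rw [mul_pj_in hb, ← one_mul (pj F s), mul_pj_in hb, sub_self, sub_self]
      · rw [mul_pj_out hb, ← one_mul (pj F s), mul_pj_out hb, h a b (.inr hb)]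

theorem mem_Sup {g : SpecialLinearGroup ι F} : g ∈ Sup F s ↔ Sp s (g : Matrix ι ι F) :=
  sp_iff.symm

theorem Sp.comm (h : Sp s G) : Commute (pj F s) G := by
  have := h.1.trans h.2.symm
  rw [sub_mul, mul_sub, one_mul, mul_one, sub_right_inj] at this
  exact this

theorem sp_of_left (c : Commute (pj F s) G) (h : (1 - pj F s) * G = 1 - pj F s) : Sp s G :=
  ⟨h, by rw [← ((Commute.one_left G).sub_left c).eq, h]⟩

theorem Sp.eq (h : Sp s G) : G = pj F s * G + (1 - pj F s) := by
  rw [← h.1]; noncomm_ring

theorem Sp.entry (h : Sp s G) (e : G a b ≠ 0) : a = b ∨ a ∈ s ∧ b ∈ s := by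
  by_contra hn
  push Not at hn
  have : a ∉ s ∨ b ∉ s := by tauto
  rw [sp_iff.1 h a b this, one_apply_ne hn.1] at e
  exact e rfl

theorem Sp.mul (h : Sp s G) (h' : Sp s H) : Sp s (G * H) :=
  ⟨by rw [← mul_assoc, h.1, h'.1], by rw [mul_assoc, h'.2, h.2]⟩

theorem Sp.pow (h : Sp s G) (n : ℕ) : Sp s (G ^ n) := by
  induction n with
  | zero => exact ⟨by simp, by simp⟩
  | succ n ih => rw [pow_succ]; exact ih.mul h

theorem Sp.mono {t : Set ι} (h : Sp s G) (ht : s ⊆ t) : Sp t G :=
  sp_iff.2 fun a b e => sp_iff.1 h a b (e.imp (fun e x => e (ht x)) fun e x => e (ht x))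

/-- conjugation by a block diagonal matrix -/
theorem Sp.conj (h : Sp s H) {G' : Matrix ι ι F} (c : Commute (pj F s) G) (e : G * G' = 1) :
    Sp s (G * H * G') := by
  have e' : G' * G = 1 := mul_eq_one_comm.1 e
  have c1 := ((Commute.one_left G).sub_left c).eq
  have c2 : (1 - pj F s) * G' = G' * (1 - pj F s) := by
    calc (1 - pj F s) * G' = G' * G * (1 - pj F s) * G' := by rw [e', one_mul]
      _ = G' * ((1 - pj F s) * G) * G' := by rw [c1, mul_assoc G']
      _ = G' * (1 - pj F s) := by rw [mul_assoc, mul_assoc, e, mul_one]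
  constructor
  · rw [← mul_assoc, ← mul_assoc, c1, mul_assoc G, h.1, ← c1, mul_assoc, e, mul_one]
  · rw [mul_assoc, ← c2, ← mul_assoc, mul_assoc G, h.2, mul_assoc, c2, ← mul_assoc, e, one_mul]

theorem coe_mul_inv (g : SpecialLinearGroup ι F) :
    (g : Matrix ι ι F) * ((g⁻¹ : SpecialLinearGroup ι F) : Matrix ι ι F) = 1 :=
  congrArg Subtype.val (mul_inv_cancel g)

theorem coe_inv_mul (g : SpecialLinearGroup ι F) :
    ((g⁻¹ : SpecialLinearGroup ι F) : Matrix ι ι F) * (g : Matrix ι ι F) = 1 :=
  congrArg Subtype.val (inv_mul_cancel g)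

theorem comm_inv {g : SpecialLinearGroup ι F} (c : Commute G g) :
    Commute G ((g⁻¹ : SpecialLinearGroup ι F) : Matrix ι ι F) := by
  change G * _ = _ * G
  calc G * ((g⁻¹ : SpecialLinearGroup ι F) : Matrix ι ι F)
      = ((g⁻¹ : SpecialLinearGroup ι F) : Matrix ι ι F) * (g * G) *
        ((g⁻¹ : SpecialLinearGroup ι F) : Matrix ι ι F) := by rw [← mul_assoc, coe_inv_mul, one_mul]
    _ = _ := by rw [← c.eq, mul_assoc, mul_assoc, coe_mul_inv, mul_one]

theorem conj_mem_Sup {g x : SpecialLinearGroup ι F} (c : Commute (pj F s) g) (hx : x ∈ Sup F s) :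
    g * x * g⁻¹ ∈ Sup F s :=
  mem_Sup.2 ((mem_Sup.1 hx).conj c (coe_mul_inv g))

/-- restriction to the block `s` -/
noncomputable def res (s : Set ι) (G : Matrix ι ι F) : Matrix ι ι F := pj F s * G + (1 - pj F s)

/-- restriction to the complement of the block `s` -/
noncomputable def cres (s : Set ι) (G : Matrix ι ι F) : Matrix ι ι F := (1 - pj F s) * G + pj F s

theorem res_one : res s (1 : Matrix ι ι F) = 1 := by simp [res]

theorem res_mul (c : Commute (pj F s) G) (H : Matrix ι ι F) : res s (G * H) = res s G * res s H := by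
  have h1 : pj F s * G * pj F s = pj F s * G := by rw [mul_assoc, ← c.eq, ← mul_assoc, pj_sq]
  have h2 := pj_sq (F := F) (s := s)
  unfold res
  generalize pj F s = P at *
  calc _ = (P * G + (1 - P)) * (P * H + (1 - P)) - ((P * G * P - P * G) * H -
      (P * G * P - P * G) - (P * P - P) * H + (P * P - P)) := by noncomm_ring
    _ = _ := by rw [h1, h2]; simp

theorem res_pow (c : Commute (pj F s) G) (n : ℕ) : res s (G ^ n) = res s G ^ n := by
  induction n with
  | zero => simp [res_one]
  | succ n ih => rw [pow_succ', res_mul c, ih, pow_succ']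

theorem res_sp (c : Commute (pj F s) G) : Sp s (res s G) := by
  have h2 := pj_sq (F := F) (s := s)
  refine sp_of_left (((Commute.refl _).mul_right c).add_right
    ((Commute.one_right _).sub_right (Commute.refl _))) ?_
  unfold res
  generalize pj F s = P at *
  calc _ = (1 - P) - (P * P - P) * G + (P * P - P) := by noncomm_ring
    _ = _ := by rw [h2]; simp

theorem cres_mul_res (c : Commute (pj F s) G) : cres s G * res s G = G := by
  have h1 := c.eq
  have h2 := pj_sq (F := F) (s := s)
  unfold res cres
  generalize pj F s = P at *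
  calc _ = G + (1 - P) * (G * P - P * G) * (G - 1) - (P * P - P) * G * (G - 1) +
      (P * P - P) * G - (P * P - P) := by noncomm_ring
    _ = _ := by rw [← h1, h2]; simp

theorem res_mul_cres (c : Commute (pj F s) G) : res s G * cres s G = G := by
  have h1 := c.eq
  have h2 := pj_sq (F := F) (s := s)
  unfold res cres
  generalize pj F s = P at *
  calc _ = G - P * (G * P - P * G) * (G - 1) - (P * P - P) * G * (G - 1) +
      (P * P - P) * G - (P * P - P) := by noncomm_ring
    _ = _ := by rw [← h1, h2]; simp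

theorem conj_res (c : Commute (pj F s) G) {G' : Matrix ι ι F} (e : G * G' = 1) (H : Matrix ι ι F) :
    G * res s H * G' = res s (G * H * G') := by
  have h1 := c.eq
  unfold res
  generalize pj F s = P at *
  calc _ = P * (G * H * G') + (1 - P) * (G * G') + (G * P - P * G) * (H - 1) * G' := by noncomm_ring
    _ = _ := by rw [← h1, e]; simp

/-- the diagonal matrix with `δ` in position `k` -/
def dg (k : ι) (δ : F) : Matrix ι ι F := diagonal (Function.update 1 k δ)

theorem det_dg (k : ι) (δ : F) : (dg k δ).det = δ := by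
  rw [dg, det_diagonal, Finset.prod_update_of_mem (Finset.mem_univ k)]
  simp

theorem dg_sp {k : ι} (hk : k ∈ s) (δ : F) : Sp s (dg k δ) := by
  refine sp_iff.2 fun a b e => ?_
  by_cases hab : a = b
  · subst hab
    have : a ≠ k := fun e' => by subst e'; exact e.elim (· hk) (· hk)
    simp [dg, this]
  · simp [dg, hab]

omit [Fintype ι] in
theorem sgn_ee {i j : ι} (d : i ≠ j) : sgn F (ee i j) = 1 - (2 : F) • pj F {i, j} := by
  ext a b
  by_cases hab : a = b
  · subst hab
    by_cases h1 : a = i
    · subst h1; simp [sgn, pj, ee_left d]; norm_num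
    · by_cases h2 : a = j
      · subst h2; simp [sgn, pj, ee_right d]; norm_num
      · simp [sgn, pj, ee_of_ne h1 h2, h1, h2]
  · simp [sgn, pj, hab]

theorem comm_pj_of_sgn (h2 : (2 : F) ≠ 0) {i j : ι} (d : i ≠ j) (c : G * sgn F (ee i j) = sgn F (ee i j) * G) :
    Commute (pj F {i, j}) G := by
  rw [sgn_ee d, mul_sub, sub_mul, mul_one, one_mul, sub_right_inj, mul_smul_comm,
    smul_mul_assoc] at c
  exact (smul_right_injective _ h2 c).symm

theorem sgn_sp {v : ι → ZMod 2} (h : ∀ a, a ∉ s → v a = 0) : Sp s (sgn F v) := by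
  refine sp_iff.2 fun a b e => ?_
  by_cases hab : a = b
  · subst hab
    simp [sgn, h a (e.elim id id)]
  · simp [sgn, hab]

/-- a matrix that is scalar on the block `s` commutes with everything supported on `s` -/
theorem comm_of_scal (c : Commute (pj F s) G) {r : F} (e : pj F s * G = r • pj F s) (h : Sp s H) :
    G * H = H * G := by
  have c1 := ((Commute.one_left G).sub_left c).eq
  have h1 : G = r • pj F s + (1 - pj F s) * G := by rw [← e]; noncomm_ring
  calc G * H = r • (pj F s * H) + G * ((1 - pj F s) * H) := by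
        conv_lhs => rw [h1]
        rw [add_mul, smul_mul_assoc, c1, mul_assoc]
    _ = r • (H * pj F s) + H * (1 - pj F s) * G := by rw [h.1, h.2, h.comm.eq, c1]
    _ = H * G := by
        conv_rhs => rw [h1]
        rw [mul_add, mul_smul_comm, mul_assoc]

section Emb

variable {κ : Type} [Fintype κ] [DecidableEq κ] (e : κ → ι)

/-- the inclusion of coordinates -/
def inc (F : Type*) [Field F] (e : κ → ι) : Matrix ι κ F := Matrix.of fun a x => if a = e x then 1 else 0

/-- the projection to coordinates -/
def prj (F : Type*) [Field F] (e : κ → ι) : Matrix κ ι F := Matrix.of fun x a => if a = e x then 1 else 0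

variable {e}

omit [Fintype κ] in
theorem prj_inc (he : Function.Injective e) : prj F e * inc F e = 1 := by
  ext x y
  simp [prj, inc, mul_apply, one_apply, he.eq_iff, eq_comm]

omit [DecidableEq κ] in
theorem inc_prj (he : Function.Injective e) : inc F e * prj F e = pj F (Set.range e) := by
  classical
  ext a b
  by_cases h : a ∈ Set.range e
  · obtain ⟨x, rfl⟩ := h
    rw [← mul_one (pj F _), pj_mul_in (Set.mem_range_self x)]
    simp only [prj, inc, mul_apply, one_apply, he.eq_iff, of_apply, ite_mul, one_mul, zero_mul,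
      Finset.sum_ite_eq, Finset.mem_univ, if_true]
    simp only [eq_comm]
  · rw [← mul_one (pj F _), pj_mul_out h]
    have : ∀ x, a ≠ e x := fun x hx => h ⟨x, hx.symm⟩
    simp [prj, inc, mul_apply, this]

theorem prj_pj (he : Function.Injective e) : prj F e * pj F (Set.range e) = prj F e := by
  rw [← inc_prj he, ← Matrix.mul_assoc, prj_inc he, Matrix.one_mul]

theorem pj_inc (he : Function.Injective e) : pj F (Set.range e) * inc F e = inc F e := by
  rw [← inc_prj he, Matrix.mul_assoc, prj_inc he, Matrix.mul_one]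

/-- the block of a matrix -/
def blk (e : κ → ι) (G : Matrix ι ι F) : Matrix κ κ F := prj F e * G * inc F e

omit [Fintype κ] in
theorem blk_one (he : Function.Injective e) : blk e (1 : Matrix ι ι F) = 1 := by
  rw [blk, Matrix.mul_one, prj_inc he]

theorem blk_mul (he : Function.Injective e) (c : Commute (pj F (Set.range e)) G) (H : Matrix ι ι F) :
    blk e (G * H) = blk e G * blk e H := by
  unfold blk
  calc _ = prj F e * pj F (Set.range e) * G * H * inc F e := by
        rw [prj_pj he, Matrix.mul_assoc (prj F e) G H]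
    _ = prj F e * (G * (inc F e * prj F e)) * H * inc F e := by
        rw [inc_prj he, ← c.eq, Matrix.mul_assoc (prj F e)]
    _ = _ := by simp only [Matrix.mul_assoc]

omit [DecidableEq κ] in
theorem inc_blk (he : Function.Injective e) (c : Commute (pj F (Set.range e)) G) :
    inc F e * blk e G * prj F e = pj F (Set.range e) * G := by
  unfold blk
  calc _ = inc F e * prj F e * (G * (inc F e * prj F e)) := by simp only [Matrix.mul_assoc]
    _ = _ := by rw [inc_prj he, ← c.eq, ← mul_assoc, pj_sq]

/-- extension by the identity -/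
def xt (e : κ → ι) (m : Matrix κ κ F) : Matrix ι ι F := 1 + inc F e * ((m - 1) * prj F e)

theorem xt_eq (he : Function.Injective e) (m : Matrix κ κ F) :
    xt e m = inc F e * m * prj F e + (1 - pj F (Set.range e)) := by
  rw [xt, Matrix.sub_mul, Matrix.mul_sub, Matrix.one_mul, inc_prj he, Matrix.mul_assoc]
  abel

theorem det_xt (he : Function.Injective e) (m : Matrix κ κ F) : (xt e m).det = m.det := by
  rw [xt, det_one_add_mul_comm, Matrix.mul_assoc, prj_inc he, Matrix.mul_one, add_sub_cancel]

theorem xt_sp (he : Function.Injective e) (m : Matrix κ κ F) : Sp (Set.range e) (xt e m) := by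
  constructor
  · rw [xt, mul_add, mul_one, ← Matrix.mul_assoc, Matrix.sub_mul, pj_inc he, Matrix.one_mul,
      sub_self, Matrix.zero_mul, add_zero]
  · rw [xt, add_mul, one_mul, Matrix.mul_assoc, Matrix.mul_assoc, Matrix.mul_sub, prj_pj he,
      Matrix.mul_one, sub_self, Matrix.mul_zero, Matrix.mul_zero, add_zero]

theorem blk_xt (he : Function.Injective e) (m : Matrix κ κ F) : blk e (xt e m) = m := by
  rw [blk, xt, Matrix.mul_add, Matrix.mul_one, ← Matrix.mul_assoc, prj_inc he, Matrix.one_mul,
    Matrix.add_mul, prj_inc he, Matrix.mul_assoc, prj_inc he, Matrix.mul_one, add_sub_cancel]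

theorem xt_blk (he : Function.Injective e) (h : Sp (Set.range e) G) : xt e (blk e G) = G := by
  rw [xt_eq he, inc_blk he h.comm, ← h.eq]

/-- the block embedding of special linear groups -/
def emb (F : Type*) [Field F] (he : Function.Injective e) :
    SpecialLinearGroup κ F →* SpecialLinearGroup ι F where
  toFun m := ⟨xt e m, by rw [det_xt he, m.2]⟩
  map_one' := Subtype.ext (by simp [xt])
  map_mul' m n := Subtype.ext (by
    change xt e (m.1 * n.1) = xt e m.1 * xt e n.1
    rw [← xt_blk he ((xt_sp he _).mul (xt_sp he _)), blk_mul he (xt_sp he _).comm, blk_xt he,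
      blk_xt he])

theorem coe_emb (he : Function.Injective e) (m : SpecialLinearGroup κ F) :
    (emb F he m : Matrix ι ι F) = xt e m := rfl

theorem emb_injective (he : Function.Injective e) : Function.Injective (emb F he) := fun m n h =>
  Subtype.ext (by rw [← blk_xt he m.1, ← blk_xt he n.1]; exact congrArg (fun x => blk e x.1) h)

theorem range_emb (he : Function.Injective e) : (emb F he).range = Sup F (Set.range e) := by
  ext g
  constructor
  · rintro ⟨m, rfl⟩
    exact mem_Sup.2 (xt_sp he _)
  · intro h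
    have h1 := xt_blk he (mem_Sup.1 h)
    exact ⟨⟨blk e g, by rw [← det_xt he, h1, g.2]⟩, Subtype.ext h1⟩

theorem scal_of_blk (he : Function.Injective e) (c : Commute (pj F (Set.range e)) G) {r : F}
    (h : blk e G = r • (1 : Matrix κ κ F)) : pj F (Set.range e) * G = r • pj F (Set.range e) := by
  rw [← inc_blk he c, h, Matrix.mul_smul, Matrix.mul_one, Matrix.smul_mul, inc_prj he]

end Emb

omit [Fintype ι] [DecidableEq ι] in
theorem inj2 {i j : ι} (d : i ≠ j) : Function.Injective (![i, j] : Fin 2 → ι) := by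
  intro x y h
  fin_cases x <;> fin_cases y <;> simp_all [eq_comm]

omit [Fintype ι] [DecidableEq ι] in
theorem inj3 {i j k : ι} (d : D3 i j k) : Function.Injective (![i, j, k] : Fin 3 → ι) := by
  have := d.ij; have := d.ik; have := d.jk
  intro x y h
  fin_cases x <;> fin_cases y <;> simp_all [eq_comm]

omit [Fintype ι] [DecidableEq ι] in
theorem range2 (i j : ι) : Set.range (![i, j] : Fin 2 → ι) = {i, j} := by
  simp [Set.pair_comm]

omit [Fintype ι] [DecidableEq ι] in
theorem range3 (i j k : ι) : Set.range (![i, j, k] : Fin 3 → ι) = {i, j, k} := by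
  ext a; simp; tauto

/-- the centraliser of a non-scalar `2 × 2` matrix is commutative -/
theorem two_scal {g x y : Matrix (Fin 2) (Fin 2) F} (hx : g * x = x * g) (hy : g * y = y * g)
    (n : x * y ≠ y * x) : ∃ r : F, g = r • (1 : Matrix (Fin 2) (Fin 2) F) := by
  by_contra hn
  apply n
  have x1 := congrFun (congrFun hx 0) 0
  have x2 := congrFun (congrFun hx 0) 1
  have x3 := congrFun (congrFun hx 1) 0
  have y1 := congrFun (congrFun hy 0) 0
  have y2 := congrFun (congrFun hy 0) 1
  have y3 := congrFun (congrFun hy 1) 0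
  simp only [mul_apply, Fin.sum_univ_two] at x1 x2 x3 y1 y2 y3
  have key : g 0 1 ≠ 0 ∨ g 1 0 ≠ 0 ∨ g 0 0 - g 1 1 ≠ 0 := by
    by_contra h
    push Not at h
    refine hn ⟨g 0 0, ?_⟩
    ext a b
    fin_cases a <;> fin_cases b <;> simp [h.1, h.2.1]
    linear_combination -h.2.2
  have k1 : x 0 1 * y 1 0 - y 0 1 * x 1 0 = 0 := by
    rcases key with h | h | h <;> refine (mul_eq_zero.1 ?_).resolve_left h
    · linear_combination x 0 1 * y1 - y 0 1 * x1
    · linear_combination x 1 0 * y1 - y 1 0 * x1
    · linear_combination -x 0 1 * y3 - (y 0 0 - y 1 1) * x1 - x 1 0 * y2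
  have k2 : x 0 1 * (y 0 0 - y 1 1) - y 0 1 * (x 0 0 - x 1 1) = 0 := by
    rcases key with h | h | h <;> refine (mul_eq_zero.1 ?_).resolve_left h
    · linear_combination y 0 1 * x2 - x 0 1 * y2
    · linear_combination x 0 1 * y3 + y 1 0 * x2 + (x 0 0 - x 1 1) * y1
    · linear_combination (y 0 0 - y 1 1) * x2 - (x 0 0 - x 1 1) * y2
  have k3 : x 1 0 * (y 0 0 - y 1 1) - y 1 0 * (x 0 0 - x 1 1) = 0 := by
    rcases key with h | h | h <;> refine (mul_eq_zero.1 ?_).resolve_left h
    · linear_combination -x 1 0 * y2 - (x 0 0 - x 1 1) * y1 - y 0 1 * x3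
    · linear_combination x 1 0 * y3 - y 1 0 * x3
    · linear_combination (x 0 0 - x 1 1) * y3 - (y 0 0 - y 1 1) * x3
  ext a b
  fin_cases a <;> fin_cases b <;> simp only [mul_apply, Fin.sum_univ_two, Fin.zero_eta, Fin.mk_one]
  · linear_combination k1
  · linear_combination -k2
  · linear_combination k3
  · linear_combination -k1

end CfsgLib.GHF.Pj
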