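import Mathlib
import Cfsg.Agent.Lib.GHF.GA
import Cfsg.Agent.Lib.GHF.Pj
import Cfsg.Agent.Lib.TwoGrp.FusModel

/-! Package GD of `plans/GHF.md`: the subgroups `SL₂` and `SL₃`. -/

set_option autoImplicit false

namespace CfsgLib.GHF

open Subgroup Cfsg CfsgLib.W2 CfsgLib.Tech CfsgLib.PComp CfsgLib.Abel2 CfsgLib.L3K CfsgLib.GHD
open Matrix Pj

variable {ι : Type} [Fintype ι] [DecidableEq ι] {F : Type*} [Field F] [Fintype F]
  {A : Subgroup (ProjectiveSpecialLinearGroup ι F)} {g x y : SpecialLinearGroup ι F}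
  {i j k l : ι} {v : ι → ZMod 2}

omit [Fintype F] in
theorem gd_lift (z : ProjectiveSpecialLinearGroup ι F) : ∃ g, mkP F g = z :=
  QuotientGroup.mk'_surjective _ z

omit [Fintype F] in
theorem gd_wt2 (d : i ≠ j) : Wt2 F (dz F (ee i j)) := ⟨i, j, 1, d, by simp⟩

omit [Fintype F] in
theorem gd_dz_sup {s : Set ι} (hi : i ∈ s) (hj : j ∈ s) : dz F (ee i j) ∈ Sup F s :=
  mem_Sup.2 (by
    rw [Ok.coe_dz (ev_ee i j)]
    exact sgn_sp fun a ha => ee_of_ne (fun e => ha (e ▸ hi)) fun e => ha (e ▸ hj))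

omit [Fintype F] in
theorem gd_row (g : SpecialLinearGroup ι F) (a : ι) : ∃ b, (g : Matrix ι ι F) a b ≠ 0 := by
  by_contra hn
  push Not at hn
  have := congrFun (congrFun (coe_mul_inv g) a) a
  simp [mul_apply, hn] at this

omit [Fintype F] in
theorem gd_rows (g : SpecialLinearGroup ι F) (d : i ≠ j) {b : ι}
    (hi : ∀ c, (g : Matrix ι ι F) i c ≠ 0 → c = b) (hj : ∀ c, (g : Matrix ι ι F) j c ≠ 0 → c = b) :
    False := by
  have key : ∀ a, (∀ c, (g : Matrix ι ι F) a c ≠ 0 → c = b) → ∀ a', (g : Matrix ι ι F) a b *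
      ((g⁻¹ : SpecialLinearGroup ι F) : Matrix ι ι F) b a' = (1 : Matrix ι ι F) a a' := by
    intro a ha a'
    rw [← coe_mul_inv g, mul_apply, Finset.sum_eq_single b]
    · intro c _ hc
      rw [of_not_not fun e => hc (ha c e), zero_mul]
    · exact fun e => absurd (Finset.mem_univ b) e
  have h1 := key i hi i
  have h2 := key j hj j
  have h3 := key i hi j
  rw [one_apply_eq] at h1 h2
  rw [one_apply_ne d] at h3
  rcases mul_eq_zero.1 h3 with e | e
  · rw [e, zero_mul] at h1; exact zero_ne_one h1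
  · rw [e, mul_zero] at h2; exact zero_ne_one h2

namespace Ok

variable (h : Ok ι F)
include h

theorem gd_F2_trans (h1 : A ≤ F2 (ζP F) i j) (h2 : A ≤ F2 (ζP F) j k) :
    A ≤ F2 (ζP F) i k :=
  (le_inf h1 h2).trans (h.lab.F3_le i j k)

theorem gd_sup_le_Bk (hA : A ≤ EE (ζP F)) {s : Set ι} (hs : ∀ a ∈ s, ∀ b ∈ s, A ≤ F2 (ζP F) a b) :
    Sup F s ≤ Bk F A := fun g hg => (h.mem_Bk hA).2 fun a b e => by
  rcases (mem_Sup.1 hg).entry e with rfl | e
  · rwa [F2_self]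
  · exact hs a e.1 b e.2

theorem gd_sup2_le_Bk (hA : A ≤ EE (ζP F)) (h1 : A ≤ F2 (ζP F) i j) : Sup F {i, j} ≤ Bk F A :=
  h.gd_sup_le_Bk hA (by
    rintro a (rfl | rfl) b (rfl | rfl)
    exacts [by rwa [F2_self], h1, by rwa [F2_symm], by rwa [F2_self]])

theorem gd_F2_blocks (d : i ≠ j) {a b : ι} (e : F2 (ζP F) i j ≤ F2 (ζP F) a b) :
    a = b ∨ a ∈ ({i, j} : Set ι) ∧ b ∈ ({i, j} : Set ι) := by
  by_cases hab : a = b
  · exact .inl hab
  · rcases h.lab.F2_inj hab ((h.lab.hyp_F2 d).eq_of_le (h.lab.hyp_F2 hab) e) with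
      ⟨rfl, rfl⟩ | ⟨rfl, rfl⟩ <;> simp

theorem gd_F3_blocks (d : D3 i j k) {a b : ι} (e : F3 (ζP F) i j k ≤ F2 (ζP F) a b) :
    a = b ∨ a ∈ ({i, j, k} : Set ι) ∧ b ∈ ({i, j, k} : Set ι) := by
  by_cases hab : a = b
  · exact .inl hab
  · rcases h.lab.hyp_cases d (h.lab.hyp_F2 hab) e with e | e | e <;>
      rcases h.lab.F2_inj hab e with ⟨rfl, rfl⟩ | ⟨rfl, rfl⟩ <;> simp

theorem gd_F3_le_F2 {a b : ι} (ha : a ∈ ({i, j, k} : Set ι)) (hb : b ∈ ({i, j, k} : Set ι)) :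
    F3 (ζP F) i j k ≤ F2 (ζP F) a b := by
  have hE : F3 (ζP F) i j k ≤ EE (ζP F) := inf_le_left.trans (F2_le _ _ _)
  have h1 : ∀ a ∈ ({i, j, k} : Set ι), F3 (ζP F) i j k ≤ F2 (ζP F) i a := by
    rintro a (rfl | rfl | rfl)
    exacts [by rwa [F2_self], inf_le_left, h.lab.F3_le _ _ _]
  exact h.gd_F2_trans (by rw [F2_symm]; exact h1 a ha) (h1 b hb)

/-- a block is invariant -/
theorem gd_comm_block (hA : A ≤ EE (ζP F)) (hg : g ∈ Bk F A) {s : Set ι}
    (hs : ∀ a, a ∈ s ↔ A ≤ F2 (ζP F) i a) : Commute (pj F s) g :=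
  comm_pj_iff.2 fun a b e => by
    have := (h.mem_Bk hA).1 hg a b e
    rw [hs, hs]
    exact ⟨fun e => h.gd_F2_trans e this, fun e => h.gd_F2_trans e (by rwa [F2_symm])⟩

theorem gd_comm_B2 (hA : A ≤ EE (ζP F)) (hg : g ∈ Bk F A) (b : B2 (ζP F) A i j) :
    Commute (pj F {i, j}) g :=
  h.gd_comm_block hA hg (i := i) fun a => ⟨by
    rintro (rfl | rfl)
    exacts [by rwa [F2_self], b.le], b.all a⟩

theorem N_le : ∀ {i j k : ι}, D3 i j k → NP F i j k ≤ CS (F3 (ζP F) i j k) := by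
  rintro i j k - _ ⟨g, hg, rfl⟩
  have hE : F3 (ζP F) i j k ≤ EE (ζP F) := inf_le_left.trans (F2_le _ _ _)
  exact h.mk_mem hE (h.gd_sup_le_Bk hE (fun a ha b hb => h.gd_F3_le_F2 ha hb) hg)

theorem gd_mem_Bk3 (d : D3 i j k) (hg : mkP F g ∈ CS (F3 (ζP F) i j k)) :
    g ∈ Bk F (F3 (ζP F) i j k) := by
  have hE : F3 (ζP F) i j k ≤ EE (ζP F) := inf_le_left.trans (F2_le _ _ _)
  by_contra hn
  obtain ⟨s, hs⟩ := h.chi hg
  obtain ⟨b, hb⟩ := gd_row g i
  have hb' : b ∉ ({i, j, k} : Set ι) := fun e =>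
    hn (h.mem_Bk_of_entry hE hg hb (h.gd_F3_le_F2 (by simp) e))
  have key : ∀ a ∈ ({i, j, k} : Set ι), ∀ c, (g : Matrix ι ι F) a c ≠ 0 → c = b := by
    intro a ha c hc
    refine (h.gd_F3_blocks d ((h.le_F2_iff hE).2 fun v hv hv' => ?_)).resolve_right fun e => hb' e.2
    have e1 := hs v hv hv' a c hc
    have e2 := hs v hv hv' i b hb
    rw [(h.le_F2_iff hE).1 (h.gd_F3_le_F2 (by simp) ha) v hv hv', e1] at e2
    exact add_right_cancel e2
  exact gd_rows g d.ij (key i (by simp)) (key j (by simp))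

theorem N_comm : ∀ {i j k : ι}, D3 i j k →
    ⁅CS (F3 (ζP F) i j k), CS (F3 (ζP F) i j k)⁆ ≤ NP F i j k := by
  intro i j k d
  have hE : F3 (ζP F) i j k ≤ EE (ζP F) := inf_le_left.trans (F2_le _ _ _)
  refine commutator_le.2 fun x hx y hy => ?_
  obtain ⟨x, rfl⟩ := gd_lift x
  obtain ⟨y, rfl⟩ := gd_lift y
  have key : ∀ g, mkP F g ∈ CS (F3 (ζP F) i j k) → ∀ a b, a ∉ ({i, j, k} : Set ι) ∨
      b ∉ ({i, j, k} : Set ι) → a ≠ b → (g : Matrix ι ι F) a b = 0 := by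
    intro g hg a b e hab
    by_contra hn
    rcases h.gd_F3_blocks d ((h.mem_Bk hE).1 (h.gd_mem_Bk3 d hg) a b hn) with e' | e'
    · exact hab e'
    · tauto
  have cm : ∀ g, mkP F g ∈ CS (F3 (ζP F) i j k) → Commute (pj F {i, j, k}) g := fun g hg =>
    comm_pj_iff.2 fun a b e => by
      by_cases hab : a = b
      · rw [hab]
      · have := not_or.1 (mt (fun e' => key g hg a b e' hab) e)
        exact iff_of_true (not_not.1 this.1) (not_not.1 this.2)
  have hm := (CS (F3 (ζP F) i j k)).mul_mem (mul_mem (mul_mem hx hy) (inv_mem hx)) (inv_mem hy)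
  rw [← map_inv, ← map_inv, ← map_mul, ← map_mul, ← map_mul] at hm
  refine ⟨x * y * x⁻¹ * y⁻¹, mem_Sup.2 (sp_of_left (cm _ hm) ?_), by simp [commutatorElement_def]⟩
  have e : (1 - pj F {i, j, k}) * (x.1 * y.1) = (1 - pj F {i, j, k}) * (y.1 * x.1) := by
    ext a b
    simp only [sub_mul, one_mul, Matrix.sub_apply]
    by_cases ha : a ∈ ({i, j, k} : Set ι)
    · rw [pj_mul_in ha, pj_mul_in ha, sub_self, sub_self]
    · rw [pj_mul_out ha, pj_mul_out ha, mul_apply, mul_apply,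
        Finset.sum_eq_single a (fun c _ hc => by rw [key x hx a c (.inl ha) hc.symm, zero_mul])
          (fun e => absurd (Finset.mem_univ a) e),
        Finset.sum_eq_single a (fun c _ hc => by rw [key y hy a c (.inl ha) hc.symm, zero_mul])
          (fun e => absurd (Finset.mem_univ a) e)]
      by_cases hab : a = b
      · subst hab; rw [mul_comm]
      · rw [key x hx a b (.inl ha) hab, key y hy a b (.inl ha) hab, mul_zero, mul_zero]
  change _ * (x.1 * y.1 * (x⁻¹).1 * (y⁻¹).1) = _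
  rw [← mul_assoc, ← mul_assoc, e, mul_assoc (_ - _), mul_assoc y.1, coe_mul_inv, mul_one,
    mul_assoc, coe_mul_inv, mul_one]

theorem gd_mk_emb_inj {κ : Type} [Fintype κ] [DecidableEq κ] {e : κ → ι} (he : Function.Injective e)
    (hk : k ∉ Set.range e) : Function.Injective ((mkP F).comp (emb F he)) := fun m n e' =>
  emb_injective he (h.sup_inj hk (range_emb (F := F) he ▸ ⟨m, rfl⟩) (range_emb (F := F) he ▸ ⟨n, rfl⟩) e')

omit h [Fintype F] in
theorem gd_range_N (d : D3 i j k) : ((mkP F).comp (emb F (inj3 d))).range = NP F i j k := by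
  rw [MonoidHom.range_comp, range_emb, range3, NP]

omit h [Fintype F] in
theorem gd_range_L (d : i ≠ j) : ((mkP F).comp (emb F (inj2 d))).range = LP F i j := by
  rw [MonoidHom.range_comp, range_emb, range2, LP]

theorem N_equiv (d : D3 i j k) : Nonempty (NP F i j k ≃* SpecialLinearGroup (Fin 3) F) := by
  obtain ⟨m, h1, h2, h3, -⟩ := h.lab.fresh i j k k
  exact ⟨((MonoidHom.ofInjective (h.gd_mk_emb_inj (k := m) (inj3 d) (by
    rw [range3]; simp [h1, h2, h3]))).trans (MulEquiv.subgroupCongr (gd_range_N d))).symm⟩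

theorem gd_L_equiv (d : i ≠ j) : Nonempty (LP F i j ≃* SpecialLinearGroup (Fin 2) F) := by
  obtain ⟨m, h1, h2, -, -⟩ := h.lab.fresh i j j j
  exact ⟨((MonoidHom.ofInjective (h.gd_mk_emb_inj (k := m) (inj2 d) (by
    rw [range2]; simp [h1, h2]))).trans (MulEquiv.subgroupCongr (gd_range_L d))).symm⟩

theorem N_res : ∀ {i j k : ι}, D3 i j k → NP F i j k ≤ Fusion.opRes 2 (NP F i j k) := by
  intro i j k d
  have key : (Fusion.opRes 2 (NP F i j k)).comap ((mkP F).comp (emb F (inj3 d))) = ⊤ := by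
    refine Classical.sl_eq_top_of_transvection_mem _ fun a b hab c => ?_
    refine Fusion.mem_opRes_of (gd_range_N (F := F) d ▸ ⟨_, rfl⟩) ?_
    refine Nat.Coprime.coprime_dvd_left (orderOf_dvd_of_pow_eq_one (n := Fintype.card F) ?_)
      (Nat.coprime_two_right.2 h.odd)
    have e : ∀ n : ℕ, SpecialLinearGroup.transvection hab c ^ n =
        SpecialLinearGroup.transvection hab (n * c) := by
      intro n
      induction n with
      | zero => simp [SpecialLinearGroup.transvection_coeff_zero]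
      | succ n ih =>
        rw [pow_succ, ih]
        exact Subtype.ext ((transvection_mul_transvection_same a b hab _ _).trans (by
          rw [Nat.cast_succ, add_mul, one_mul]; rfl))
    rw [← map_pow, e, FiniteField.cast_card_eq_zero, zero_mul,
      SpecialLinearGroup.transvection_coeff_zero, map_one]
  intro z hz
  rw [← gd_range_N d] at hz
  obtain ⟨m, rfl⟩ := hz
  exact (key ▸ mem_top m : m ∈ comap _ _)

theorem N_z : ∀ {i j k : ι}, D3 i j k →
    zz (ζP F) i j ∈ NP F i j k ∧ zz (ζP F) j k ∈ NP F i j k := fun _ =>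
  ⟨⟨_, gd_dz_sup (by simp) (by simp), rfl⟩, ⟨_, gd_dz_sup (by simp) (by simp), rfl⟩⟩

omit h in
theorem sylow_sl3 (hF : Odd (Fintype.card F)) (P : Sylow 2 (SpecialLinearGroup (Fin 3) F))
    (W : Sylow 2 (GL (Fin 2) F)) :
    Nonempty ((P : Subgroup (SpecialLinearGroup (Fin 3) F)) ≃* (W : Subgroup (GL (Fin 2) F))) := by
  obtain ⟨T, ⟨e⟩⟩ := TwoGrp.gl2_psl3 hF W
  obtain ⟨e'⟩ := TwoGrp.nonempty_sylow_equiv_map _
    (QuotientGroup.mk'_surjective (center (SpecialLinearGroup (Fin 3) F))) (by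
    rw [QuotientGroup.ker_mk', Classical.sl_card_center, Fintype.card_fin]
    exact fun e => absurd (e.trans (Nat.gcd_dvd_left _ _)) (by norm_num)) P
  exact ⟨(e'.trans (Sylow.equiv _ T)).trans e.symm⟩

omit h in
theorem gd_syl_equiv {G H : Type*} [Group G] [Group H] [Finite G] [Finite H] {N P : Subgroup G}
    (e : N ≃* H) (hP : IsSylowIn 2 P N) (S : Sylow 2 H) : Nonempty (P ≃* (S : Subgroup H)) := by
  obtain ⟨e'⟩ := Fusion.nonempty_sylow_equiv_of_injective e.toMonoidHom e.injective (m := 1)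
    (by rw [mul_one, Nat.card_congr e.toEquiv]) (by norm_num) hP.toSylow S
  exact ⟨((subgroupOfEquivOfLe hP.le).symm.trans (MulEquiv.subgroupCongr hP.coe_toSylow.symm)).trans e'⟩

theorem N_syl (W : Sylow 2 (GL (Fin 2) F)) : ∀ {i j k : ι}, D3 i j k → ∀ P,
    IsSylowIn 2 P (NP F i j k) → Nonempty (P ≃* (W : Subgroup (GL (Fin 2) F))) := by
  intro i j k d P hP
  obtain ⟨e⟩ := h.N_equiv d
  obtain ⟨e1⟩ := gd_syl_equiv e hP default
  obtain ⟨e2⟩ := sylow_sl3 h.odd default W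
  exact ⟨e1.trans e2⟩

theorem L_le : ∀ {i j : ι}, i ≠ j → LP F i j ≤ CS (F2 (ζP F) i j) := by
  rintro i j - _ ⟨g, hg, rfl⟩
  exact h.mk_mem (F2_le _ _ _) (h.gd_sup2_le_Bk (F2_le _ _ _) le_rfl hg)

theorem gd_comm_of_Cx (d : i ≠ j) (hg : mkP F g ∈ Cx (zz (ζP F) i j)) : Commute (pj F {i, j}) g :=
  comm_pj_of_sgn h.two_ne d (by
    rw [← coe_dz (ev_ee i j)]
    exact congrArg Subtype.val (h.comm_of_wt2 (gd_wt2 d) (mem_Cx.1 hg)))

theorem L_norm : ∀ {i j : ι}, i ≠ j → Cx (zz (ζP F) i j) ≤ NS (LP F i j) := by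
  intro i j d z hz
  obtain ⟨g, rfl⟩ := gd_lift z
  refine mem_normalizer_of_forall ?_
  rintro _ ⟨x, hx, rfl⟩
  exact ⟨_, conj_mem_Sup (h.gd_comm_of_Cx d hz) hx, by simp⟩

/-- commutation with an element of `SL₂` lifts -/
theorem gd_comm_sup (c : Commute (pj F {i, j}) g) (hx : x ∈ Sup F {i, j})
    (e : mkP F x * mkP F g = mkP F g * mkP F x) : g * x = x * g := by
  obtain ⟨m, h1, h2, -, -⟩ := h.lab.fresh i j j j
  rw [← mul_inv_eq_iff_eq_mul]
  exact h.sup_inj (k := m) (by simp [h1, h2]) (conj_mem_Sup c hx) hx (by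
    rw [map_mul, map_mul, ← e, map_inv, mul_inv_cancel_right])

theorem gd_scal_of_syl (d : i ≠ j) {Q : Subgroup (ProjectiveSpecialLinearGroup ι F)}
    (hQ : IsSylowIn 2 Q (LP F i j)) (c : Commute (pj F {i, j}) g) (hg : mkP F g ∈ CS Q) :
    ∃ r : F, pj F {i, j} * (g : Matrix ι ι F) = r • pj F {i, j} := by
  obtain ⟨e⟩ := h.gd_L_equiv d
  obtain ⟨e1⟩ := gd_syl_equiv e hQ default
  obtain ⟨n, hn, ⟨e2⟩⟩ := Classical.sl2_sylow_two_quaternion h.odd
    (default : Sylow 2 (SpecialLinearGroup (Fin 2) F))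
  obtain ⟨a, b, hq⟩ := TwoGrp.exists_isQuat (e1.trans e2)
  have ha : a ∈ Q := (hq.mem a).2 ⟨1, .inl (by simp)⟩
  have hb : b ∈ Q := (hq.mem b).2 ⟨0, .inr (by simp)⟩
  have hab : b * a ≠ a * b := fun e => by
    have e1 := hq.conj
    rw [e, mul_inv_cancel_right, eq_inv_iff_mul_eq_one, ← pow_two] at e1
    have e2 := Nat.le_of_dvd two_pos (orderOf_dvd_of_pow_eq_one e1)
    have e3 : 2 ^ 1 ≤ 2 ^ n := Nat.pow_le_pow_right two_pos hn
    rw [hq.ord] at e2
    omega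
  obtain ⟨x, hx, rfl⟩ := hQ.le ha
  obtain ⟨y, hy, rfl⟩ := hQ.le hb
  have cx : g.1 * x.1 = x.1 * g.1 := congrArg Subtype.val (h.gd_comm_sup c hx (hg _ ha))
  have cy : g.1 * y.1 = y.1 * g.1 := congrArg Subtype.val (h.gd_comm_sup c hy (hg _ hb))
  have sx := mem_Sup.1 hx
  have sy := mem_Sup.1 hy
  rw [← range2] at c sx sy ⊢
  obtain ⟨r, hr⟩ := two_scal (g := blk ![i, j] g.1) (x := blk ![i, j] x.1) (y := blk ![i, j] y.1)
    (by rw [← blk_mul (inj2 d) c, ← blk_mul (inj2 d) sx.comm, cx])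
    (by rw [← blk_mul (inj2 d) c, ← blk_mul (inj2 d) sy.comm, cy]) fun e => hab (by
      rw [← blk_mul (inj2 d) sx.comm, ← blk_mul (inj2 d) sy.comm] at e
      rw [← map_mul, ← map_mul]
      exact congrArg _ (Subtype.ext ((xt_blk (inj2 d) (sy.mul sx)).symm.trans
        ((congrArg _ e.symm).trans (xt_blk (inj2 d) (sx.mul sy))))))
  exact ⟨r, scal_of_blk (inj2 d) c hr⟩

theorem gd_scal_of_L (d : i ≠ j) (c : Commute (pj F {i, j}) g) (hg : mkP F g ∈ CS (LP F i j)) :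
    ∃ r : F, pj F {i, j} * (g : Matrix ι ι F) = r • pj F {i, j} := by
  obtain ⟨Q, hQ⟩ := exists_isSylowIn 2 (LP F i j)
  exact h.gd_scal_of_syl d hQ c (centralizer_le hQ.le hg)

theorem L_cen : ∀ {i j : ι}, i ≠ j → LP F i j ⊓ CS (LP F i j) ≤ zpowers (zz (ζP F) i j) := by
  rintro i j d _ ⟨⟨x, hx, rfl⟩, hc⟩
  have sx := mem_Sup.1 hx
  obtain ⟨r, hr⟩ := h.gd_scal_of_L d sx.comm hc
  have e1 := sx.eq
  rw [hr] at e1
  have e2 : xt ![i, j] (r • (1 : Matrix (Fin 2) (Fin 2) F)) = x.1 := by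
    rw [xt_eq (inj2 d), Matrix.mul_smul, Matrix.mul_one, Matrix.smul_mul, inc_prj (inj2 d), range2,
      ← e1]
  have e3 := det_xt (inj2 d) (r • (1 : Matrix (Fin 2) (Fin 2) F))
  rw [e2, x.2, det_smul, det_one, mul_one, Fintype.card_fin] at e3
  rcases mul_self_eq_one_iff.1 ((pow_two r).symm.trans e3.symm) with rfl | rfl
  · have : x = 1 := Subtype.ext (by rw [e1]; simp)
    rw [this, map_one]
    exact one_mem _
  · have : x = dz F (ee i j) := Subtype.ext (by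
      rw [e1, coe_dz (ev_ee i j), sgn_ee d, two_smul, neg_one_smul]; abel)
    rw [this]
    exact mem_zpowers _

theorem L_syl : ∀ {i j : ι}, i ≠ j → ∀ Q, IsSylowIn 2 Q (LP F i j) → CS Q ≤ CS (LP F i j) := by
  intro i j d Q hQ z hz
  obtain ⟨g, rfl⟩ := gd_lift z
  have hzQ : zz (ζP F) i j ∈ Q := by
    refine hQ.le_of_normalizes (Q := zpowers (zz (ζP F) i j))
      (isPGroup_zpowers_of_pow (k := 1) (by rw [pow_one, pow_two, h.lab.zz_sq]))
      (zpowers_le.2 ⟨_, gd_dz_sup (by simp) (by simp), rfl⟩) (zpowers_le.2 ?_) (mem_zpowers _)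
    refine centralizer_le_normalizer _ fun q hq => ?_
    exact (h.L_le d (hQ.le hq) _ (h.lab.zz_mem_self i j)).symm
  have c := h.gd_comm_of_Cx d (mem_Cx.2 (hz _ hzQ).symm)
  obtain ⟨r, hr⟩ := h.gd_scal_of_syl d hQ c hz
  rintro _ ⟨x, hx, rfl⟩
  rw [← map_mul, ← map_mul]
  exact congrArg _ (Subtype.ext (comm_of_scal c hr (mem_Sup.1 hx)).symm)

theorem comm : ∀ A ≤ EE (ζP (ι := ι) F), Small (ι := ι) (ζP F) A → CZ (ι := ι) (ζP F) A →
    (∃ i j : ι, i ≠ j ∧ A ≤ F2 (ζP F) i j) → ∀ x ∈ CS A, ∀ y ∈ CS A,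
    (∀ i j, i ≠ j → A ≤ F2 (ζP F) i j → x ∈ CS (LP F i j) ∨ y ∈ CS (LP F i j)) →
    x * y = y * x := by
  rintro A hA sm cz ⟨i, j, d, hij⟩ x hx y hy hxy
  obtain ⟨x, rfl⟩ := gd_lift x
  obtain ⟨y, rfl⟩ := gd_lift y
  have bx := h.mem_Bk_of_comm hA hx d hij (cz i j d hij hx)
  have by' := h.mem_Bk_of_comm hA hy d hij (cz i j d hij hy)
  have aux : ∀ {s : Set ι} {X Y : Matrix ι ι F} {r : F}, Commute (pj F s) Y →
      pj F s * X = r • pj F s → pj F s * (X * Y) = pj F s * (Y * X) := by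
    intro s X Y r c e
    rw [← mul_assoc, e, ← mul_assoc, c.eq, mul_assoc, e, smul_mul_assoc, mul_smul_comm, c.eq]
  have key : ∀ a, ∃ s : Set ι, a ∈ s ∧ pj F s * (x.1 * y.1) = pj F s * (y.1 * x.1) := by
    intro a
    by_cases ha : ∃ b, a ≠ b ∧ A ≤ F2 (ζP F) a b
    · obtain ⟨b, hab, hb⟩ := ha
      have B : B2 (ζP F) A a b := ⟨hab, hb, fun c hc => by
        by_contra hn
        push Not at hn
        exact sm b a c ⟨hab.symm, hn.2.symm, hn.1.symm⟩ (le_inf (by rwa [F2_symm]) hc)⟩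
      have cx := h.gd_comm_B2 hA bx B
      have cy := h.gd_comm_B2 hA by' B
      refine ⟨{a, b}, by simp, ?_⟩
      rcases hxy a b hab hb with e | e
      · obtain ⟨r, hr⟩ := h.gd_scal_of_L hab cx e
        exact aux cy hr
      · obtain ⟨r, hr⟩ := h.gd_scal_of_L hab cy e
        exact (aux cx hr).symm
    · push Not at ha
      have hs : ∀ c, c ∈ ({a} : Set ι) ↔ A ≤ F2 (ζP F) a c := fun c =>
        ⟨by rintro rfl; rwa [F2_self], fun e => of_not_not fun e' => ha c (Ne.symm e') e⟩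
      have cx := h.gd_comm_block hA bx hs
      refine ⟨{a}, rfl, aux (r := x.1 a a) (h.gd_comm_block hA by' hs) ?_⟩
      ext b c
      rw [Matrix.smul_apply, ← mul_one (pj F {a}), mul_assoc, one_mul]
      by_cases hb : b ∈ ({a} : Set ι)
      · rw [pj_mul_in hb, pj_mul_in hb]
        obtain rfl : b = a := hb
        by_cases hc : b = c
        · subst hc; simp
        · rw [one_apply_ne hc, smul_zero]
          by_contra e
          exact hc ((comm_pj_iff.1 cx b c e).1 rfl).symm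
      · rw [pj_mul_out hb, pj_mul_out hb, smul_zero]
  rw [← map_mul, ← map_mul]
  refine congrArg _ (Subtype.ext (Matrix.ext fun a b => ?_))
  obtain ⟨s, ha, e⟩ := key a
  have := congrFun (congrFun e a) b
  rwa [pj_mul_in ha, pj_mul_in ha] at this

end Ok

end CfsgLib.GHF
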