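import Mathlib
import Cfsg.Agent.Lib.GHF.CorA
import Cfsg.Agent.Lib.GHD.Lab

/-! Package LOCA of `plans/GHF.md`: transfer of the basic facts. -/

set_option autoImplicit false

namespace CfsgLib.GHF

open Subgroup Cfsg CfsgLib.W2 CfsgLib.Tech CfsgLib.PComp CfsgLib.Abel2 CfsgLib.L3K CfsgLib.GHD

variable {H Γ W : Type*} [Group H] [Group Γ] [Group W] [Finite H] [Finite Γ] {ι : Type} [Fintype ι]
  [DecidableEq ι] {η : (ι → ZMod 2) → H} {ζ : (ι → ZMod 2) → Γ} {F F' A M : Subgroup H}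
  {F₀ : Subgroup Γ} {D : Subgroup (H × Γ)} {L : ι → ι → Subgroup Γ} {N : ι → ι → ι → Subgroup Γ}
  {i j k l m m' a b : ι} {v : ι → ZMod 2} {g x y y' e : H} {σ : Equiv.Perm ι}

omit [Finite H] in
theorem CS_zp (e : H) : CS (zpowers e) = Cx e := by
  rw [CS, zpowers_eq_closure, centralizer_closure]

omit [Finite H] in
theorem le_F2_aux (h : Lab η) (hF : F ≤ EE η) :
    F ≤ F2 η i j ↔ ∀ v, Ev v → η v ∈ F → v i = v j := by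
  refine ⟨fun e v hv h1 => (h.mem_F2 hv).1 (e h1), fun e x hx => ?_⟩
  obtain ⟨v, hv, rfl⟩ := h.mem_E_iff.1 (hF hx)
  exact (h.mem_F2 hv).2 (e v hv hx)

omit [Finite H] [Finite Γ] [DecidableEq ι] in
theorem hyp_aux (h : Lab η) (h' : Lab ζ) (hF : F₀ ≤ EE ζ)
    (e : ∀ v, Ev v → (η v ∈ F ↔ ζ v ∈ F₀)) (a : Hyp F (EE η)) : Hyp F₀ (EE ζ) := by
  obtain ⟨b, h1, h2⟩ := a.exists_not_mem
  obtain ⟨u, hu, rfl⟩ := h.mem_E_iff.1 h1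
  refine Hyp.of_iff hF (mem_E hu) (fun c => h2 ((e u hu).2 c)) fun x hx hn => ?_
  obtain ⟨v, hv, rfl⟩ := h'.mem_E_iff.1 hx
  rw [← h'.mul v u hv hu, ← e _ (hv.add hu), h.mul v u hv hu]
  exact (a.mem_or (mem_E hv) h1 h2).resolve_left fun c => hn ((e v hv).1 c)

namespace Loc

section

variable (h : Loc η F ζ F₀ D)
include h

omit [Finite H] [Finite Γ] [DecidableEq ι] in
theorem conj_F (g : H) (hx : x ∈ F) : g * x * g⁻¹ = x := by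
  rw [mem_center_iff.1 (h.cen hx) g, mul_inv_cancel_right]

omit [Finite H] [Finite Γ] [DecidableEq ι] h in
theorem adm_ov (P : Subgroup H) : Adm ⊤ (CS F₀) D (ov D P) := Adm.of_le inf_le_left

omit [Finite H] [Finite Γ] [DecidableEq ι] in
theorem admE : Adm ⊤ (CS F₀) D (ov D (EE η)) := Adm.of_le inf_le_left

omit [Finite H] [Finite Γ] in
theorem sq_of (c : IsConj (zz η i j) y) : y * y = 1 := by
  obtain ⟨g, rfl⟩ := isConj_iff.1 c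
  rw [conj_mul, h.lab.zz_sq, mul_one, mul_inv_cancel]

omit [Finite H] [Finite Γ] in
/-- the partner of a conjugate of `zᵢⱼ` -/
theorem part (c : IsConj (zz η i j) y) {B : Subgroup (H × Γ)} (b : Adm ⊤ (CS F₀) D B) {y₀ : Γ}
    (m : (y, y₀) ∈ B) : ∃ γ ∈ CS F₀, γ * zz ζ i j * γ⁻¹ = y₀ := by
  obtain ⟨g, rfl⟩ := isConj_iff.1 c
  exact h.cor.conj1 h.cor.adm b (mem_top g) (h.gr _ (ev_ee i j)) m

omit [Finite H] [Finite Γ] [DecidableEq ι] in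
theorem p1_ov' (hF : F' ≤ EE η) : p1 (ov D F') = F' := by
  refine p1_ov fun x hx => ?_
  obtain ⟨v, hv, rfl⟩ := h.lab.mem_E_iff.1 (hF hx)
  exact mem_p1.2 ⟨_, h.gr v hv⟩

omit [Finite H] [Finite Γ] [DecidableEq ι] in
theorem mem_pt (hv : Ev v) : ζ v ∈ p2 (ov D F') ↔ η v ∈ F' := by
  refine ⟨fun e => ?_, fun e => mem_p2.2 ⟨_, h.gr v hv, e⟩⟩
  obtain ⟨x, h1, h2⟩ := mem_p2.1 e
  exact h.cor.eq1 h.cor.adm h1 (h.gr v hv) ▸ h2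

omit [Finite H] [Finite Γ] [DecidableEq ι] in
theorem mem_pt' (hF : F' ≤ EE η) {z : Γ} :
    z ∈ p2 (ov D F') ↔ ∃ v, Ev v ∧ η v ∈ F' ∧ ζ v = z := by
  refine ⟨fun e => ?_, fun ⟨v, hv, h1, h2⟩ => h2 ▸ (h.mem_pt hv).2 h1⟩
  obtain ⟨x, h1, h2⟩ := mem_p2.1 e
  obtain ⟨v, hv, rfl⟩ := h.lab.mem_E_iff.1 (hF h2)
  exact ⟨v, hv, h2, h.cor.eq2 h.cor.adm (h.gr v hv) h1⟩

omit [Finite H] [Finite Γ] in
theorem gr_zz (i j : ι) : (zz η i j, zz ζ i j) ∈ D := by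
  exact h.gr _ (ev_ee i j)

omit [Finite H] [Finite Γ] in
theorem zz_iff : zz η i j ∈ F ↔ zz ζ i j ∈ F₀ := by
  exact h.mem _ (ev_ee i j)

omit [Finite H] [Finite Γ] [DecidableEq ι] in
theorem conj_mem (g : H) : g * x * g⁻¹ ∈ F ↔ x ∈ F := by
  refine ⟨fun e => ?_, fun e => (h.conj_F g e).symm ▸ e⟩
  have := h.conj_F g⁻¹ e
  rw [show g⁻¹ * (g * x * g⁻¹) * g⁻¹⁻¹ = x by group] at this
  exact this ▸ e

omit [Finite H] [Finite Γ] in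
theorem blk (a : Acts η g σ) : F ≤ F2 η (σ i) (σ j) ↔ F ≤ F2 η i j := by
  rw [← h.lab.cj_F2 a, le_cj_iff]
  refine forall₂_congr fun x hx => ?_
  have := h.conj_F g⁻¹ hx
  rw [inv_inv] at this
  rw [this]

omit [Finite H] [Finite Γ] in
theorem blk' (a : Acts η g σ) (hi : F ≤ F2 η i (σ i)) (j : ι) : F ≤ F2 η j (σ j) := by
  intro x hx
  obtain ⟨v, hv, rfl⟩ := h.lab.mem_E_iff.1 (h.le hx)
  have e := (h.lab.acts_apply a hv).symm.trans (h.conj_F g hx)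
  have h1 := (h.lab.mem_F2 hv).1 (hi hx)
  rw [h.lab.mem_F2 hv]
  rcases h.lab.eq_iff (hv.comp _) hv e with e | e
  · simpa using congrFun e (σ j)
  · have h2 := congrFun e (σ i)
    simp [h1] at h2

end

variable (hM : Mod ζ L N W) (h : Loc η F ζ F₀ D)
include hM h

omit [Finite H] [Finite Γ] in
theorem pt_F : p2 (ov D F) = F₀ := by
  ext z
  rw [h.mem_pt' h.le]
  refine ⟨fun ⟨v, hv, h1, h2⟩ => h2 ▸ (h.mem v hv).1 h1, fun e => ?_⟩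
  obtain ⟨v, hv, rfl⟩ := hM.mem_E_iff.1 (h.le₀ e)
  exact ⟨v, hv, (h.mem v hv).2 e, rfl⟩

omit [Finite H] [Finite Γ] in
theorem pt_F2 (i j : ι) : p2 (ov D (F2 η i j)) = F2 ζ i j := by
  ext z
  rw [h.mem_pt' (F2_le _ _ _), hM.mem_F2_iff]
  exact exists_congr fun v => and_congr_right fun hv => by rw [h.lab.mem_F2 hv]

omit [Finite H] [Finite Γ] in
theorem pt_F3 (i j k : ι) : p2 (ov D (F3 η i j k)) = F3 ζ i j k := by
  ext z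
  rw [h.mem_pt' (inf_le_left.trans (F2_le _ _ _))]
  refine ⟨fun ⟨v, hv, h1, h2⟩ => h2 ▸ ⟨(hM.mem_F2 hv).2 ((h.lab.mem_F2 hv).1 h1.1),
    (hM.mem_F2 hv).2 ((h.lab.mem_F2 hv).1 h1.2)⟩, fun e => ?_⟩
  obtain ⟨v, hv, rfl⟩ := hM.mem_E_iff.1 (F2_le _ _ _ e.1)
  exact ⟨v, hv, ⟨(h.lab.mem_F2 hv).2 ((hM.mem_F2 hv).1 e.1),
    (h.lab.mem_F2 hv).2 ((hM.mem_F2 hv).1 e.2)⟩, rfl⟩

omit [Finite H] [Finite Γ] in
theorem pt_E : p2 (ov D (EE η)) = EE ζ := by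
  ext z
  rw [h.mem_pt' le_rfl, hM.mem_E_iff]
  exact exists_congr fun v => and_congr_right fun hv => and_iff_right (mem_E hv)

omit [Finite H] [Finite Γ] in
theorem le_iff : F ≤ F2 η i j ↔ F₀ ≤ F2 ζ i j := by
  rw [le_F2_aux h.lab h.le, le_F2_aux hM.toLab h.le₀]
  exact forall₂_congr fun v hv => by rw [h.mem v hv]

omit [Finite H] [Finite Γ] in
theorem B2_iff : B2 η F i j ↔ B2 ζ F₀ i j := by
  exact ⟨fun b => ⟨b.ne, (le_iff hM h).1 b.le, fun k e => b.all k ((le_iff hM h).2 e)⟩,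
    fun b => ⟨b.ne, (le_iff hM h).2 b.le, fun k e => b.all k ((le_iff hM h).1 e)⟩⟩

omit [Finite H] [Finite Γ] in
theorem small_iff : Small η F ↔ Small ζ F₀ := by
  simp only [Small, le_inf_iff, le_iff hM h]

omit [Finite H] [Finite Γ] in
theorem eq_E_iff : F = EE η ↔ F₀ = EE ζ := by
  refine ⟨fun e => by rw [← pt_F hM h, e, pt_E hM h], fun e => le_antisymm h.le fun x hx => ?_⟩
  obtain ⟨v, hv, rfl⟩ := h.lab.mem_E_iff.1 hx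
  exact (h.mem v hv).2 (e ▸ mem_E hv)

omit [Finite H] [Finite Γ] in
theorem hyp_iff : Hyp F (EE η) ↔ Hyp F₀ (EE ζ) := by
  exact ⟨hyp_aux h.lab hM.toLab h.le₀ h.mem,
    hyp_aux hM.toLab h.lab h.le fun v hv => (h.mem v hv).symm⟩

theorem perm (hg : g ∈ NS (EE η)) : ∃ σ, Acts η g σ := by
  obtain ⟨γ, -, e⟩ := h.cor.tra1 h.admE h.admE (mem_top g)
    (by rw [h.p1_ov' le_rfl]; exact (mem_normalizer_iff_cj.1 hg).le)
  have h1 : cj γ (EE ζ) ≤ EE ζ := by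
    have := map_mono (f := MonoidHom.snd H Γ) e
    rwa [show map (MonoidHom.snd H Γ) (cj (g, γ) (ov D (EE η))) = _ from p2_cj _ _ _,
      show map (MonoidHom.snd H Γ) (ov D (EE η)) = _ from pt_E hM h, pt_E hM h] at this
  obtain ⟨σ, a⟩ := hM.perm γ (mem_normalizer_of_cj_le h1)
  refine ⟨σ, fun i j => h.cor.eq1 h.cor.adm ?_ (h.gr_zz _ _)⟩
  rw [← a]
  exact (cj2_le.1 e _ _ ⟨h.gr_zz i j, zz_mem _ _ _⟩).1

theorem cl (d : i ≠ j) (hy : y ∈ CS (EE η)) (c : IsConj (zz η i j) y) :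
    ∃ k l, k ≠ l ∧ y = zz η k l := by
  obtain ⟨B, y₀, b, hB, m, hc⟩ := h.cor.ext1c h.admE (mem_top y) (h.sq_of c)
    (by rwa [h.p1_ov' le_rfl])
  obtain ⟨γ, -, e⟩ := h.part c b m
  obtain ⟨k, l, kl, e'⟩ := hM.cl d y₀ (pt_E hM h ▸ hc) (isConj_iff.2 ⟨γ, e⟩)
  exact ⟨k, l, kl, h.cor.eq1 b m (e' ▸ hB ⟨h.gr_zz k l, zz_mem _ _ _⟩)⟩

theorem ab {P : Subgroup H} (hP : P ≤ CS (EE η)) (h2 : IsPGroup 2 P) :
    ∀ a ∈ P, ∀ b ∈ P, a * b = b * a := by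
  obtain ⟨B, b, hB, hp⟩ := h.cor.ext1 h.admE (le_top : P ≤ ⊤) (by
    rw [h.p1_ov' le_rfl, sup_comm]
    exact h2.to_sup_of_normal_right' h.lab.E_two (hP.trans (centralizer_le_normalizer _)))
  have key : ∀ a ∈ P, ∃ a₀, (a, a₀) ∈ B ∧ a₀ ∈ CS (EE ζ) := fun a ha => by
    obtain ⟨a₀, m⟩ := mem_p1.1 (hp ha)
    refine ⟨a₀, m, fun z hz => ?_⟩
    obtain ⟨v, hv, rfl⟩ := hM.mem_E_iff.1 hz
    exact (h.cor.comm_iff b (hB ⟨h.gr v hv, mem_E hv⟩) m).1 (hP ha _ (mem_E hv))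
  intro x hx y hy
  obtain ⟨x₀, m, c⟩ := key x hx
  obtain ⟨y₀, m', c'⟩ := key y hy
  exact (h.cor.comm_iff b m m').2 (hM.ab _ c _ c')

theorem pair (d : i ≠ j) (hF : F' ≤ EE η) (hy : y ∈ CS F') (c : IsConj (zz η i j) y) :
    ∃ g ∈ CS F', g * y * g⁻¹ ∈ EE η := by
  have hE : F' ⊔ F ≤ EE η := sup_le hF h.le
  have a : Adm ⊤ (CS F₀) D (ov D (F' ⊔ F)) := Adm.of_le inf_le_left
  obtain ⟨B, y₀, b, hB, m, hc⟩ := h.cor.ext1c a (mem_top y) (h.sq_of c) (by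
    rw [h.p1_ov' hE]
    exact le_centralizer_iff.1 (sup_le (le_centralizer_iff.1 (zpowers_le.2 hy))
      (h.cen.trans (center_le_centralizer _))) (mem_zpowers y))
  obtain ⟨γ, -, e⟩ := h.part c b m
  obtain ⟨γ', h1, h2⟩ := hM.pair d (p2 (ov D (F' ⊔ F)))
    (pt_E hM h ▸ map_mono (inf_le_inf_left _ (comap_mono hE))) y₀ hc (isConj_iff.2 ⟨γ, e⟩)
  obtain ⟨v, hv, e'⟩ := hM.mem_E_iff.1 h2
  have h3 : γ' ∈ CS F₀ := centralizer_le (show F₀ ≤ p2 (ov D (F' ⊔ F)) from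
    pt_F hM h ▸ map_mono (inf_le_inf_left _ (comap_mono le_sup_right))) h1
  obtain ⟨g, -, h4, h5⟩ := h.cor.trc2 b h.cor.adm hB inf_le_left h3 h1 m (e' ▸ h.gr v hv)
  rw [h.p1_ov' hE] at h4
  exact ⟨g, centralizer_le (show F' ≤ F' ⊔ F from le_sup_left) h4, h5 ▸ mem_E hv⟩

theorem pair' (d : i ≠ j) (he : e ∈ EE η) (hy : y ∈ Cx e) (c : IsConj (zz η i j) y) :
    ∃ g ∈ Cx e, g * y * g⁻¹ ∈ EE η := by
  have := pair hM h d (zpowers_le.2 he) (y := y) (CS_zp e ▸ hy) c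
  rwa [CS_zp] at this

/-- `N(E)` controls fusion in `E` -/
theorem ctrl (g : H) : ∃ c ∈ CS (cj g (EE η) ⊓ EE η), c * g ∈ NS (EE η) := by
  generalize hX : cj g (EE η) ⊓ EE η = X
  induction X using WellFoundedGT.induction generalizing g with
  | ind X ih =>
  by_cases h1 : ∀ a b, g * zz η a b * g⁻¹ ∈ EE η
  · refine ⟨1, one_mem _, ?_⟩
    rw [one_mul]
    refine mem_normalizer_of_cj_le (map_le_iff_le_comap.2 (h.lab.E_le h1))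
  push Not at h1
  obtain ⟨a, b, h1⟩ := h1
  have ab : a ≠ b := fun e => h1 (by rw [e, h.lab.zz_self]; simp)
  have hy : g * zz η a b * g⁻¹ ∈ CS X := fun x hx => by
    rw [← hX] at hx
    have := h.lab.E_comm (mem_cj.1 hx.1) (zz_mem η a b)
    calc x * (g * zz η a b * g⁻¹) = g * (g⁻¹ * x * g * zz η a b) * g⁻¹ := by group
      _ = _ := by rw [this]; group
  obtain ⟨c, h2, h3⟩ := pair hM h ab (hX ▸ inf_le_right : X ≤ EE η) hy (isConj_iff.2 ⟨g, rfl⟩)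
  have hle : X ≤ cj (c * g) (EE η) ⊓ EE η := fun x hx => by
    have h4 : c * x * c⁻¹ = x := by rw [← h2 x hx]; group
    rw [← hX] at hx
    exact ⟨by rw [cj_mul, ← h4]; exact conj_mem_cj.2 hx.1, hx.2⟩
  obtain ⟨c', h4, h5⟩ := ih (cj (c * g) (EE η) ⊓ EE η) (lt_of_le_not_ge hle fun h4 => h1 (by
    have h5 : c * (g * zz η a b * g⁻¹) * c⁻¹ ∈ X :=
      h4 ⟨by rw [cj_mul]; exact conj_mem_cj.2 (conj_mem_cj.2 (zz_mem _ _ _)), h3⟩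
    have h6 := h2 _ h5
    rw [inv_mul_cancel_right, mul_right_inj] at h6
    rwa [← h6] at h3)) _ rfl
  exact ⟨c' * c, mul_mem (centralizer_le hle h4) h2, mul_assoc c' c g ▸ h5⟩

theorem conjE (he : e ∈ EE η) (hg : g * e * g⁻¹ ∈ EE η) :
    ∃ n ∈ NS (EE η), n * e * n⁻¹ = g * e * g⁻¹ := by
  obtain ⟨c, h1, h2⟩ := ctrl hM h g
  refine ⟨c * g, h2, ?_⟩
  rw [show c * g * e * (c * g)⁻¹ = c * (g * e * g⁻¹) * c⁻¹ by group,
    ← h1 _ (show g * e * g⁻¹ ∈ cj g (EE η) ⊓ EE η from ⟨conj_mem_cj.2 he, hg⟩),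
    mul_inv_cancel_right]

theorem conj_zz (c : IsConj (zz η i j) e) (he : e ∈ EE η) :
    ∃ n σ, Acts η n σ ∧ e = zz η (σ i) (σ j) := by
  obtain ⟨g, rfl⟩ := isConj_iff.1 c
  obtain ⟨n, h1, h2⟩ := conjE hM h (zz_mem η i j) he
  obtain ⟨σ, a⟩ := perm hM h h1
  exact ⟨n, σ, a, h2.symm.trans (a i j)⟩

theorem swp (d : i ≠ j) (r : F ≤ F2 η i j) :
    ∃ g ∈ CS (F2 η i j), Acts η g (Equiv.swap i j) := by
  obtain ⟨γ, h1, a⟩ := hM.swp d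
  obtain ⟨g, -, e⟩ := h.cor.tra2 h.admE h.admE (centralizer_le ((le_iff hM h).1 r) h1)
    (by rw [pt_E hM h, hM.cj_E a])
  refine ⟨g, fun x hx => ?_, fun k l => h.cor.eq1 h.cor.adm ?_ (h.gr_zz _ _)⟩
  · obtain ⟨v, hv, h2, rfl⟩ := h.lab.mem_F2_iff.1 hx
    have h3 := (cj2_le.1 e _ _ ⟨h.gr v hv, mem_E hv⟩).1
    rw [← h1 _ ((hM.mem_F2 hv).2 h2), mul_inv_cancel_right] at h3
    exact (mul_inv_eq_iff_eq_mul.1 (h.cor.eq1 h.cor.adm h3 (h.gr v hv))).symm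
  · rw [← a]
    exact (cj2_le.1 e _ _ ⟨h.gr_zz k l, zz_mem _ _ _⟩).1

theorem isoF (hO : pPrimeCore 2 H = ⊥) (hv : Ev v)
    (hc : ∀ γ ∈ CS F₀, (ζ v)⁻¹ * (γ * ζ v * γ⁻¹) ∈ F₀) (g : H) :
    (η v)⁻¹ * (g * η v * g⁻¹) ∈ F := by
  have hn : F.Normal := ⟨fun x hx g => (h.conj_mem g).2 hx⟩
  have key : ∀ k, k ∈ (Cx (QuotientGroup.mk' F (η v))).comap (QuotientGroup.mk' F) ↔
      (η v)⁻¹ * (k * η v * k⁻¹) ∈ F := fun k => by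
    rw [mem_comap, mem_Cx', ← map_inv, ← map_mul, ← map_mul, eq_comm]
    exact QuotientGroup.eq
  refine (key g).1 (le_of_weaklyClosed_mod h.cor.syl1 (Z := F)
    (h.p1_ov' h.le ▸ map_mono inf_le_left) (fun k _ u hu => mem_center_iff.1 (h.cen hu) k)
    (mem_p1.2 ⟨_, h.gr v hv⟩) (fun k _ hk => ?_) ?_ (fun k _ hk => (key k).2 hk) (mem_top g))
  · obtain ⟨y₀, m⟩ := mem_p1.1 hk
    obtain ⟨γ, h1, rfl⟩ := h.cor.conj1 h.cor.adm h.cor.adm (mem_top k) (h.gr v hv) m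
    obtain ⟨u, hu, e⟩ := hM.mem_E_iff.1 (h.le₀ (hc γ h1))
    have h2 : ((η v)⁻¹ * (k * η v * k⁻¹), ζ u) ∈ D := e ▸ mul_mem (inv_mem (h.gr v hv)) m
    rw [h.cor.eq1 h.cor.adm h2 (h.gr u hu), h.mem u hu, e]
    exact hc γ h1
  · rw [opOf_top, hO]; exact bot_le

theorem fix (hO : pPrimeCore 2 H = ⊥) (h1 : F ≠ EE η)
    (h2 : (∀ i j, i ≠ j → ¬ F ≤ F2 η i j) ∨ ∃ i j, B2 η F i j ∧ zz η i j ∉ F) :
    ∃ e ∈ EE η, e ∉ F ∧ ∀ g, e⁻¹ * (g * e * g⁻¹) ∈ F := by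
  obtain ⟨e, h3, h4, h5⟩ := hM.fix F₀ h.le₀ (fun e => h1 ((eq_E_iff hM h).2 e))
    (h2.imp (fun a i j d e => a i j d ((le_iff hM h).2 e))
      fun ⟨i, j, b, c⟩ => ⟨i, j, (B2_iff hM h).1 b, fun e => c (h.zz_iff.2 e)⟩)
  obtain ⟨v, hv, rfl⟩ := hM.mem_E_iff.1 h3
  exact ⟨η v, mem_E hv, fun e => h4 ((h.mem v hv).1 e), isoF hM h hO hv h5⟩

end Loc

end CfsgLib.GHF
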