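import Mathlib
import Cfsg.Agent.Lib.GHF.LocA
import Cfsg.Agent.Lib.GHF.Gen

/-! Package LOCT of `plans/GHF.md`: transfer of the 2-local configurations. -/

set_option autoImplicit false

namespace CfsgLib.GHF

open Subgroup Cfsg CfsgLib.W2 CfsgLib.Tech CfsgLib.PComp CfsgLib.Abel2 CfsgLib.L3K CfsgLib.GHD

variable {H Γ W : Type*} [Group H] [Group Γ] [Group W] [Finite H] [Finite Γ] {ι : Type} [Fintype ι]
  [DecidableEq ι] {η : (ι → ZMod 2) → H} {ζ : (ι → ZMod 2) → Γ} {F F' A M : Subgroup H}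
  {F₀ : Subgroup Γ} {D : Subgroup (H × Γ)} {L : ι → ι → Subgroup Γ} {N : ι → ι → ι → Subgroup Γ}
  {i j k l m m' a b : ι} {v : ι → ZMod 2} {g x y y' e : H} {σ : Equiv.Perm ι}

omit [Finite H] in
theorem two_zp (hx : x * x = 1) : IsPGroup 2 (zpowers x) := by
  refine IsPGroup.of_card_dvd_pow (n := 1) ?_
  rw [Nat.card_zpowers]
  exact orderOf_dvd_of_pow_eq_one (by rw [pow_one, sq, hx])

omit [Finite H] [Finite Γ] in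
theorem Cor.two_snd {X : Subgroup H} {Y : Subgroup Γ} (h : Cor X Y D) {B : Subgroup (H × Γ)}
    (b : Adm X Y D B) {y₀ : Γ} (m : (y, y₀) ∈ B) : IsPGroup 2 (zpowers y₀) :=
  ((h.two b).map (MonoidHom.snd H Γ)).to_le (zpowers_le.2 (mem_p2.2 ⟨y, m⟩))

/-- a partner for an involution, compatible with the part of `B` that it centralises -/
theorem Cor.ext2w {X : Subgroup H} {Y : Subgroup Γ} (h : Cor X Y D) {B : Subgroup (H × Γ)}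
    (b : Adm X Y D B) {w₀ : Γ} (hw : w₀ ∈ Y) (h2 : w₀ * w₀ = 1) :
    ∃ B' w, Adm X Y D B' ∧ (w, w₀) ∈ B' ∧
      ∀ s s₀, (s, s₀) ∈ B → w₀ ∈ Cx s₀ → (s, s₀) ∈ B' ∧ w ∈ Cx s := by
  obtain ⟨B', w, b', h3, m, h4⟩ := h.ext2c
    (b.mono (inf_le_left : B ⊓ (Cx w₀).comap (MonoidHom.snd H Γ) ≤ B)) hw h2 (fun s hs => by
      obtain ⟨_, m⟩ := mem_p2.1 hs
      exact mem_Cx.1 m.2)
  exact ⟨B', w, b', m, fun s s₀ ms e => ⟨h3 ⟨ms, Cx_comm.1 e⟩,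
    mem_Cx.2 (h4 s (mem_p1.2 ⟨s₀, ms, Cx_comm.1 e⟩)).symm⟩⟩

namespace Loc

/-- an admissible graph over `F ⟨d, y⟩` -/
theorem dih_ext (h : Loc η F ζ F₀ D) (c : IsConj (zz η a b) y)
    (h2 : IsPGroup 2 (zpowers (zz η i m * y))) :
    ∃ B y₀, Adm ⊤ (CS F₀) D B ∧ (∀ v, Ev v → η v ∈ F ⊔ zpowers (zz η i m) → (η v, ζ v) ∈ B) ∧
      (y, y₀) ∈ B := by
  obtain ⟨B, bB, hB, hp⟩ := h.cor.ext1 (adm_ov (F ⊔ zpowers (zz η i m))) (le_top : zpowers y ≤ ⊤)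
    (by
      rw [h.p1_ov' (sup_le h.le (zpowers_le.2 (zz_mem _ _ _)))]
      exact two_dih (h.lab.zz_sq i m) (h.sq_of c) h2 (h.lab.E_two.to_le h.le) h.cen)
  obtain ⟨y₀, my⟩ := mem_p1.1 (hp (mem_zpowers _))
  exact ⟨B, y₀, bB, fun v hv e => hB ⟨h.gr v hv, e⟩, my⟩

variable (hM : Mod ζ L N W) (h : Loc η F ζ F₀ D)
include hM h

/-- pulling back a conjugate of `zᵢⱼ` -/
theorem back {B : Subgroup (H × Γ)} (b : Adm ⊤ (CS F₀) D B) {δ : Γ} (hδ : δ ∈ CS F₀) (i j : ι) :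
    ∃ g, ∀ s s₀, (s, s₀) ∈ B → δ * zz ζ i j * δ⁻¹ ∈ Cx s₀ → g * zz η i j * g⁻¹ ∈ Cx s := by
  obtain ⟨B', w, b', m, hw⟩ := h.cor.ext2w b
    (mul_mem (mul_mem hδ (hM.E_le_CS h.le₀ (zz_mem ζ i j))) (inv_mem hδ))
    (by rw [conj_mul, hM.zz_sq, mul_one, mul_inv_cancel])
  obtain ⟨g, -, e⟩ := h.cor.conj2 h.cor.adm b' hδ (h.gr_zz i j) m
  exact ⟨g, fun s s₀ ms c => e ▸ (hw s s₀ ms c).2⟩

theorem g8 (d : i ≠ j) (d' : a ≠ b) (r : F ≤ F2 η i j) (hx : x ∈ EE η) (c : IsConj (zz η a b) y)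
    (c' : IsConj (zz η a b) y') (h1 : y * y' = y' * y) (h2 : x * (y * y') = y * y' * x) :
    ∃ g, g * zz η i j * g⁻¹ ∈ Cx x ⊓ Cx (y * y') := by
  have xx := h.lab.E_sq hx
  have yy := h.sq_of c
  obtain ⟨n, hn, two⟩ := syl2 (M := Cx (y * y')) xx yy (mem_Cx.2 h2)
    (mem_Cx.2 (by rw [mul_assoc, ← h1]))
  have hu : n * y * n⁻¹ * (n * y' * n⁻¹) = y * y' := by rw [conj_mul]; exact mem_Cx'.1 hn
  have c1 : IsConj (zz η a b) (n * y * n⁻¹) := c.trans (isConj_iff.2 ⟨n, rfl⟩)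
  have c2 : IsConj (zz η a b) (n * y' * n⁻¹) := c'.trans (isConj_iff.2 ⟨n, rfl⟩)
  have h3 : n * y * n⁻¹ * (n * y' * n⁻¹) = n * y' * n⁻¹ * (n * y * n⁻¹) := by
    rw [conj_mul, conj_mul, h1]
  rw [← hu] at h2 ⊢
  generalize n * y * n⁻¹ = s at two c1 h2 h3 ⊢
  generalize n * y' * n⁻¹ = s' at c2 h2 h3 ⊢
  have ss := h.sq_of c1
  have p1 : IsPGroup 2 (zpowers x ⊔ zpowers s : Subgroup H) := by
    have := two_dih xx ss two (Z := ⊥) IsPGroup.of_bot bot_le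
    rwa [bot_sup_eq] at this
  have p2 : IsPGroup 2 (zpowers (s * s')) := two_zp (by
    rw [mul_assoc, ← mul_assoc s', ← h3, mul_assoc, h.sq_of c2, mul_one, ss])
  have p3 := p1.to_sup_of_normal_right' p2 ((sup_le (zpowers_le.2 ((CS_zp _).ge (mem_Cx.2 h2)))
    (zpowers_le.2 ((CS_zp _).ge (mem_Cx.2 (by rw [mul_assoc, ← h3]))))).trans
      (centralizer_le_normalizer _))
  obtain ⟨v, hv, rfl⟩ := h.lab.mem_E_iff.1 hx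
  obtain ⟨B, bB, hB, hp⟩ := h.cor.ext1 (adm_ov (zpowers (η v)))
    (le_top : zpowers (η v) ⊔ zpowers s ⊔ zpowers (s * s') ≤ ⊤) (by
      rw [h.p1_ov' (zpowers_le.2 hx), ← sup_assoc, ← sup_assoc, sup_idem]; exact p3)
  have mx : (η v, ζ v) ∈ B := hB ⟨h.gr v hv, mem_zpowers _⟩
  have hs : s ∈ GHF.p1 B := hp (mem_sup_left (mem_sup_right (mem_zpowers _)))
  obtain ⟨s₀, m⟩ := mem_p1.1 hs
  obtain ⟨s₀', m'⟩ := mem_p1.1 (show s' ∈ GHF.p1 B by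
    simpa using mul_mem (inv_mem hs) (hp (mem_sup_right (mem_zpowers _))))
  obtain ⟨γ, -, e⟩ := h.part c1 bB m
  obtain ⟨γ', -, e'⟩ := h.part c2 bB m'
  obtain ⟨δ, hδ, w1, w2⟩ := hM.g8 F₀ h.le₀ d d' ((le_iff hM h).1 r) _ (mem_E hv) s₀
    (h.cor.mem2 bB m) s₀' (h.cor.mem2 bB m') (isConj_iff.2 ⟨γ, e⟩) (isConj_iff.2 ⟨γ', e'⟩)
    ((h.cor.comm_iff bB m m').1 h3) ((h.cor.comm_iff bB mx (mul_mem m m')).1 h2)
  obtain ⟨g, hg⟩ := back hM h bB hδ i j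
  exact ⟨g, hg _ _ mx w1, hg _ _ (mul_mem m m') w2⟩

theorem u3 (d : i ≠ j) (d' : a ≠ b) (r : F ≤ F2 η i j) (hm : ¬ F ≤ F2 η i m)
    (c : IsConj (zz η a b) y) (h2 : IsPGroup 2 (zpowers (zz η i m * y))) :
    ∃ g, g * zz η i j * g⁻¹ ∈ Cx (zz η i m) ⊓ Cx y := by
  obtain ⟨B, y₀, bB, hB, my⟩ := h.dih_ext c h2
  have md : (zz η i m, zz ζ i m) ∈ B := hB _ (ev_ee i m) (mem_sup_right (mem_zpowers _))
  obtain ⟨γ, -, e⟩ := h.part c bB my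
  obtain ⟨δ, hδ, w1, w2⟩ := hM.u3 F₀ h.le₀ d d' ((le_iff hM h).1 r)
    (fun e => hm ((le_iff hM h).2 e)) y₀ (h.cor.mem2 bB my) (isConj_iff.2 ⟨γ, e⟩)
    (h.cor.two_snd bB (mul_mem md my))
  obtain ⟨g, hg⟩ := back hM h bB hδ i j
  exact ⟨g, hg _ _ md w1, hg _ _ my w2⟩

theorem fac (d : D4 i j k l) (b1 : B2 η F i j) (b2 : B2 η F k l) (hz : zz η i j ∈ F)
    (m1 : m ≠ i) (m2 : m ≠ j) (m3 : m ≠ k) (m4 : m ≠ l) (c : IsConj (zz η i k) y)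
    (h2 : IsPGroup 2 (zpowers (zz η i m * y))) :
    ∃ g ∈ Cx (zz η i m), g * y * g⁻¹ ∈ Cx (zz η k m) := by
  obtain ⟨B, y₀, bB, hB, my⟩ := h.dih_ext c h2
  have md : (zz η i m, zz ζ i m) ∈ B := hB _ (ev_ee i m) (mem_sup_right (mem_zpowers _))
  obtain ⟨γ, hγ, rfl⟩ := h.part c bB my
  obtain ⟨c₀, h3, h4⟩ := hM.fac F₀ h.le₀ d ((B2_iff hM h).1 b1) ((B2_iff hM h).1 b2)
    (h.zz_iff.1 hz) γ hγ
  have v0 : zz ζ i m ∈ F2 ζ k l := by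
    rw [hM.zz_mem_F2, ee_of_ne d.ik.symm m3.symm, ee_of_ne d.il.symm m4.symm]
  have w0 : zz ζ k m ∈ F2 ζ i j := by
    rw [hM.zz_mem_F2, ee_of_ne d.ik m1.symm, ee_of_ne d.jk m2.symm]
  have b' := bB.conj (mem_top 1) (centralizer_le ((le_iff hM h).1 b2.le) h3)
  have my' := cj2_le.1 (le_refl (cj (1, c₀) B)) _ _ my
  have md' := cj2_le.1 (le_refl (cj (1, c₀) B)) _ _ md
  rw [one_mul, inv_one, mul_one] at my' md'
  rw [← h3 _ v0, mul_inv_cancel_right] at md'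
  obtain ⟨B', w, b'', mw, hw⟩ := h.cor.ext2w b' (hM.E_le_CS h.le₀ (zz_mem ζ k m)) (hM.zz_sq k m)
  obtain ⟨g, -, g1, g2⟩ := h.cor.trc2 b'' h.cor.adm (W := zpowers (zz η i m, zz ζ i m))
    (zpowers_le.2 (hw _ _ md' (mem_Cx.2 (hM.zz_comm _ _ _ _))).1) (zpowers_le.2 (h.gr_zz i m))
    (one_mem _) (one_mem _) mw (x' := zz η k m) (by simpa using h.gr_zz k m)
  refine ⟨g, mem_Cx.2 (g1 _ (mem_p1.2 ⟨_, mem_zpowers _⟩)).symm, ?_⟩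
  rw [← g2, conj_mem_Cx, Cx_comm]
  exact (hw _ _ my' (mem_Cx.2 (h4 _ w0))).2

theorem split (d : D3 i j k) (r : F ≤ F3 η i j k) (b1 : B2 η F m m') (hz : zz η m m' ∈ F)
    (c : IsConj (zz η i m) y) (h2 : IsPGroup 2 (zpowers (zz η i m * y))) :
    ∃ t ∈ JJ D (L m m'), IsConj (zz η i m) (y * t) ∧
      IsPGroup 2 (zpowers (zz η i m * (y * t))) ∧
      ∀ n : ℕ, (zz η i m * (y * t)) ^ n ∈ F → (zz η i m * (y * t)) ^ n = 1 := by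
  obtain ⟨B, y₀, bB, hB, my⟩ := h.dih_ext c h2
  have md : (zz η i m, zz ζ i m) ∈ B := hB _ (ev_ee i m) (mem_sup_right (mem_zpowers _))
  obtain ⟨γ, hγ, rfl⟩ := h.part c bB my
  obtain ⟨t₀, t1, ⟨γ', t2, t3⟩, t4, t5⟩ := hM.split F₀ h.le₀ d
    (le_inf ((le_iff hM h).1 (r.trans inf_le_left)) ((le_iff hM h).1 (r.trans inf_le_right)))
    ((B2_iff hM h).1 b1) (h.zz_iff.1 hz) γ hγ (h.cor.two_snd bB (mul_mem md my))
  have hd : zz ζ i m ∈ CS F₀ := h.cor.mem2 bB md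
  have ht : t₀ ∈ CS F₀ := by
    have := mul_mem (inv_mem (h.cor.mem2 bB my)) (t3 ▸ mul_mem (mul_mem t2 hd) (inv_mem t2))
    rwa [inv_mul_cancel_left] at this
  obtain ⟨B', b', hB', hp⟩ := h.cor.ext2 (bB.mono (inf_le_left : B ⊓ (F₀ ⊔ closure
      {zz ζ i m, γ * zz ζ i m * γ⁻¹, t₀}).comap (MonoidHom.snd H Γ) ≤ B)) (zpowers_le.2 ht)
    (t4.to_le (sup_le (map_le_iff_le_comap.2 inf_le_right)
      (zpowers_le.2 (mem_sup_right (subset_closure (by simp))))))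
  obtain ⟨t, mt⟩ := mem_p2.1 (hp (mem_zpowers _))
  have md' := hB' ⟨md, mem_sup_right (subset_closure (by simp))⟩
  have my' := hB' ⟨my, mem_sup_right (subset_closure (by simp))⟩
  have m1 : (y * t, γ * zz ζ i m * γ⁻¹ * t₀) ∈ B' := mul_mem my' mt
  have m2 : (zz η i m * (y * t), zz ζ i m * (γ * zz ζ i m * γ⁻¹ * t₀)) ∈ B' := mul_mem md' m1
  refine ⟨t, h.cor.mem_JJ b' (fun g hg => hM.L_norm b1.ne (mem_Cx.2 (hg _ (h.zz_iff.1 hz)).symm))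
    mt t1, ?_, h.cor.swap.two_snd b'.swap (mem_sw.2 m2), fun n hn => ?_⟩
  · obtain ⟨g, -, e⟩ := h.cor.conj2 h.cor.adm b' t2 (h.gr_zz i m) (t3 ▸ m1)
    exact isConj_iff.2 ⟨g, e⟩
  · obtain ⟨v, hv, e⟩ := h.lab.mem_E_iff.1 (h.le hn)
    have m3 : ((zz η i m * (y * t)) ^ n, (zz ζ i m * (γ * zz ζ i m * γ⁻¹ * t₀)) ^ n) ∈ B' :=
      pow_mem m2 n
    have hv' := (h.mem v hv).1 (e ▸ hn)
    have m4 : (η v, ζ v) ∈ B' := hB' ⟨hB v hv (mem_sup_left (e ▸ hn)), mem_sup_left hv'⟩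
    have e' := h.cor.eq2 b' m3 (e ▸ m4)
    exact h.cor.one1 b' (t5 n (e' ▸ hv') ▸ m3)

end Loc

end CfsgLib.GHF
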