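import Mathlib
import Cfsg.Agent.Lib.GHF.Gen
import Cfsg.Agent.Lib.PDApp.Crit
import Cfsg.Agent.Lib.PDApp.Final
import Cfsg.Agent.Lib.ThRec.Fin
import Cfsg.Agent.Lib.NSFT.Sol

/-! Package PDQ of `plans/GHF.md`: product disconnection in the faithful quotient. -/

set_option autoImplicit false

namespace CfsgLib.GHF

open Subgroup Cfsg CfsgLib.W2 CfsgLib.Tech CfsgLib.PComp CfsgLib.Abel2 CfsgLib.L3K CfsgLib.GHD

open CfsgLib.PDApp (Uq)

variable {H : Type*} [Group H] [Finite H] {M P : Subgroup H} {d s : H}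

omit [Finite H] in
theorem top_of_uq (hu : Uq M d) (hk : d ∈ M.normalCore) : M = ⊤ := by
  exact eq_top_iff.2 fun g _ => hu.2 g (by simpa using hk g⁻¹)

theorem pdq (hd : d * d = 1) (hu : Uq M d)
    (hp : ∀ e ∈ M, IsConj d e → IsPGroup 2 (zpowers (d * e)) → d * e * (d * e) ∈ M.normalCore →
      d * e ∈ M.normalCore ∨ ∃ k ∈ M.normalCore, Uq M (d * e * k))
    (hs : IsConj d s) (hc : d * s = s * d) (hn : Uq M (d * s)) (h1 : P ≤ M) (h2 : ⁅P, P⁆ = P)
    (h3 : P ≤ normalClosure {d}) : P ≤ M.normalCore := by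
  rcases eq_or_ne M ⊤ with rfl | hM
  · exact fun x _ _ => trivial
  let π := QuotientGroup.mk' M.normalCore
  have hπ : ∀ {x}, π x = 1 ↔ x ∈ M.normalCore := QuotientGroup.eq_one_iff _
  have hm : ∀ {x}, π x ∈ M.map π ↔ x ∈ M := fun {x} => by
    rw [← mem_comap, comap_map_eq_self ((QuotientGroup.ker_mk' _).le.trans M.normalCore_le)]
  have hq : ∀ {x}, Uq M x → Uq (M.map π) (π x) := fun h => ⟨hm.2 h.1, fun g hg => by
    obtain ⟨g, rfl⟩ := QuotientGroup.mk'_surjective _ g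
    exact hm.2 (h.2 g (hm.1 hg))⟩
  have hc0 : ∀ x ∈ (M.map π).normalCore, x = 1 := fun x hx => by
    obtain ⟨x, rfl⟩ := QuotientGroup.mk'_surjective _ x
    exact hπ.2 fun g => hm.1 (hx (π g))
  have hd1 : π d ≠ 1 := fun e => hM (top_of_uq hu (hπ.1 e))
  have hdd : π d * π d = 1 := by rw [← map_mul, hd, map_one]
  have hy := PDApp.hyp_coset (H := M.map π) (A := {π d}) ⟨_, rfl⟩ (by simpa using ord_two hdd hd1)
    (by simpa using hq hu) (by
      rintro _ rfl _ rfl _ ⟨m, hmM, rfl⟩ hne hc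
      have h4 := PDApp.mul_sq_of_commute hdd (PDApp.conj_sq hdd _) hc
      obtain ⟨k, hk, h5⟩ := syl2K (K := M.normalCore) hd (PDApp.conj_sq hd m) (hπ.1 (by simpa using h4))
      have h6 : π (d * (k * (m * d * m⁻¹) * k⁻¹)) = π d * (π m * π d * (π m)⁻¹) := by simp [hπ.2 hk]
      rcases hp _ (conj_mem_of_mem_normalizer (le_normalizer (M.normalCore_le hk)) (hu.conj hmM).1)
        (isConj_iff.2 ⟨k * m, by group⟩) h5 (hπ.1 (by rw [map_mul, h6, h4])) with h | ⟨l, hl, h⟩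
      · exact absurd (mul_left_cancel (hdd.trans ((hπ.2 h).symm.trans h6))) hne
      · have := hq h
        rwa [map_mul, hπ.2 hl, mul_one, h6] at this)
  obtain ⟨g, -, hg⟩ := SetLike.exists_of_lt hM.lt_top
  obtain ⟨w, hw, e⟩ := hy.exists_smul_eq' ((1 : H ⧸ M.normalCore) : _ ⧸ M.map π) (π g : H ⧸ M.normalCore)
  let X := normalClosure {π d}
  have hdX : π d ∈ X := subset_normalClosure rfl
  obtain ⟨c, rfl⟩ := isConj_iff.1 hs
  have hse : IsStronglyEmbedded ((M.map π).subgroupOf X) := StrEmb.isStronglyEmbedded_of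
    (fun h => hg (hm.1 (by
      have h4 : w ∈ M.map π := subgroupOf_eq_top.1 h hw
      exact (mul_mem_cancel_left (inv_mem h4)).1 
        (by simpa only [smul_eq_mul, mul_one] using QuotientGroup.eq.1 e))))
    ⟨⟨_, hdX⟩, hm.2 hu.1, by rw [orderOf_mk, ord_two hdd hd1]⟩ fun t ht h4 g hg => by
      by_contra h5
      exact ne_one_of_ord h4 (Subtype.ext (hc0 _ (hy.mem_core PDApp.pdc t.2
        (by rw [← coe_mul, sq_of_ord h4]; exact one_mem _) ht hg h5)))
  have hsol := ThRec.solvable_of_se ⟨⟨_, hdX⟩, ⟨_, normalClosure_normal.conj_mem _ hdX (π c)⟩,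
    by simpa using hd1, by simpa using hd1, fun e => hM (top_of_uq hn (hπ.1 (by
      rw [map_mul, ← hdd]; exact congrArg _ (congrArg Subtype.val e).symm))), Subtype.ext hdd,
    Subtype.ext (PDApp.conj_sq hdd _), Subtype.ext (congrArg π hc)⟩ hse
  have hX : P.map π ≤ X := (map_mono h3).trans (by
    rw [map_normalClosure _ _ (QuotientGroup.mk'_surjective _), Set.image_singleton])
  have h4 : Group.IsSolvable (P.map π) := Group.isSolvable_of_isSolvable_injective
    (f := (inclusion hX).codRestrict _ fun x => mem_subgroupOf.2 (map_mono h1 x.2))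
    fun x y e => inclusion_injective hX (congrArg Subtype.val e)
  exact (Subgroup.map_eq_bot_iff _).1 (NSFT.eq_bot_of_perfect (by rw [← map_commutator, h2]) h4) |>.trans
    (QuotientGroup.ker_mk' _).le

theorem pdq' (hd : d * d = 1) (hu : Uq M d)
    (hp : ∀ e, IsConj d e → d * e = e * d → e ≠ d → Uq M (d * e))
    (hs : IsConj d s) (hc : d * s = s * d) (hn : s ≠ d) (h1 : P ≤ M) (h2 : ⁅P, P⁆ = P)
    (h3 : P ≤ normalClosure {d}) : P ≤ M.normalCore := by
  rcases eq_or_ne M ⊤ with rfl | hM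
  · exact fun x _ _ => trivial
  refine pdq hd hu (fun e _ he h4 h5 => ?_) hs hc (hp s hs hc hn) h1 h2 h3
  obtain ⟨c, rfl⟩ := isConj_iff.1 he
  by_cases h6 : d * (c * d * c⁻¹) = c * d * c⁻¹ * d
  · by_cases h7 : c * d * c⁻¹ = d
    · exact Or.inl (by rw [h7, hd]; exact one_mem _)
    · exact Or.inr ⟨1, one_mem _, by rw [mul_one]; exact hp _ he h6 h7⟩
  obtain ⟨j, a, b, -, e⟩ := dih hd (PDApp.conj_sq hd c) h4 h6
  have := hp (d * (d * (c * d * c⁻¹)) ^ (2 * j)) 
    (isConj_iff.2 ⟨((d * (c * d * c⁻¹)) ^ j)⁻¹, by rw [inv_inv, e]⟩) (by rw [mul_assoc _ _ d, mem_Cx.1 b.1]) (by simpa using a)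
  rw [← mul_assoc, hd, one_mul] at this
  exact absurd (top_of_uq this (by rw [pow_mul, sq]; exact pow_mem h5 j)) hM

end CfsgLib.GHF
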