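import Mathlib
import Cfsg.Agent.Lib.GHF.LocT
import Cfsg.Agent.Lib.GHF.Pdq

/-! Package TOP1 of `plans/GHF.md`: uniqueness of fixed cosets. -/

set_option autoImplicit false

namespace CfsgLib.GHF

open Subgroup Cfsg CfsgLib.W2 CfsgLib.Tech CfsgLib.PComp CfsgLib.Abel2 CfsgLib.L3K CfsgLib.GHD
open CfsgLib.PDApp (Uq)

variable {H Γ W : Type*} [Group H] [Group Γ] [Group W] [Finite H] [Finite Γ] {ι : Type} [Fintype ι]
  [DecidableEq ι] {η : (ι → ZMod 2) → H} {ζ : (ι → ZMod 2) → Γ} {F F' A M : Subgroup H}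
  {F₀ : Subgroup Γ} {D : Subgroup (H × Γ)} {L : ι → ι → Subgroup Γ} {N : ι → ι → ι → Subgroup Γ}
  {i j k l m m' a b : ι} {v : ι → ZMod 2} {g x y y' e : H} {σ : Equiv.Perm ι}

namespace T1

omit [Finite H] in
theorem mul_mem_F2 (h : Lab η) {c d : ι} :
    zz η a b * zz η c d ∈ F2 η i j ↔ ee a b i + ee c d i = ee a b j + ee c d j := by
  rw [zz, zz, ← h.mul _ _ (ev_ee ..) (ev_ee ..), h.mem_F2 ((ev_ee ..).add (ev_ee ..))]
  rfl

omit [Fintype ι] in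
theorem ee_one (d : a ≠ b) : ee a b m = 1 ↔ m = a ∨ m = b := by
  rw [ee_apply]
  by_cases h1 : m = a <;> by_cases h2 : m = b <;> simp_all

omit [Fintype ι] in
theorem ee_zero (d : a ≠ b) : ee a b m = 0 ↔ m ≠ a ∧ m ≠ b := by
  rw [ee_apply]
  by_cases h1 : m = a <;> by_cases h2 : m = b <;> simp_all

omit [Finite H] in
theorem E_le (u : Up η F M) : EE η ≤ M := le_normalizer.trans u.norm

omit [Finite H] in
theorem isConj_cj (g : H) (c : IsConj x y) : IsConj x (g * y * g⁻¹) := c.trans (isConj_iff.2 ⟨g, rfl⟩)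

omit [Finite H] in
theorem isConj_inv (g x : H) : IsConj x (g⁻¹ * x * g) := isConj_iff.2 ⟨g⁻¹, by rw [inv_inv]⟩

omit [Finite H] in
theorem sq_of_conj (c : IsConj x y) (hx : x * x = 1) : y * y = 1 := by
  obtain ⟨g, rfl⟩ := isConj_iff.1 c
  exact PDApp.conj_sq hx g

omit [Finite H] in
theorem isConj_acts (a : Acts η g σ) (i j : ι) : IsConj (zz η i j) (zz η (σ i) (σ j)) :=
  isConj_iff.2 ⟨g, a i j⟩

omit [Finite H] in
theorem CS_le (u : Up η F M) (h1 : F ≤ A) (h2 : F ≠ A) (h3 : A ≤ EE η) : CS A ≤ M := by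
  obtain ⟨f, hf, hf'⟩ := SetLike.exists_of_lt (h1.lt_of_ne h2)
  exact fun x hx => u.cent f (h3 hf) hf' (mem_Cx.2 (hx f hf).symm)

omit [Finite H] in
/-- `m` is outside the block of `i` -/
theorem d3_of (h : F ≤ EE η) (d : i ≠ j) (r : F ≤ F2 η i j) (hm : ¬ F ≤ F2 η i m) : D3 i j m :=
  ⟨d, fun e => hm (by rwa [← e, F2_self]), fun e => hm (e ▸ r)⟩

end T1

open T1

namespace Loc

variable (hM : Mod ζ L N W) (h : Loc η F ζ F₀ D) (u : Up η F M)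
include hM h u

theorem mem_of_conj (he : e ∈ EE η) (hn : e ∉ F) (hg : g * e * g⁻¹ ∈ EE η) : g ∈ M := by
  obtain ⟨n, h1, h2⟩ := h.conjE hM he hg
  have : n⁻¹ * g ∈ M := u.cent e he hn (mem_Cx'.2 (by
    rw [show n⁻¹ * g * e * (n⁻¹ * g)⁻¹ = n⁻¹ * (g * e * g⁻¹) * n by group, ← h2]; group))
  exact (mul_mem_cancel_left (inv_mem (u.norm h1))).1 this

theorem via {c : H} (d : a ≠ b) (hn : zz η a b ∉ F) (hx : x ∈ EE η) (hx' : x ∉ F) (hc : c ∈ M)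
    (e : c * (g⁻¹ * zz η a b * g) * c⁻¹ ∈ Cx x) : g ∈ M := by
  obtain ⟨c', h1, h2⟩ := h.pair' hM d hx e (isConj_cj c (isConj_inv g _))
  have := h.mem_of_conj hM u (g := c' * c * g⁻¹) (zz_mem η a b) hn (by convert h2 using 1; group)
  rwa [mul_mem_cancel_left (mul_mem (u.cent x hx hx' h1) hc), inv_mem_iff] at this

omit u in
theorem dihE (d : a ≠ b) (hp : ∀ e ∈ EE η, IsConj (zz η a b) e → e ≠ zz η a b → zz η a b * e ∉ F)
    (yy : y * y = 1) (h2 : IsPGroup 2 (zpowers (zz η a b * y))) (hn : zz η a b * y ≠ y * zz η a b) :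
    ∃ w ∈ Cx (zz η a b) ⊓ Cx y, IsConj (zz η a b) (zz η a b * w) ∧
      ∃ c ∈ Cx (zz η a b), c * w * c⁻¹ ∈ EE η ∧ c * w * c⁻¹ ∉ F := by
  obtain ⟨n, h3, h4, -, h5⟩ := dih (h.lab.zz_sq a b) yy h2 hn
  have h6 : IsConj (zz η a b) (zz η a b * (zz η a b * y) ^ (2 * n)) := h5 ▸ isConj_inv _ _
  obtain ⟨c, c1, c2⟩ := h.pair' hM d (zz_mem η a b) (mul_mem (mem_Cx.2 rfl) h4.1) h6
  have h7 := hp _ c2 (isConj_cj c h6)
  rw [← conj_mul, mem_Cx'.1 c1] at c2 h7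
  refine ⟨_, h4, h6, c, c1, (mul_mem_cancel_left (zz_mem η a b)).1 c2, ?_⟩
  rw [← mul_assoc (zz η a b) (zz η a b), h.lab.zz_sq, one_mul] at h7
  exact h7 fun e => h3 (by simpa using e)

theorem uq_dih (d : a ≠ b) (hn : zz η a b ∉ F)
    (hp : ∀ e ∈ EE η, IsConj (zz η a b) e → e ≠ zz η a b → zz η a b * e ∉ F) :
    Uq M (zz η a b) := by
  refine ⟨E_le u (zz_mem _ _ _), fun g hg => ?_⟩
  have yy := sq_of_conj (isConj_inv g _) (h.lab.zz_sq a b)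
  obtain ⟨m, hm, h2⟩ := syl2 (h.lab.zz_sq a b) yy (E_le u (zz_mem _ _ _)) hg
  by_cases hc : zz η a b * (m * (g⁻¹ * zz η a b * g) * m⁻¹) = m * (g⁻¹ * zz η a b * g) * m⁻¹ * zz η a b
  · exact h.via hM u d hn (zz_mem _ _ _) hn hm (mem_Cx.2 hc.symm)
  obtain ⟨w, hw, -, c, c1, c2, c3⟩ := h.dihE hM d hp (PDApp.conj_sq yy m) h2 hc
  refine h.via hM u (c := c * m) d hn c2 c3 (mul_mem (u.cent _ (zz_mem _ _ _) hn c1) hm) ?_
  convert (conj_mem_Cx (g := c)).2 (Cx_comm.1 hw.2) using 1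
  group

theorem uq_all (d : i ≠ j) (r : F ≤ F2 η i j) (hz : zz η i j ∉ F) (hm : ¬ F ≤ F2 η i m)
    (d' : a ≠ b) (hn : zz η a b ∉ F) : Uq M (zz η a b) := by
  refine ⟨E_le u (zz_mem _ _ _), fun g hg => ?_⟩
  have h1 : zz η i m ∉ F := fun e => h.lab.zz_not_mem' (d3_of h.le d r hm) (r e)
  obtain ⟨n, hn', h2⟩ := syl2 (h.lab.zz_sq i m) (sq_of_conj (isConj_inv g _) (h.lab.zz_sq a b)) (E_le u (zz_mem _ _ _)) hg
  obtain ⟨g', h3⟩ := h.u3 hM d d' r hm (isConj_cj n (isConj_inv g _)) h2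
  obtain ⟨c, c1, c2⟩ := h.pair' hM d (zz_mem _ _ _) h3.1 (isConj_cj g' (IsConj.refl _))
  refine h.via hM u (c := c * n) d' hn c2 (by rwa [h.conj_mem, h.conj_mem])
    (mul_mem (u.cent _ (zz_mem _ _ _) h1 c1) hn') ?_
  convert (conj_mem_Cx (g := c)).2 (Cx_comm.1 h3.2) using 1
  group

theorem uq_prod (d : i ≠ j) (r : F ≤ F2 η i j) (hz : Uq M (zz η i j)) (d' : a ≠ b)
    (hn : zz η a b ∉ F) (hu : Uq M (zz η a b))
    (hp : ∀ e ∈ EE η, IsConj (zz η a b) e → e ≠ zz η a b → zz η a b * e ∉ F)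
    (hx : x ∈ EE η) (hx' : x ∉ F) : Uq M x := by
  refine ⟨E_le u hx, fun g hg => ?_⟩
  have yy := sq_of_conj (isConj_inv g _) (h.lab.E_sq hx)
  obtain ⟨m, hm, h2⟩ := syl2 (h.lab.zz_sq a b) yy hu.1 hg
  rw [← mul_mem_cancel_right (inv_mem hm)]
  rw [show m * (g⁻¹ * x * g) * m⁻¹ = (g * m⁻¹)⁻¹ * x * (g * m⁻¹) by group] at h2
  generalize g * m⁻¹ = g at h2 ⊢
  have k : ∀ {w}, w ∈ Cx (g⁻¹ * x * g) → g * w * g⁻¹ ∈ Cx x := fun hw => by
    simpa [mul_assoc] using (conj_mem_Cx (g := g)).2 hw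
  by_cases hc : zz η a b * (g⁻¹ * x * g) = g⁻¹ * x * g * zz η a b
  · exact inv_mem_iff.1 (hu.2 _ (by rw [inv_inv]; exact u.cent x hx hx' (k (mem_Cx.2 hc))))
  obtain ⟨w, hw, h3, c, c1, c2, c3⟩ := h.dihE hM d' hp (sq_of_conj (isConj_inv g _) (h.lab.E_sq hx)) h2 hc
  have e : g * zz η a b * g⁻¹ * (g * (zz η a b * w) * g⁻¹) = g * w * g⁻¹ := by
    rw [conj_mul, ← mul_assoc (zz η a b), h.lab.zz_sq, one_mul]
  obtain ⟨g1, h4⟩ := h.g8 hM d d' r hx (isConj_cj g (IsConj.refl _)) (isConj_cj g h3) (by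
    rw [conj_mul, conj_mul, mul_assoc (zz η a b) w, mem_Cx.1 hw.1]) (by rw [e, mem_Cx.1 (k hw.2)])
  rw [e] at h4
  have h5 := hz.2 g1⁻¹ (by rw [inv_inv]; exact u.cent x hx hx' h4.1)
  have h6 := u.cent _ (zz_mem _ _ _) hn c1
  have h7 := hz.2 (g1⁻¹ * g * c⁻¹) (u.cent _ c2 c3 (by
    simpa [mul_assoc] using (conj_mem_Cx (g := c * g⁻¹)).2 h4.2))
  rwa [mul_mem_cancel_right (inv_mem h6), mul_mem_cancel_left h5] at h7

theorem hp_lift (d : a ≠ b) (hn : zz η a b ∉ F)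
    (hp : ∀ e ∈ EE η, IsConj (zz η a b) e → e ≠ zz η a b → Uq M (zz η a b * e)) (e : H)
    (c : IsConj (zz η a b) e) (h1 : zz η a b * e = e * zz η a b) (h2 : e ≠ zz η a b) : Uq M (zz η a b * e) := by
  obtain ⟨g, g1, g2⟩ := h.pair' hM d (zz_mem _ _ _) (mem_Cx.2 h1.symm) c
  have := (hp _ g2 (isConj_cj g c) fun e1 => h2 (by
    rwa [← mem_Cx'.1 g1, mul_left_inj, mul_right_inj] at e1)).conj (inv_mem (u.cent _ (zz_mem _ _ _) hn g1))
  rwa [← conj_mul, mem_Cx'.1 (inv_mem g1), show g⁻¹ * (g * e * g⁻¹) * g⁻¹⁻¹ = e by group] at this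

theorem P1 (d : D3 i j k) (r : F ≤ F3 η i j k) (hne : F ≠ F3 η i j k) (hP : Perf η i j k)
    (h4 : ∀ l, D4 i j k l → F ≤ F2 η k l → zz η i j * zz η k l ∉ F) : M = ⊤ := by
  have hn : zz η i j ∉ F := fun e => h.lab.zz_not_mem_F3 d (r e)
  have hp : ∀ e ∈ EE η, IsConj (zz η i j) e → e ≠ zz η i j → zz η i j * e ∉ F := fun e he c h1 h2 => by
    obtain ⟨n, σ, a, rfl⟩ := h.conj_zz hM c he
    have h3 := (h.blk a).2 (r.trans inf_le_left)
    have h5 := σ.injective.ne d.ij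
    generalize σ i = a, σ j = b at *
    have e1 := (mul_mem_F2 h.lab).1 (r h2).1
    have e2 := (mul_mem_F2 h.lab).1 (r h2).2
    rw [ee_left d.ij, ee_right d.ij, add_right_inj] at e1
    rw [ee_right d.ij, ee_of_ne d.ik.symm d.jk.symm, zero_add] at e2
    rcases z2_cases (ee a b j) with e3 | e3 <;> rw [e3] at e1 e2
    · rw [ee_zero h5] at e1 e3
      rcases (ee_one h5).1 e2.symm with rfl | rfl
      · exact h4 b ⟨d, e1.2, e3.2, h5⟩ h3 h2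
      · exact h4 a ⟨d, e1.1, e3.1, h5.symm⟩ (F2_symm η a k ▸ h3) (zz_symm η a k ▸ h2)
    · rw [ee_one h5] at e1 e3
      rcases e1 with rfl | rfl <;> rcases e3 with rfl | rfl
      exacts [d.ij rfl, h1 rfl, h1 (zz_symm ..), d.ij rfl]
  have hu := h.uq_dih hM u d.ij hn hp
  obtain ⟨g, -, a⟩ := h.swp hM d.jk (r.trans inf_le_right)
  have c := isConj_acts a i j
  rw [Equiv.swap_apply_of_ne_of_ne d.ij d.ik, Equiv.swap_apply_left] at c
  obtain ⟨P, p1, p2, p3, p4⟩ := hP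
  exact top_of_uq hu (pdq' (h.lab.zz_sq i j) hu (h.hp_lift hM u d.ij hn fun e he c e1 =>
    h.uq_prod hM u d.ij (r.trans inf_le_left) hu d.ij hn hu hp (mul_mem (zz_mem _ _ _) he) (hp e he c e1)) c
    (h.lab.zz_comm ..) (fun e => (h.lab.zz_inj d.ik e).elim (fun e => d.jk e.2.symm) fun e => d.ij e.1)
    (p1.trans (CS_le u r hne (inf_le_left.trans (F2_le _ _ _)))) p2 p4 p3)

theorem P2 (d : D4 i j k l) (r : F ≤ F3 η i j k) (r' : F ≤ F2 η k l) (hP : Perf η i j k)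
    (hm : ¬ F ≤ F2 η i m) (h4 : ∀ m', m ≠ m' → F ≤ F2 η m m' → zz η m m' ∉ F) : M = ⊤ := by
  have r1 : F ≤ F2 η i j := r.trans inf_le_left
  have r2 : F ≤ F2 η i k := r.trans (h.lab.F3_le i j k)
  have r3 : F ≤ F2 η i l := (le_inf r2 r').trans (h.lab.F3_le i k l)
  have d1 := d3_of h.le d.ij r1 hm
  have d2 := d3_of h.le d.ik r2 hm
  have d3 := d3_of h.le d.il r3 hm
  have hz : zz η i j ∉ F := fun e => h.lab.zz_not_mem_F3 d.toD3 (r e)
  have hn : zz η i m ∉ F := fun e => h.lab.zz_not_mem' d1 (r1 e)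
  have hp : ∀ e ∈ EE η, IsConj (zz η i m) e → e ≠ zz η i m → zz η i m * e ∉ F := fun e he c h1 h2 => by
    obtain ⟨n, σ, a, rfl⟩ := h.conj_zz hM c he
    have h5 := σ.injective.ne d1.ik
    have e1 := (mul_mem_F2 h.lab).1 (r1 h2)
    have e2 := (mul_mem_F2 h.lab).1 (r2 h2)
    have e3 := (mul_mem_F2 h.lab).1 (r3 h2)
    rw [ee_left d1.ik, ee_of_ne d.ij.symm d1.jk, zero_add] at e1
    rw [ee_left d1.ik, ee_of_ne d.ik.symm d2.jk, zero_add] at e2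
    rw [ee_left d1.ik, ee_of_ne d.il.symm d3.jk, zero_add] at e3
    rcases z2_cases (ee (σ i) (σ m) i) with e4 | e4
    · rw [e4, add_zero, eq_comm, ee_one h5] at e1 e2 e3
      have := d.jk
      have := d.jl
      have := d.kl
      grind
    rcases (ee_one h5).1 e4 with e5 | e5
    · rw [← e5] at h1 h2
      rw [zz_symm η i m, h.lab.zz_mul] at h2
      exact h4 _ (fun e => h1 (by rw [← e])) (h.blk' a (by rw [← e5, F2_self]; exact h.le) m) h2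
    · rw [← e5] at h1 h2
      rw [h.lab.zz_comm, h.lab.zz_mul] at h2
      have h6 : σ i ≠ m := fun e => h1 (by rw [e, zz_symm])
      have k : ∀ {j}, i ≠ j → F ≤ F2 η i j → σ j = m := fun d r => by
        have := h.lab.zz_mem_F2.1 ((h.blk a).2 r h2)
        rw [ee_left h6, eq_comm, ee_one h6] at this
        exact this.resolve_left (σ.injective.ne d.symm)
      exact d.jk (σ.injective ((k d.ij r1).trans (k d.ik r2).symm))
  have hu := h.uq_all hM u d.ij r1 hz hm d1.ik hn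
  have hu' := h.uq_all hM u d.ij r1 hz hm d.ij hz
  obtain ⟨g, -, a⟩ := h.swp hM d.ij r1
  have c := isConj_acts a i m
  rw [Equiv.swap_apply_of_ne_of_ne d1.ik.symm d1.jk.symm, Equiv.swap_apply_left] at c
  obtain ⟨P, p1, p2, p3, p4⟩ := hP
  obtain ⟨n, n1, n2, n3, n4⟩ := h.lab.fresh i j k l
  refine top_of_uq hu' (pdq' (h.lab.zz_sq i m) hu (h.hp_lift hM u d1.ik hn fun e he c e1 =>
    h.uq_prod hM u d.ij r1 hu' d1.ik hn hu hp (mul_mem (zz_mem _ _ _) he) (hp e he c e1)) c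
    (h.lab.zz_comm ..) (fun e => (h.lab.zz_inj d1.jk e).elim (fun e => d.ij e.1.symm) fun e => d1.jk e.1)
    (p1.trans (CS_le u r (fun e => ?_) (inf_le_left.trans (F2_le _ _ _)))) p2 (p4.trans ?_) p3)
  · refine h.lab.zz_not_mem ⟨d.kl, n3.symm, n4.symm⟩ (r' (e.ge ⟨?_, ?_⟩))
    exacts [h.lab.zz_mem_of_d4 ⟨⟨d.ij, d.il, d.jl⟩, n1.symm, n2.symm, n4.symm⟩,
      h.lab.zz_mem_of_d4 ⟨⟨d.jk, d.jl, d.kl⟩, n2.symm, n3.symm, n4.symm⟩]
  · refine normalClosure_le_normal (Set.singleton_subset_iff.2 ?_)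
    rw [← h.lab.zz_mul i m j, zz_symm η m j]
    exact mul_mem (subset_normalClosure rfl) (conjugatesOfSet_subset_normalClosure (PDApp.mem_closure_conj.2 c))

end Loc

end CfsgLib.GHF
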