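import Mathlib
import Cfsg.Agent.Lib.GHF.Defs2
import Cfsg.Agent.Lib.GHD.Lab

/-! Matrix lemmas for package GB of `plans/GHF.md`: sign diagonalisation and averaging. -/

set_option autoImplicit false

namespace CfsgLib.GHF.GBa

open Subgroup Cfsg CfsgLib.GHD
open Matrix

variable {ι : Type} [Fintype ι] [DecidableEq ι] {F : Type*} [Field F]

/-- the sign `(-1)^a` -/
def sg (F : Type*) [Field F] (a : ZMod 2) : F := if a = 0 then 1 else -1

theorem sg_add (a b : ZMod 2) : sg F (a + b) = sg F a * sg F b := by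
  rcases z2_cases a with rfl | rfl <;> rcases z2_cases b with rfl | rfl <;>
    simp [sg, (by decide : (1 : ZMod 2) + 1 = 0)]

theorem sg_sq (a : ZMod 2) : sg F a * sg F a = 1 := by
  rw [← sg_add, z2_add_self]; simp [sg]

omit [Fintype ι] in
theorem sgn_eq (v : ι → ZMod 2) : sgn F v = diagonal fun i => sg F (v i) := rfl

theorem sgn_sq (v : ι → ZMod 2) : sgn F v * sgn F v = 1 := by
  rw [sgn_eq, diagonal_mul_diagonal, ← diagonal_one]
  exact congrArg diagonal (funext fun i => sg_sq _)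

theorem det_sgn (v : ι → ZMod 2) : (sgn F v).det = sg F (∑ i, v i) := by
  rw [sgn_eq, det_diagonal]
  induction (Finset.univ : Finset ι) using Finset.induction_on with
  | empty => simp [sg]
  | insert a s ha ih => rw [Finset.prod_insert ha, Finset.sum_insert ha, ih, sg_add]

theorem ev_of_det (h2 : (2 : F) ≠ 0) {v : ι → ZMod 2} (h : (sgn F v).det = 1) : Ev v := by
  rw [det_sgn] at h
  by_contra hn
  have : sg F (∑ i, v i) = -1 := if_neg hn
  exact h2 (by rw [this] at h; linear_combination -h)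

/-- some choice of signs on the diagonal makes a matrix invertible -/
theorem exists_sign (h2 : (2 : F) ≠ 0) (X : Matrix ι ι F) :
    ∃ v : ι → ZMod 2, (X + sgn F v).det ≠ 0 := by
  have key : ∀ t : Finset ι, ∃ v : ι → ZMod 2,
      (Matrix.of fun a b => if a ∈ t then (X + sgn F v) a b else (1 : Matrix ι ι F) a b).det ≠ 0 := by
    intro t
    induction t using Finset.induction_on with
    | empty =>
      refine ⟨0, ?_⟩
      have : (Matrix.of fun a b => if a ∈ (∅ : Finset ι) then (X + sgn F (0 : ι → ZMod 2)) a b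
          else (1 : Matrix ι ι F) a b) = 1 := by ext a b; simp
      rw [this, det_one]; exact one_ne_zero
    | insert c t hc ih =>
      obtain ⟨v, hv⟩ := ih
      obtain ⟨M, hM⟩ : ∃ M, M = (Matrix.of fun a b => if a ∈ t then (X + sgn F v) a b
          else (1 : Matrix ι ι F) a b) := ⟨_, rfl⟩
      rw [← hM] at hv
      have e : ∀ s : ZMod 2, (Matrix.of fun a b => if a ∈ insert c t then
          (X + sgn F (Function.update v c s)) a b else (1 : Matrix ι ι F) a b) =
          M.updateRow c (X c + sg F s • M c) := by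
        intro s
        ext a b
        by_cases ha : a = c
        · subst ha
          simp only [of_apply, Finset.mem_insert, true_or, if_true, updateRow_self, hM, hc,
            Pi.add_apply, Pi.smul_apply, if_false, Matrix.add_apply, sgn_eq, diagonal_apply, one_apply,
            Function.update_self, smul_eq_mul, mul_ite, mul_one, mul_zero]
        · simp only [of_apply, Finset.mem_insert, ha, false_or, updateRow_ne ha, hM, Matrix.add_apply,
            sgn_eq, diagonal_apply, Function.update_of_ne ha]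
      by_contra hn
      push Not at hn
      have h0 := hn (Function.update v c 0)
      have h1 := hn (Function.update v c 1)
      rw [e, det_updateRow_add, det_updateRow_smul, updateRow_eq_self] at h0 h1
      have s0 : sg F 0 = 1 := if_pos rfl
      have s1 : sg F 1 = -1 := if_neg (by decide)
      rw [s0] at h0
      rw [s1] at h1
      exact mul_ne_zero h2 hv (by linear_combination h0 - h1)
  obtain ⟨v, hv⟩ := key Finset.univ
  refine ⟨v, ?_⟩
  convert hv using 2
  ext a b
  simp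

/-- an involution is conjugate to a sign matrix by `X + S` -/
theorem mul_add_sgn {X : Matrix ι ι F} (hX : X * X = 1) (v : ι → ZMod 2) :
    X * (X + sgn F v) = (X + sgn F v) * sgn F v := by
  rw [mul_add, add_mul, hX, sgn_sq, add_comm]

theorem det_eq_of_conj {X P S : Matrix ι ι F} (hP : P.det ≠ 0) (e : X * P = P * S) :
    X.det = S.det := by
  have := congrArg det e
  rw [det_mul, det_mul, mul_comm] at this
  exact mul_left_cancel₀ hP this

theorem rank_sub_one (h2 : (2 : F) ≠ 0) {W : Matrix ι ι F} (hW : W * W = 1)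
    {π : Submodule F (ι → F)} (e : ∀ u, W *ᵥ u = -u ↔ u ∈ π) :
    (W - 1).rank = Module.finrank F π := by
  have : LinearMap.range (W - 1).mulVecLin = π := by
    ext u
    constructor
    · rintro ⟨t, rfl⟩
      rw [← e, mulVecLin_apply, mulVec_mulVec, mul_sub, hW, mul_one, ← neg_mulVec, neg_sub]
    · intro hu
      refine ⟨(-(2 : F)⁻¹) • u, ?_⟩
      rw [mulVecLin_apply, mulVec_smul, sub_mulVec, (e u).2 hu, one_mulVec, ← neg_add', ← two_smul F,
        smul_neg, neg_smul, neg_neg, smul_smul, inv_mul_cancel₀ h2, one_smul]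
  rw [Matrix.rank, this]

theorem exists_ee (h2 : (2 : F) ≠ 0) {W P : Matrix ι ι F} {v : ι → ZMod 2} (hP : P.det ≠ 0)
    (e : W * P = P * sgn F v) (hr : (W - 1).rank = 2) : ∃ k l, k ≠ l ∧ v = ee k l := by
  classical
  have h1 : (W - 1) * P = P * diagonal fun i => sg F (v i) - 1 := by
    rw [sub_mul, e, one_mul, ← diagonal_sub, diagonal_one, mul_sub, mul_one, sgn_eq]
  have h3 := congrArg Matrix.rank h1
  rw [rank_mul_eq_left_of_isUnit_det _ _ (Ne.isUnit hP),
    rank_mul_eq_right_of_isUnit_det _ _ (Ne.isUnit hP), hr, rank_diagonal, Fintype.card_subtype,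
    eq_comm, Finset.card_eq_two] at h3
  obtain ⟨k, l, d, h3⟩ := h3
  refine ⟨k, l, d, funext fun a => ?_⟩
  have h4 : sg F (v a) - 1 ≠ 0 ↔ a = k ∨ a = l := by
    have := Finset.ext_iff.1 h3 a
    simpa using this
  rcases z2_cases (v a) with h5 | h5
  · have h6 : ¬ (a = k ∨ a = l) := by rw [← h4, h5]; simp [sg]
    rw [h5, ee_of_ne (fun h => h6 (.inl h)) fun h => h6 (.inr h)]
  · have h6 : a = k ∨ a = l := by
      rw [← h4, h5, sg, if_neg (by decide)]
      intro h; exact h2 (by linear_combination -h)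
    rcases h6 with rfl | rfl
    · rw [h5, ee_left d]
    · rw [h5, ee_right d]

theorem exists_proj (π : Submodule F (ι → F)) :
    ∃ Q : Matrix ι ι F, (∀ u, Q *ᵥ u ∈ π) ∧ ∀ u ∈ π, Q *ᵥ u = u := by
  obtain ⟨c, hc⟩ := π.exists_isCompl
  refine ⟨LinearMap.toMatrix' (π.subtype ∘ₗ π.linearProjOfIsCompl c hc), fun u => ?_, fun u hu => ?_⟩
  · rw [LinearMap.toMatrix'_mulVec]; exact Subtype.prop _
  · rw [LinearMap.toMatrix'_mulVec]
    exact congrArg Subtype.val (Submodule.linearProjOfIsCompl_apply_left hc ⟨u, hu⟩)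

theorem ext_mulVec {M N : Matrix ι ι F} (h : ∀ u, M *ᵥ u = N *ᵥ u) : M = N := by
  ext a b
  have := congrFun (h (Pi.single b 1)) a
  simpa using this

/-- averaging a projection -/
theorem average (h2 : (2 : F) ≠ 0) {P : Subgroup (SpecialLinearGroup ι F)} [Finite P]
    (hP : IsPGroup 2 P) {π : Submodule F (ι → F)} (hd : Module.finrank F π = 2)
    (hi : ∀ p ∈ P, ∀ u ∈ π, (p : Matrix ι ι F) *ᵥ u ∈ π) {Q : Matrix ι ι F}
    (q1 : ∀ u, Q *ᵥ u ∈ π) (q2 : ∀ u ∈ π, Q *ᵥ u = u) :
    ∃ w ∈ CS P, w * w = 1 ∧ (∀ u, (w : Matrix ι ι F) *ᵥ u = -u ↔ u ∈ π) ∧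
      ∀ T : Matrix ι ι F, (∀ p ∈ P, T * p = p * T) → T * Q = Q * T → T * w = w * T := by
  haveI := Fintype.ofFinite P
  have hc : (Fintype.card P : F) ≠ 0 := by
    obtain ⟨n, hn⟩ := (IsPGroup.iff_card (p := 2)).1 hP
    rw [← Nat.card_eq_fintype_card, hn]; push_cast; exact pow_ne_zero _ h2
  obtain ⟨ρ, hρ⟩ : ∃ ρ : P →* Matrix ι ι F, ∀ p : P,
      ρ p = ((p : SpecialLinearGroup ι F) : Matrix ι ι F) :=
    ⟨SpecialLinearGroup.coeMonoidHom.comp P.subtype, fun _ => rfl⟩
  have hi' : ∀ p : P, ∀ u ∈ π, ρ p *ᵥ u ∈ π := fun p => hρ p ▸ hi _ p.2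
  obtain ⟨R, hR⟩ : ∃ R : Matrix ι ι F, R = (Fintype.card P : F)⁻¹ • ∑ p : P, ρ p * Q * ρ p⁻¹ :=
    ⟨_, rfl⟩
  have r1 : ∀ u, R *ᵥ u ∈ π := fun u => by
    rw [hR, smul_mulVec, sum_mulVec]
    refine π.smul_mem _ (π.sum_mem fun p _ => ?_)
    rw [← mulVec_mulVec, ← mulVec_mulVec]
    exact hi' _ _ (q1 _)
  have r2 : ∀ u ∈ π, R *ᵥ u = u := fun u hu => by
    rw [hR, smul_mulVec, sum_mulVec, Finset.sum_congr rfl (g := fun _ => u), Finset.sum_const,
      Finset.card_univ, ← Nat.cast_smul_eq_nsmul F, smul_smul, inv_mul_cancel₀ hc, one_smul]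
    intro p _
    rw [← mulVec_mulVec, ← mulVec_mulVec, q2 _ (hi' _ _ hu), mulVec_mulVec,
      ← map_mul, mul_inv_cancel, map_one, one_mulVec]
  have rr : R * R = R := ext_mulVec fun u => by rw [← mulVec_mulVec, r2 _ (r1 u)]
  have rc : ∀ p : P, ρ p * R = R * ρ p := fun p => by
    rw [hR, mul_smul_comm, smul_mul_assoc, Finset.mul_sum, Finset.sum_mul]
    congr 1
    refine Fintype.sum_equiv (Equiv.mulLeft p) _ _ fun q => ?_
    rw [Equiv.coe_mulLeft, mul_assoc _ _ (ρ p), ← map_mul, _root_.mul_inv_rev,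
      inv_mul_cancel_right, map_mul]
    simp only [mul_assoc]
  have rt : ∀ T : Matrix ι ι F, (∀ p : P, T * ρ p = ρ p * T) → T * Q = Q * T → T * R = R * T := by
    intro T t1 t2
    rw [hR, mul_smul_comm, smul_mul_assoc, Finset.mul_sum, Finset.sum_mul]
    congr 1
    refine Finset.sum_congr rfl fun q _ => ?_
    rw [← mul_assoc, ← mul_assoc, t1, mul_assoc _ T, t2, mul_assoc, mul_assoc, t1]
    simp only [mul_assoc]
  obtain ⟨W, hW⟩ : ∃ W : Matrix ι ι F, W = 1 - (2 : F) • R := ⟨_, rfl⟩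
  have ww : W * W = 1 := by
    rw [hW, sub_mul, mul_sub, mul_sub, smul_mul_smul_comm, rr, one_mul, one_mul, mul_one]
    module
  have wn : ∀ u, W *ᵥ u = -u ↔ u ∈ π := fun u => by
    rw [hW, sub_mulVec, one_mulVec, smul_mulVec]
    constructor
    · intro e
      have : u = R *ᵥ u := smul_right_injective _ h2 (by
        change (2 : F) • u = (2 : F) • R *ᵥ u
        rw [two_smul F u]
        linear_combination (exp := 1) e)
      exact this ▸ r1 u
    · intro hu
      rw [r2 u hu]; module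
  obtain ⟨v, hv⟩ := exists_sign h2 W
  have e := mul_add_sgn ww v
  obtain ⟨k, l, -, rfl⟩ := exists_ee h2 hv e ((rank_sub_one h2 ww wn).trans hd)
  have hdet : W.det = 1 := by
    rw [det_eq_of_conj hv e, det_sgn, ev_ee k l]; simp [sg]
  refine ⟨⟨W, hdet⟩, fun p hp => Subtype.ext ?_, Subtype.ext ww, wn, fun T t1 t2 => ?_⟩
  · change (((⟨p, hp⟩ : P) : SpecialLinearGroup ι F) : Matrix ι ι F) * W =
      W * (((⟨p, hp⟩ : P) : SpecialLinearGroup ι F) : Matrix ι ι F)
    rw [hW, mul_sub, sub_mul, mul_smul_comm, smul_mul_assoc, ← hρ ⟨p, hp⟩, rc, mul_one, one_mul]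
  · change T * W = W * T
    rw [hW, mul_sub, sub_mul, mul_smul_comm, smul_mul_assoc, rt T (fun p => hρ p ▸ t1 _ p.2) t2, mul_one, one_mul]

end CfsgLib.GHF.GBa
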