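import Mathlib
import Cfsg.Agent.Lib.GHF.GA
import Cfsg.Agent.Lib.GHF.GBa

/-! Package GB of `plans/GHF.md`: diagonalisation inside the blocks. -/

set_option autoImplicit false

namespace CfsgLib.GHF

open Subgroup Cfsg CfsgLib.W2 CfsgLib.Tech CfsgLib.PComp CfsgLib.Abel2 CfsgLib.L3K CfsgLib.GHD
open Matrix GBa

variable {ι : Type} [Fintype ι] [DecidableEq ι] {F : Type*} [Field F] [Fintype F]
  {A : Subgroup (ProjectiveSpecialLinearGroup ι F)} {g x y : SpecialLinearGroup ι F}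
  {i j k l : ι} {v : ι → ZMod 2}

namespace Ok

variable (h : Ok ι F)
include h

omit [Fintype F] h in
theorem r_refl (hA : A ≤ EE (ζP F)) (a : ι) : A ≤ F2 (ζP F) a a := (F2_self (ζP F) a).symm ▸ hA

omit [Fintype F] h in
theorem r_symm (e : A ≤ F2 (ζP F) i j) : A ≤ F2 (ζP F) j i := F2_symm (ζP F) i j ▸ e

theorem r_trans (e : A ≤ F2 (ζP F) i j) (e' : A ≤ F2 (ζP F) j k) : A ≤ F2 (ζP F) i k :=
  (le_inf e e').trans (h.lab.F3_le i j k)

theorem r_swap (hA : A ≤ EE (ζP F)) (e : A ≤ F2 (ζP F) i j) (a : ι) :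
    A ≤ F2 (ζP F) a (Equiv.swap i j a) := by
  rw [Equiv.swap_apply_def]
  split_ifs with h1 h2
  · exact h1 ▸ e
  · exact h2 ▸ r_symm e
  · exact r_refl hA a

/-- an involution of the block group is diagonalisable in the block group -/
theorem diag (hA : A ≤ EE (ζP F)) (hx : x ∈ Bk F A) (h2 : x * x = 1) :
    ∃ g ∈ Bk F A, ∃ v, Ev v ∧ g * x * g⁻¹ = dz F v := by
  obtain ⟨v, hv⟩ := exists_sign h.two_ne (x : Matrix ι ι F)
  have xx : (x : Matrix ι ι F) * x = 1 := congrArg Subtype.val h2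
  have e := mul_add_sgn xx v
  have ev : Ev v := ev_of_det h.two_ne ((det_eq_of_conj hv e).symm.trans x.2)
  obtain ⟨c⟩ : Nonempty ι := Fintype.card_pos_iff.1 (by have := h.five; omega)
  obtain ⟨D, hD⟩ : ∃ D : Matrix ι ι F, D = diagonal (Function.update 1 c
    ((x : Matrix ι ι F) + sgn F v).det⁻¹) := ⟨_, rfl⟩
  have hdet : (((x : Matrix ι ι F) + sgn F v) * D).det = 1 := by
    rw [det_mul, hD, det_diagonal, Finset.prod_update_of_mem (Finset.mem_univ c)]
    simp [hv]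
  obtain ⟨p, hp⟩ : ∃ p : SpecialLinearGroup ι F,
      (p : Matrix ι ι F) = ((x : Matrix ι ι F) + sgn F v) * D := ⟨⟨_, hdet⟩, rfl⟩
  have hB : p ∈ Bk F A := by
    rw [h.mem_Bk hA]
    intro a b hab
    rw [hp, hD, mul_diagonal] at hab
    have h1 := left_ne_zero_of_mul hab
    by_cases h3 : a = b
    · exact h3 ▸ r_refl hA a
    · rw [Matrix.add_apply, sgn_eq, diagonal_apply_ne _ h3, add_zero] at h1
      exact (h.mem_Bk hA).1 hx a b h1
  refine ⟨_, inv_mem hB, v, ev, ?_⟩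
  rw [inv_inv, mul_assoc, inv_mul_eq_iff_eq_mul]
  refine Subtype.ext ?_
  change (x : Matrix ι ι F) * p = (p : Matrix ι ι F) * (dz F v : Matrix ι ι F)
  rw [hp, coe_dz ev, ← mul_assoc, e, mul_assoc, mul_assoc]
  congr 1
  rw [hD, sgn_eq, diagonal_mul_diagonal, diagonal_mul_diagonal]
  exact congrArg diagonal (funext fun a => mul_comm _ _)

/-- Maschke: an invariant plane gives a commuting involution -/
theorem mas {P : Subgroup (SpecialLinearGroup ι F)} (hP : IsPGroup 2 P) {π : Submodule F (ι → F)}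
    (h2 : Module.finrank F π = 2) (hi : ∀ p ∈ P, ∀ u ∈ π, (p : Matrix ι ι F) *ᵥ u ∈ π) :
    ∃ w ∈ CS P, w * w = 1 ∧ ∀ u, (w : Matrix ι ι F) *ᵥ u = -u ↔ u ∈ π := by
  obtain ⟨Q, q1, q2⟩ := exists_proj π
  obtain ⟨w, w1, w2, w3, -⟩ := average h.two_ne hP h2 hi q1 q2
  exact ⟨w, w1, w2, w3⟩

/-- an invariant plane inside the block of `i` -/
theorem plane (hA : A ≤ EE (ζP F)) (d : i ≠ j) (hij : A ≤ F2 (ζP F) i j)
    {P : Subgroup (SpecialLinearGroup ι F)} (hP : IsPGroup 2 P) (hB : P ≤ Bk F A)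
    {π : Submodule F (ι → F)} (h2 : Module.finrank F π = 2)
    (hs : ∀ u ∈ π, ∀ a, u a ≠ 0 → A ≤ F2 (ζP F) i a)
    (hi : ∀ p ∈ P, ∀ u ∈ π, (p : Matrix ι ι F) *ᵥ u ∈ π) :
    ∃ g ∈ Bk F A, g * dz F (ee i j) * g⁻¹ ∈ CS P := by
  classical
  obtain ⟨Q0, q1, q2⟩ := exists_proj π
  obtain ⟨Q, hQ⟩ : ∃ Q : Matrix ι ι F,
    Q = Q0 * diagonal fun a => if A ≤ F2 (ζP F) i a then 1 else 0 := ⟨_, rfl⟩
  have p1 : ∀ u, Q *ᵥ u ∈ π := fun u => by rw [hQ, ← mulVec_mulVec]; exact q1 _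
  have p2 : ∀ u ∈ π, Q *ᵥ u = u := fun u hu => by
    rw [hQ, ← mulVec_mulVec]
    refine (congrArg (Q0 *ᵥ ·) ?_).trans (q2 u hu)
    ext a
    rw [mulVec_diagonal]
    split_ifs with h1
    · exact one_mul _
    · rw [zero_mul]; by_contra h3; exact h1 (hs u hu a (Ne.symm h3))
  have p3 : ∀ a b, Q a b ≠ 0 → A ≤ F2 (ζP F) a b := fun a b hab => by
    refine h.r_trans (r_symm (hs _ (p1 (Pi.single b 1)) a (by simpa using hab))) ?_
    by_contra h3
    rw [hQ, mul_diagonal, if_neg h3, mul_zero] at hab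
    exact hab rfl
  obtain ⟨w, w1, w2, w3, w4⟩ := average h.two_ne hP h2 hi p1 p2
  have wB : w ∈ Bk F A := by
    rintro _ ⟨v, ev, hv, rfl⟩
    refine Subtype.ext (w4 _ (fun p hp => congrArg Subtype.val (hB hp _ ⟨v, ev, hv, rfl⟩)) ?_)
    rw [coe_dz ev, sgn_eq]
    ext a b
    rw [diagonal_mul, mul_diagonal]
    by_cases h3 : Q a b = 0
    · rw [h3, mul_zero, zero_mul]
    · rw [(h.le_F2_iff hA).1 (p3 a b h3) v ev hv, mul_comm]
  obtain ⟨g, gB, v, ev, e⟩ := h.diag hA wB w2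
  have e1 : (w : Matrix ι ι F) * (g⁻¹ : SpecialLinearGroup ι F) =
      ((g⁻¹ : SpecialLinearGroup ι F) : Matrix ι ι F) * sgn F v := by
    rw [← coe_dz ev, ← e]
    exact congrArg Subtype.val (by group : w * g⁻¹ = g⁻¹ * (g * w * g⁻¹))
  have hd : ((g⁻¹ : SpecialLinearGroup ι F) : Matrix ι ι F).det ≠ 0 := by
    rw [(g⁻¹).2]; exact one_ne_zero
  obtain ⟨k, l, kl, rfl⟩ := exists_ee h.two_ne hd e1
    ((rank_sub_one h.two_ne (congrArg Subtype.val w2) w3).trans h2)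
  have blk : ∀ c, ee k l c = 1 → A ≤ F2 (ζP F) i c := fun c hc => by
    have h1 : ((g⁻¹ : SpecialLinearGroup ι F) : Matrix ι ι F) *ᵥ Pi.single c 1 ∈ π := by
      rw [← w3, mulVec_mulVec, e1, ← mulVec_mulVec, ← mulVec_neg]
      congr 1
      ext a
      rw [sgn_eq, mulVec_diagonal]
      by_cases h3 : a = c
      · subst h3; simp [hc, sg]
      · simp [h3]
    obtain ⟨a, ha⟩ : ∃ a, ((g⁻¹ : SpecialLinearGroup ι F) : Matrix ι ι F) a c ≠ 0 := by
      by_contra hn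
      push Not at hn
      exact hd (det_eq_zero_of_column_eq_zero c hn)
    exact h.r_trans (hs _ h1 a (by simpa using ha)) ((h.mem_Bk hA).1 (inv_mem gB) a c ha)
  have ik := blk k (ee_left kl)
  have il := blk l (ee_right kl)
  have jk : Equiv.swap i k j ≠ k := fun e => d (by
    rw [Equiv.swap_apply_eq_iff, Equiv.swap_apply_right] at e; exact e.symm)
  obtain ⟨g1, g1B, e2⟩ := h.exists_perm hA (Equiv.swap (Equiv.swap i k j) l * Equiv.swap i k)
    fun a => h.r_trans (h.r_swap hA ik a) (h.r_swap hA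
      (h.r_trans (r_symm (h.r_trans hij (h.r_swap hA ik j))) il) _)
  refine ⟨g⁻¹ * g1, mul_mem (inv_mem gB) g1B, ?_⟩
  have e3 := e2 i j
  rw [Equiv.Perm.mul_apply, Equiv.Perm.mul_apply, Equiv.swap_apply_left, Equiv.swap_apply_left,
    Equiv.swap_apply_of_ne_of_ne jk.symm kl, ← e] at e3
  have e4 : g⁻¹ * g1 * dz F (ee i j) * (g⁻¹ * g1)⁻¹ = w := by
    rw [show g⁻¹ * g1 * dz F (ee i j) * (g⁻¹ * g1)⁻¹ = g⁻¹ * (g1 * dz F (ee i j) * g1⁻¹) * g by group,
      e3]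
    group
  exact e4 ▸ w1

/-- a plane invariant under two involutions -/
theorem plane2 (hA : A ≤ EE (ζP F)) (d : i ≠ j) (hij : A ≤ F2 (ζP F) i j) (xB : x ∈ Bk F A)
    (yB : y ∈ Bk F A) (xx : x * x = 1) (yy : y * y = 1)
    (e : IsPGroup 2 (zpowers (mkP F x * mkP F y))) {s t : ι → F} (s0 : s ≠ 0)
    (st : ∀ a : F, a • s ≠ t) (hs : ∀ a, s a ≠ 0 → A ≤ F2 (ζP F) i a)
    (ht : ∀ a, t a ≠ 0 → A ≤ F2 (ζP F) i a)
    (xs : (x : Matrix ι ι F) *ᵥ s ∈ Submodule.span F {s, t})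
    (xt : (x : Matrix ι ι F) *ᵥ t ∈ Submodule.span F {s, t})
    (ys : (y : Matrix ι ι F) *ᵥ s ∈ Submodule.span F {s, t})
    (yt : (y : Matrix ι ι F) *ᵥ t ∈ Submodule.span F {s, t}) :
    ∃ g ∈ CS A, g * zz (ζP F) i j * g⁻¹ ∈ Cx (mkP F x) ⊓ Cx (mkP F y) := by
  have inv : ∀ z : SpecialLinearGroup ι F, z * z = 1 →
      (z : Matrix ι ι F) *ᵥ s ∈ Submodule.span F {s, t} →
      (z : Matrix ι ι F) *ᵥ t ∈ Submodule.span F {s, t} →
      ∀ u, u ∈ Submodule.span F {s, t} ↔ (z : Matrix ι ι F) *ᵥ u ∈ Submodule.span F {s, t} := by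
    intro z zz zs zt
    have h1 : ∀ u ∈ Submodule.span F {s, t}, (z : Matrix ι ι F) *ᵥ u ∈ Submodule.span F {s, t} := by
      intro u hu
      obtain ⟨a, b, rfl⟩ := Submodule.mem_span_pair.1 hu
      rw [mulVec_add, mulVec_smul, mulVec_smul]
      exact add_mem (Submodule.smul_mem _ _ zs) (Submodule.smul_mem _ _ zt)
    refine fun u => ⟨h1 u, fun hu => ?_⟩
    have h2 := h1 _ hu
    rwa [mulVec_mulVec, show (z : Matrix ι ι F) * z = 1 from congrArg Subtype.val zz,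
      one_mulVec] at h2
  have all : ∀ p ∈ closure {x, y}, ∀ u, u ∈ Submodule.span F {s, t} ↔
      (p : Matrix ι ι F) *ᵥ u ∈ Submodule.span F {s, t} := by
    intro p hp
    induction hp using closure_induction with
    | mem p hp =>
      rcases hp with rfl | rfl
      · exact inv _ xx xs xt
      · exact inv _ yy ys yt
    | one => intro u; rw [Matrix.SpecialLinearGroup.coe_one, one_mulVec]
    | mul a b _ _ ha hb => intro u; rw [Matrix.SpecialLinearGroup.coe_mul, ← mulVec_mulVec, ← ha, ← hb]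
    | inv a _ ha =>
      intro u
      rw [ha ((a⁻¹ : SpecialLinearGroup ι F) *ᵥ u), mulVec_mulVec, ← Matrix.SpecialLinearGroup.coe_mul,
        mul_inv_cancel, Matrix.SpecialLinearGroup.coe_one, one_mulVec]
  have dim : Module.finrank F (Submodule.span F ({s, t} : Set (ι → F))) = 2 := by
    have := finrank_span_eq_card ((LinearIndependent.pair_iff' s0).2 st)
    rwa [Matrix.range_cons, Matrix.range_cons, Matrix.range_empty, Set.union_empty,
      Fintype.card_fin] at this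
  obtain ⟨g, gB, hg⟩ := h.plane hA d hij (h.two_lift xx yy e)
    ((closure_le _).2 (by rintro _ (rfl | rfl) <;> assumption)) dim (fun u hu a ha => by
      obtain ⟨b, c, rfl⟩ := Submodule.mem_span_pair.1 hu
      by_cases h1 : s a = 0
      · refine ht a fun h2 => ha ?_
        simp [h1, h2]
      · exact hs a h1) fun p hp u hu => (all p hp u).1 hu
  refine ⟨mkP F g, h.mk_mem hA gB, mem_Cx.2 ?_, mem_Cx.2 ?_⟩
  · have := congrArg (mkP F) (hg x (subset_closure (by simp)))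
    simp only [map_mul, map_inv] at this
    exact this.symm
  · have := congrArg (mkP F) (hg y (subset_closure (by simp)))
    simp only [map_mul, map_inv] at this
    exact this.symm

omit [Fintype F] h in
theorem dz_single (hv : Ev v) (a : ι) :
    (dz F v : Matrix ι ι F) *ᵥ Pi.single a 1 = sg F (v a) • (Pi.single a 1 : ι → F) := by
  rw [coe_dz hv, sgn_eq]
  ext b
  rw [mulVec_diagonal]
  by_cases h3 : b = a
  · subst h3; simp
  · simp [h3]

omit [Fintype F] h [Fintype ι] in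
theorem single_ind (d : i ≠ j) {t : ι → F} (ht : t j ≠ 0) (a : F) :
    a • (Pi.single i 1 : ι → F) ≠ t := fun e => ht (by rw [← e]; simp [d.symm])

theorem supp_col (hA : A ≤ EE (ζP F)) (yB : y ∈ Bk F A) (hij : A ≤ F2 (ζP F) i j) (a : ι)
    (ha : ((y : Matrix ι ι F) *ᵥ Pi.single j 1) a ≠ 0) : A ≤ F2 (ζP F) i a :=
  h.r_trans hij (r_symm ((h.mem_Bk hA).1 yB a j (by simpa using ha)))

omit [Fintype F] h in
theorem supp_single (hij : A ≤ F2 (ζP F) i j) (a : ι) (ha : (Pi.single j 1 : ι → F) a ≠ 0) :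
    A ≤ F2 (ζP F) i a := by
  by_cases h1 : a = j
  · exact h1 ▸ hij
  · exact absurd (Pi.single_eq_of_ne h1 _) ha

theorem g8 : ∀ A ≤ EE (ζP (ι := ι) F), ∀ {i j a b}, i ≠ j → a ≠ b → A ≤ F2 (ζP F) i j →
    ∀ x ∈ EE (ζP (ι := ι) F), ∀ y ∈ CS A, ∀ y' ∈ CS A, IsConj (zz (ζP F) a b) y →
    IsConj (zz (ζP F) a b) y' → y * y' = y' * y → x * (y * y') = y * y' * x →
    ∃ g ∈ CS A, g * zz (ζP F) i j * g⁻¹ ∈ Cx x ⊓ Cx (y * y') := by
  intro A hA i j a b d ab hij x hx y hy y' hy' c c' e1 e2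
  obtain ⟨Y, wY, rfl⟩ := exists_wt2 ab c
  obtain ⟨Y', wY', rfl⟩ := exists_wt2 ab c'
  obtain ⟨v, ev, rfl⟩ := h.lab.mem_E_iff.1 hx
  have cY := h.comm_of_wt2 wY' e1
  have uu : Y * Y' * (Y * Y') = 1 := by
    rw [mul_assoc, ← mul_assoc Y', ← cY, mul_assoc, h.wt2_sq wY', mul_one, h.wt2_sq wY]
  have uB := mul_mem (h.wt2_mem wY hy) (h.wt2_mem wY' hy')
  rw [← map_mul] at e2 ⊢
  generalize Y * Y' = U at uu uB e2 ⊢
  change mkP F (dz F v) * mkP F U = mkP F U * mkP F (dz F v) at e2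
  have two : IsPGroup 2 (zpowers (mkP F (dz F v) * mkP F U)) := by
    refine IsPGroup.of_card_dvd_pow (n := 1) ?_
    rw [Nat.card_zpowers]
    refine orderOf_dvd_of_pow_eq_one ?_
    rw [pow_one, sq, mul_assoc, ← mul_assoc (mkP F U), ← e2, mul_assoc, ← map_mul, uu, map_one,
      mul_one, ← map_mul, dz_sq ev, map_one]
  rw [← map_mul, ← map_mul, mk_eq_iff] at e2
  obtain ⟨c, e2⟩ := e2
  rw [Matrix.SpecialLinearGroup.coe_mul, Matrix.SpecialLinearGroup.coe_mul] at e2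
  have U2 : (U : Matrix ι ι F) * U = 1 := congrArg Subtype.val uu
  have key : ∀ k, A ≤ F2 (ζP F) i k →
      (∀ a : F, a • (Pi.single k 1 : ι → F) ≠ (U : Matrix ι ι F) *ᵥ Pi.single k 1) →
      ∃ g ∈ CS A, g * zz (ζP F) i j * g⁻¹ ∈ Cx (mkP F (dz F v)) ⊓ Cx (mkP F U) := by
    intro k ik hk
    refine h.plane2 hA d hij (dz_mem ev) uB (dz_sq ev) uu two (by simp) hk (supp_single ik)
      (h.supp_col hA uB ik) ?_ ?_ ?_ ?_
    · rw [dz_single ev]
      exact Submodule.smul_mem _ _ (Submodule.subset_span (by simp))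
    · rw [mulVec_mulVec, e2, smul_mulVec, ← mulVec_mulVec, dz_single ev, mulVec_smul]
      exact Submodule.smul_mem _ _ (Submodule.smul_mem _ _ (Submodule.subset_span (by simp)))
    · exact Submodule.subset_span (by simp)
    · rw [mulVec_mulVec, U2, one_mulVec]
      exact Submodule.subset_span (by simp)
  by_contra hn
  have hi : ∃ a : F, a • (Pi.single i 1 : ι → F) = (U : Matrix ι ι F) *ᵥ Pi.single i 1 := by
    by_contra h1; push Not at h1; exact hn (key i (r_refl hA i) h1)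
  have hj : ∃ a : F, a • (Pi.single j 1 : ι → F) = (U : Matrix ι ι F) *ᵥ Pi.single j 1 := by
    by_contra h1; push Not at h1; exact hn (key j hij h1)
  obtain ⟨α, hi⟩ := hi
  obtain ⟨β, hj⟩ := hj
  refine hn (h.plane2 hA d hij (dz_mem ev) uB (dz_sq ev) uu two (s := Pi.single i 1)
    (t := Pi.single j 1) (by simp) (single_ind d (by simp)) (supp_single (r_refl hA i))
    (supp_single hij) ?_ ?_ ?_ ?_)
  · rw [dz_single ev]; exact Submodule.smul_mem _ _ (Submodule.subset_span (by simp))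
  · rw [dz_single ev]; exact Submodule.smul_mem _ _ (Submodule.subset_span (by simp))
  · rw [← hi]; exact Submodule.smul_mem _ _ (Submodule.subset_span (by simp))
  · rw [← hj]; exact Submodule.smul_mem _ _ (Submodule.subset_span (by simp))

theorem u3 : ∀ A ≤ EE (ζP (ι := ι) F), ∀ {i j m a b}, i ≠ j → a ≠ b → A ≤ F2 (ζP F) i j →
    ¬ A ≤ F2 (ζP F) i m → ∀ y ∈ CS A, IsConj (zz (ζP F) a b) y →
    IsPGroup 2 (zpowers (zz (ζP F) i m * y)) →
    ∃ g ∈ CS A, g * zz (ζP F) i j * g⁻¹ ∈ Cx (zz (ζP F) i m) ⊓ Cx y := by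
  intro A hA i j m a b d ab hij him y hy c two
  obtain ⟨Y, wY, rfl⟩ := exists_wt2 ab c
  have yB := h.wt2_mem wY hy
  have yy := h.wt2_sq wY
  have Y2 : (Y : Matrix ι ι F) * Y = 1 := congrArg Subtype.val yy
  have ev := ev_ee i m
  have im : i ≠ m := fun e => him (e ▸ r_refl hA i)
  have key : ∀ t : ι → F, (∀ a : F, a • (Pi.single i 1 : ι → F) ≠ t) →
      (∀ a, t a ≠ 0 → A ≤ F2 (ζP F) i a) →
      (Y : Matrix ι ι F) *ᵥ Pi.single i 1 ∈ Submodule.span F {Pi.single i 1, t} →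
      (Y : Matrix ι ι F) *ᵥ t ∈ Submodule.span F {Pi.single i 1, t} →
      ∃ g ∈ CS A, g * zz (ζP F) i j * g⁻¹ ∈ Cx (zz (ζP F) i m) ⊓ Cx (mkP F Y) := by
    intro t t1 t2 t3 t4
    refine h.plane2 hA d hij (dz_mem ev) yB (dz_sq ev) yy two (by simp) t1
      (supp_single (r_refl hA i)) t2 ?_ ?_ t3 t4
    · rw [dz_single ev]; exact Submodule.smul_mem _ _ (Submodule.subset_span (by simp))
    · refine Submodule.mem_span_pair.2 ⟨-(2 * t i), 1, ?_⟩
      have tm : t m = 0 := by by_contra h1; exact him (t2 m h1)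
      rw [coe_dz ev, sgn_eq]
      ext c
      rw [mulVec_diagonal]
      by_cases h1 : c = i
      · subst h1; rw [ee_left im]; simp [sg]; ring
      · by_cases h2 : c = m
        · subst h2; simp [h1, tm]
        · rw [ee_of_ne h1 h2]; simp [sg, h1]
  by_contra hn
  have hi : ∃ a : F, a • (Pi.single i 1 : ι → F) = (Y : Matrix ι ι F) *ᵥ Pi.single i 1 := by
    by_contra h1
    push Not at h1
    refine hn (key _ h1 (h.supp_col hA yB (r_refl hA i)) (Submodule.subset_span (by simp)) ?_)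
    rw [mulVec_mulVec, Y2, one_mulVec]
    exact Submodule.subset_span (by simp)
  obtain ⟨α, hi⟩ := hi
  have fin : ∀ ε : F, ε * ε = 1 →
      (Pi.single j 1 + ε • (Y : Matrix ι ι F) *ᵥ Pi.single j 1 : ι → F) j = 0 := by
    intro ε hε
    by_contra h1
    refine hn (key _ (single_ind d h1) (fun a ha => ?_) ?_ ?_)
    · by_cases h2 : (Pi.single j 1 : ι → F) a = 0
      · refine h.supp_col hA yB hij a fun h3 => ha ?_
        rw [Pi.add_apply, Pi.smul_apply, h2, h3, smul_zero, add_zero]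
      · exact supp_single hij a h2
    · rw [← hi]; exact Submodule.smul_mem _ _ (Submodule.subset_span (by simp))
    · refine Submodule.mem_span_pair.2 ⟨0, ε, ?_⟩
      rw [mulVec_add, mulVec_smul, mulVec_mulVec, Y2, one_mulVec, zero_smul, zero_add, smul_add,
        smul_smul, hε, one_smul, add_comm]
  have f1 := fin 1 (by simp)
  have f2 := fin (-1) (by simp)
  simp only [Pi.add_apply, Pi.smul_apply, Pi.single_eq_same, smul_eq_mul] at f1 f2
  exact h.two_ne (by linear_combination f1 + f2)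

theorem pair : ∀ {i j : ι}, i ≠ j → ∀ A ≤ EE (ζP (ι := ι) F), ∀ y ∈ CS A,
    IsConj (zz (ζP F) i j) y → ∃ g ∈ CS A, g * y * g⁻¹ ∈ EE (ζP F) := by
  intro i j d A hA y hy c
  obtain ⟨Y, wY, rfl⟩ := exists_wt2 d c
  obtain ⟨g, gB, v, ev, e⟩ := h.diag hA (h.wt2_mem wY hy) (h.wt2_sq wY)
  refine ⟨mkP F g, h.mk_mem hA gB, ?_⟩
  rw [← map_inv, ← map_mul, ← map_mul, e]
  exact mem_E ev

end Ok

end CfsgLib.GHF
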