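import Mathlib
import Cfsg.Agent.Lib.GHF.GA
import Cfsg.Agent.Lib.GHF.Gen

/-! Package GC of `plans/GHF.md`: the normaliser and the centralisers of the diagonal group. -/

set_option autoImplicit false
set_option linter.unusedSectionVars false

namespace CfsgLib.GHF

open Subgroup Cfsg CfsgLib.W2 CfsgLib.Tech CfsgLib.PComp CfsgLib.Abel2 CfsgLib.L3K CfsgLib.GHD
open Matrix

variable {ι : Type} [Fintype ι] [DecidableEq ι] {F : Type*} [Field F] [Fintype F]
  {A : Subgroup (ProjectiveSpecialLinearGroup ι F)} {g x y : SpecialLinearGroup ι F}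
  {i j k l : ι} {v : ι → ZMod 2}

namespace Ok

variable (h : Ok ι F)
include h

theorem acts_of_mono (e : ∀ a b b', (g : Matrix ι ι F) a b ≠ 0 → (g : Matrix ι ι F) a b' ≠ 0 → b = b') :
    ∃ σ, Acts (ι := ι) (ζP F) (mkP F g) σ := by
  choose τ hτ using exists_row g
  have h1 : Function.Bijective τ := Finite.surjective_iff_bijective.1 fun b =>
    (exists_col g b).imp fun a k => e a _ _ (hτ a) k
  refine ⟨(Equiv.ofBijective τ h1)⁻¹, fun a b => ?_⟩
  rw [zz, zz, ζP, ζP, ← map_inv, ← map_mul, ← map_mul, mul_inv_eq_iff_eq_mul.2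
    ((h.mul_dz_iff (ev_ee _ _) (ev_ee _ _)).2 fun c d k => ?_)]
  rw [← ee_comp, inv_inv, e c d _ k (hτ c)]
  rfl

theorem shift {u : ι → ZMod 2} (hu : Ev u) (hv : Ev v) (e : mkP F g * ζP F u = ζP F v * mkP F g)
    {a b b' : ι} (h1 : (g : Matrix ι ι F) a b ≠ 0) (h2 : (g : Matrix ι ι F) a b' ≠ 0) : u b = u b' := by
  obtain ⟨c, hc⟩ := (mk_eq_iff (x := g * dz F u) (y := dz F v * g)).1 (by rw [map_mul, map_mul]; exact e)
  have key : ∀ b, (g : Matrix ι ι F) a b ≠ 0 → sg F (u b) = c * sg F (v a) := fun b k => by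
    have := congrFun (congrFun hc a) b
    simp only [Matrix.SpecialLinearGroup.coe_mul, coe_dz hv, coe_dz hu, sgn_eq, diagonal_mul, mul_diagonal,
      Matrix.smul_apply, smul_eq_mul] at this
    exact mul_left_cancel₀ k (by rw [this]; ring)
  exact sg_inj h.two_ne ((key b h1).trans (key b' h2).symm)

theorem mem_CE (e : ∀ a b, (g : Matrix ι ι F) a b ≠ 0 → a = b) : mkP F g ∈ CS (EE (ζP (ι := ι) F)) :=
  h.mk_mem le_rfl (h.mem_Bk'.2 fun v _ _ a b k => by rw [e a b k])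

theorem E_diag (hg : mkP F g ∈ CS (EE (ζP (ι := ι) F))) : (g : Matrix ι ι F).IsDiag := fun a b d => by
  by_contra k
  obtain ⟨s, hs⟩ := h.chi hg
  obtain ⟨a', h1, h2, -⟩ := h.lab.fresh a b a b
  obtain ⟨b', k'⟩ := exists_row g a'
  obtain ⟨m, m1, m2, m3, m4⟩ := h.lab.fresh a b a' b'
  have e1 := hs _ (ev_ee a' m) (mem_E (ev_ee _ _))
  have e2 := hs _ (ev_ee a m) (mem_E (ev_ee _ _))
  have e3 := e1 a b k
  have e4 := e1 a' b' k'
  rw [ee_of_ne h1.symm m1.symm, ee_of_ne h2.symm m2.symm, zero_add] at e3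
  rw [← e3, add_zero, ee_left m3.symm] at e4
  obtain rfl : b' = a' := by_contra fun k => by
    rw [ee_of_ne k m4.symm] at e4; exact absurd e4 (by decide)
  have e5 := e2 a b k
  rw [left_eq_add.1 (e2 _ _ k'), ee_left m1.symm, ee_of_ne d.symm m2.symm] at e5
  exact absurd e5 (by decide)

theorem eq_dz (hy : Wt2 F y) (e : (y : Matrix ι ι F) = sgn F v) :
    ∃ k l, k ≠ l ∧ v = ee k l ∧ y = dz F (ee k l) := by
  have h1 := h.wt2_rank hy
  rw [e, rank_sgn h.two_ne] at h1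
  obtain ⟨k, l, d, rfl⟩ := eq_ee_of_wt h1
  exact ⟨k, l, d, rfl, Subtype.ext (e.trans (coe_dz (ev_ee k l)).symm)⟩

theorem perm : ∀ g ∈ NS (EE (ζP (ι := ι) F)), ∃ σ, Acts (ι := ι) (ζP F) g σ := by
  intro g hg
  obtain ⟨g, rfl⟩ := QuotientGroup.mk'_surjective _ g
  refine h.acts_of_mono fun a b b' h1 h2 => by_contra fun d => ?_
  obtain ⟨m, m1, m2, -⟩ := h.lab.fresh b b' b b'
  obtain ⟨v, hv, e⟩ := h.lab.mem_E_iff.1 (conj_mem_of_mem_normalizer hg (zz_mem (ζP F) b m))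
  have := h.shift (ev_ee b m) hv (mul_inv_eq_iff_eq_mul.1 e.symm) h1 h2
  rw [ee_left m1.symm, ee_of_ne (Ne.symm d) m2.symm] at this
  exact absurd this (by decide)

theorem swp : ∀ {i j : ι}, i ≠ j →
    ∃ g ∈ CS (F2 (ζP F) i j), Acts (ζP F) g (Equiv.swap i j) := by
  intro i j _
  obtain ⟨g, h1, h2⟩ := h.exists_perm (F2_le (ζP F) i j) (Equiv.swap i j) fun a => by
    rw [Equiv.swap_apply_def]
    split_ifs with e1 e2
    exacts [e1 ▸ le_rfl, e2 ▸ (F2_symm _ _ _).le, F2_self (ζP F) a ▸ F2_le _ _ _]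
  exact ⟨_, h.mk_mem (F2_le _ _ _) h1, fun a b => by
    rw [zz, zz, ζP, ζP, ← h2, map_mul, map_mul, map_inv]⟩

theorem cl : ∀ {i j : ι}, i ≠ j → ∀ y ∈ CS (EE (ζP (ι := ι) F)), IsConj (zz (ζP F) i j) y →
    ∃ k l : ι, k ≠ l ∧ y = zz (ζP F) k l := by
  classical
  intro i j d y hy e
  obtain ⟨y, h1, rfl⟩ := exists_wt2 d e
  have h2 := (h.E_diag hy).diagonal_diag
  have h3 := congrArg Subtype.val (h.wt2_sq h1)
  rw [Matrix.SpecialLinearGroup.coe_mul, ← h2, diagonal_mul_diagonal] at h3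
  obtain ⟨k, l, d', -, e'⟩ := h.eq_dz h1 (v := fun a => if (y : Matrix ι ι F) a a = 1 then 0 else 1) (by
    rw [← h2, sgn_eq]
    refine congrArg _ (funext fun a => ?_)
    rw [h2]
    split_ifs with e1
    · exact e1.trans sg_zero.symm
    · rw [sg_one]
      exact (mul_self_eq_one_iff.1 (by simpa using congrFun (congrFun h3 a) a)).resolve_left e1)
  exact ⟨k, l, d', congrArg _ e'⟩

theorem ab : ∀ a ∈ CS (EE (ζP (ι := ι) F)), ∀ b ∈ CS (EE (ζP (ι := ι) F)), a * b = b * a := by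
  intro a ha b hb
  obtain ⟨a, rfl⟩ := QuotientGroup.mk'_surjective _ a
  obtain ⟨b, rfl⟩ := QuotientGroup.mk'_surjective _ b
  rw [← map_mul, ← map_mul]
  refine congrArg _ (Subtype.ext ?_)
  rw [Matrix.SpecialLinearGroup.coe_mul, Matrix.SpecialLinearGroup.coe_mul, ← (h.E_diag ha).diagonal_diag,
    ← (h.E_diag hb).diagonal_diag]
  exact (commute_diagonal _ _).eq

theorem nr : ∀ A, Hyp A (EE (ζP (ι := ι) F)) → (∀ i j, i ≠ j → A ≠ F2 (ζP F) i j) →
    CS A ≤ CS (EE (ζP (ι := ι) F)) := by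
  intro A hA hn g hg
  obtain ⟨g, rfl⟩ := QuotientGroup.mk'_surjective _ g
  by_cases h1 : ∃ a, (g : Matrix ι ι F) a a ≠ 0
  · obtain ⟨a, h1⟩ := h1
    refine h.mem_CE fun b c k => by_contra fun d => hn b c d (hA.eq_of_le (h.lab.hyp_F2 d) ?_).symm
    exact (h.mem_Bk hA.1).1 (h.mem_Bk_of_entry hA.1 hg h1 (F2_self (ζP F) a ▸ hA.1)) b c k
  exfalso
  obtain ⟨s, hs⟩ := h.chi hg
  choose β hβ using exists_row g
  obtain ⟨x, hx, h2⟩ := hA.exists_not_mem
  obtain ⟨v, hv, rfl⟩ := h.lab.mem_E_iff.1 hx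
  have key : ∀ a b, b ≠ a → b ≠ β a → v a + v (β a) ≠ v b + v (β b) := fun a b d1 d2 e => by
    obtain ⟨m, m1, m2, m3, m4⟩ := h.lab.fresh a (β a) b (β b)
    have d3 : β b ≠ b := fun k => h1 ⟨b, by simpa only [k] using hβ b⟩
    have k : ∀ u, Ev u → ζP F u ∈ A → u a + u (β a) = u b + u (β b) := fun u hu m => by
      rw [hs u hu m a _ (hβ a), hs u hu m b _ (hβ b), add_right_comm, z2_add_self,
        add_right_comm (u (β b)), z2_add_self]
    have k1 : ee b m a + ee b m (β a) ≠ ee b m b + ee b m (β b) := by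
      rw [ee_of_ne d1.symm m1.symm, ee_of_ne d2.symm m2.symm, ee_left m3.symm, ee_of_ne d3 m4.symm]
      decide
    rcases hA.mem_or (zz_mem (ζP F) b m) hx h2 with e1 | e1
    · exact k1 (k _ (ev_ee b m) e1)
    · have := k _ ((ev_ee b m).add hv) (h.lab.mul _ _ (ev_ee b m) hv ▸ e1)
      simp only [Pi.add_apply] at this
      exact k1 (by linear_combination this - e)
  obtain ⟨a⟩ := h.nonempty
  obtain ⟨b, b1, b2, -⟩ := h.lab.fresh a (β a) a a
  obtain ⟨c, c1, c2, c3, c4⟩ := h.lab.fresh a (β a) b (β b)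
  have := key a b b1 b2
  have := key a c c1 c2
  have := key b c c3 c4
  generalize v a + v (β a) = p, v b + v (β b) = q, v c + v (β c) = r at *
  revert p q r
  decide

theorem eps' (hA : A ≤ EE (ζP F)) (b : B2 (ζP F) A i j) {z : ProjectiveSpecialLinearGroup ι F}
    (hz : z ∈ CS A) : ∃ k l, B2 (ζP F) A k l ∧ z * zz (ζP F) i j * z⁻¹ = zz (ζP F) k l := by
  classical
  obtain ⟨g, rfl⟩ := QuotientGroup.mk'_surjective _ z
  obtain ⟨s, hs⟩ := h.chi hz
  have h1 := (h.le_F2_iff hA).1 b.le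
  obtain ⟨k, l, d, e1, e2⟩ := h.eq_dz (wt2_conj ⟨i, j, 1, b.ne, rfl⟩ g)
    (v := fun a => if ∀ v, Ev v → ζP F v ∈ A → v a = v i + s v then 1 else 0) (by
      rw [one_mul, inv_one, mul_one, Matrix.SpecialLinearGroup.coe_mul, Matrix.SpecialLinearGroup.coe_mul,
        coe_dz (ev_ee i j), (mul_sgn_iff h.two_ne).2 fun a c k => ?_, Matrix.mul_assoc, coe_mul_inv, Matrix.mul_one]
      split_ifs with e
      · rcases b.all c ((h.le_F2_iff hA).2 fun v hv m =>
          add_right_cancel ((e v hv m).symm.trans (hs v hv m a c k))) with rfl | rfl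
        exacts [(ee_left b.ne).symm, (ee_right b.ne).symm]
      · exact (ee_of_ne (fun e' => e fun v hv m => by rw [← e']; exact hs v hv m a c k)
          fun e' => e fun v hv m => by rw [h1 v hv m, ← e']; exact hs v hv m a c k).symm)
  have h2 : ∀ a, a = k ∨ a = l ↔ ∀ v, Ev v → ζP F v ∈ A → v a = v i + s v := fun a => by
    have := congrFun e1 a
    split_ifs at this with e
    · refine iff_of_true (by_contra fun k => ?_) e
      rw [ee_of_ne (not_or.1 k).1 (not_or.1 k).2] at this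
      exact absurd this (by decide)
    · refine iff_of_false ?_ e
      rintro (rfl | rfl)
      exacts [absurd (this.trans (ee_left d)) (by decide), absurd (this.trans (ee_right d)) (by decide)]
  refine ⟨k, l, ⟨d, (h.le_F2_iff hA).2 fun v hv m => ((h2 k).1 (.inl rfl) v hv m).trans
    ((h2 l).1 (.inr rfl) v hv m).symm, fun a e => (h2 a).2 fun v hv m =>
      ((h.le_F2_iff hA).1 e v hv m).symm.trans ((h2 k).1 (.inl rfl) v hv m)⟩, ?_⟩
  rw [zz, zz, ζP, ζP, ← e2]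
  simp

theorem eps : ∀ A ≤ EE (ζP (ι := ι) F), ∀ {i j}, B2 (ζP F) A i j → ∀ g ∈ CS A,
    ∃ k l, k ≠ l ∧ A ≤ F2 (ζP F) k l ∧ g * zz (ζP F) i j * g⁻¹ = zz (ζP F) k l := by
  intro A hA i j b g hg
  obtain ⟨k, l, b', e⟩ := h.eps' hA b hg
  exact ⟨k, l, b'.ne, b'.le, e⟩

theorem fix : ∀ A ≤ EE (ζP (ι := ι) F), A ≠ EE (ζP F) →
    ((∀ i j, i ≠ j → ¬ A ≤ F2 (ζP F) i j) ∨ ∃ i j, B2 (ζP F) A i j ∧ zz (ζP F) i j ∉ A) →
    ∃ e ∈ EE (ζP (ι := ι) F), e ∉ A ∧ ∀ g ∈ CS A, e⁻¹ * (g * e * g⁻¹) ∈ A := by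
  rintro A hA hne (h1 | ⟨i, j, b, h1⟩)
  · refine exists_fix (fun _ => h.lab.E_sq) hA (fun e => hne (le_antisymm hA e)) le_rfl
      (fun g hg => ?_) fun g hg => ?_ <;> obtain ⟨g, rfl⟩ := QuotientGroup.mk'_surjective _ g
    · obtain ⟨s, hs⟩ := h.chi hg
      obtain ⟨σ, e⟩ := h.acts_of_mono (g := g) fun a b b' k k' => by_contra fun d => h1 b b' d
        ((h.le_F2_iff hA).2 fun v hv m => add_right_cancel ((hs v hv m a b k).symm.trans (hs v hv m a b' k')))
      exact h.lab.acts_mem e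
    · rw [← map_mul]
      exact h.mem_CE fun a b k => by_contra fun d => h1 a b d ((h.mem_Bk hA).1 (h.sq_mem_Bk hA hg) a b k)
  have hV : A ⊔ closure {z | ∃ k l, B2 (ζP F) A k l ∧ z = zz (ζP F) k l} ≤ EE (ζP F) :=
    sup_le hA ((closure_le _).2 fun _ ⟨k, l, _, e⟩ => e ▸ zz_mem _ k l)
  obtain ⟨e, e1, e2⟩ := exists_fix (X := CS A) (fun _ m => h.lab.E_sq (hV m)) le_sup_left
    (fun e => h1 (e (mem_sup_right (subset_closure ⟨i, j, b, rfl⟩)))) le_rfl (fun g hg => by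
      refine mem_normalizer_of_cj_le ?_
      rw [cj_sup, mem_normalizer_iff_cj.1 (centralizer_le_normalizer _ hg), cj, MonoidHom.map_closure]
      refine sup_le_sup_left (Subgroup.closure_mono ?_) _
      rintro _ ⟨_, ⟨k, l, b', rfl⟩, rfl⟩
      exact h.eps' hA b' hg) fun g hg x hx => by
      refine mem_Cx.1 ((sup_le (fun a ha => mem_Cx.2 (mul_mem hg hg a ha)) ((closure_le _).2 ?_) : _ ≤ Cx (g * g)) hx)
      rintro _ ⟨k, l, b', rfl⟩
      obtain ⟨g, rfl⟩ := QuotientGroup.mk'_surjective _ g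
      have h2 : ∀ a, ee k l a = 1 ↔ ∀ v, Ev v → ζP F v ∈ A → v k = v a := fun a => by
        rw [← h.le_F2_iff hA]
        refine ⟨fun e => ?_, fun e => ?_⟩
        · by_cases a1 : a = k
          · rwa [a1, F2_self]
          by_cases a2 : a = l
          · exact a2 ▸ b'.le
          exact absurd (e.symm.trans (ee_of_ne a1 a2)) (by decide)
        · rcases b'.all a e with rfl | rfl
          exacts [ee_left b'.ne, ee_right b'.ne]
      refine mem_Cx.2 ?_
      rw [← map_mul, zz, ζP, ← map_mul, ← map_mul, (h.mul_dz_iff (ev_ee k l) (ev_ee k l)).2 fun a c m => ?_]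
      have h3 := h.mem_Bk'.1 (h.sq_mem_Bk hA hg)
      have h4 : ee k l a = 1 ↔ ee k l c = 1 := by
        rw [h2, h2]
        exact forall₃_congr fun v hv m' => by rw [h3 v hv m' a c m]
      revert h4
      generalize ee k l a = p, ee k l c = q
      revert p q
      decide
  exact ⟨e, hV e1, e2⟩

end Ok

end CfsgLib.GHF
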