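import Mathlib
import Cfsg.Agent.Lib.GHF.GD

/-! Package GE of `plans/GHF.md`: splitting off a block of size two. -/

set_option autoImplicit false

namespace CfsgLib.GHF

open Subgroup Cfsg CfsgLib.W2 CfsgLib.Tech CfsgLib.PComp CfsgLib.Abel2 CfsgLib.L3K CfsgLib.GHD
open Matrix Pj

variable {ι : Type} [Fintype ι] [DecidableEq ι] {F : Type*} [Field F] [Fintype F]
  {A : Subgroup (ProjectiveSpecialLinearGroup ι F)} {g x y : SpecialLinearGroup ι F}
  {i j k l : ι} {v : ι → ZMod 2}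

omit [Fintype F] in
theorem ge_comm_cres {s : Set ι} {G X : Matrix ι ι F} (c : Commute X G) (c' : Commute X (pj F s)) :
    Commute X (cres s G) :=
  (((Commute.one_right X).sub_right c').mul_right c).add_right c'

omit [Fintype F] in
theorem ge_diag (d e : ι → F) : Commute (diagonal d) (diagonal e) :=
  (diagonal_mul_diagonal _ _).trans (by
    rw [diagonal_mul_diagonal]; congr 1; funext a; exact mul_comm _ _)

omit [Fintype F] in
/-- `g` with its block on `s` replaced by a diagonal matrix -/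
theorem ge_exists {s : Set ι} (c : Commute (pj F s) g) (hk : k ∈ s) :
    ∃ (δ : F) (g' : SpecialLinearGroup ι F), g'.1 = cres s g.1 * dg k δ ∧ g' * g⁻¹ ∈ Sup F s := by
  refine ⟨(res s g.1).det, ⟨_, by
    rw [det_mul, det_dg, ← det_mul, cres_mul_res c, g.2]⟩, rfl, mem_Sup.2 ?_⟩
  have c' := comm_inv c
  change Sp s (cres s g.1 * dg k _ * (g⁻¹).1)
  refine sp_of_left (((ge_comm_cres c (Commute.refl _)).mul_right (comm_diag _)).mul_right c') ?_
  have e : (1 - pj F s) * cres s g.1 = g.1 * (1 - pj F s) := by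
    have h2 := pj_sq (F := F) (s := s)
    rw [← ((Commute.one_left _).sub_left c).eq]
    unfold cres
    generalize pj F s = P at *
    calc _ = (1 - P) * g.1 + (P * P - P) * (g.1 - 1) := by noncomm_ring
      _ = _ := by rw [h2]; simp
  rw [← mul_assoc, ← mul_assoc, e, mul_assoc g.1, (dg_sp hk _).1,
    ← ((Commute.one_left _).sub_left c).eq, mul_assoc, Pj.coe_mul_inv, mul_one]

omit [Fintype F] in
theorem ge_sgn_cres {s : Set ι} {G : Matrix ι ι F} (c : Commute (pj F s) G) (h : Sp s (sgn F v))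
    (k : ι) (δ : F) : Commute (sgn F v) (cres s G * dg k δ) := by
  have e : Commute (sgn F v) ((1 - pj F s) * G) := by
    change _ * _ = _ * _
    rw [← mul_assoc, h.2, ((Commute.one_left _).sub_left c).eq, mul_assoc, h.1]
  exact (e.add_right (comm_sgn v).symm).mul_right (ge_diag _ _)

omit [Fintype F] in
theorem ge_sgn_single {s : Set ι} (hk : k ∈ s) : Sp s (sgn F (Pi.single k 1)) :=
  sgn_sp fun a ha => Pi.single_eq_of_ne (fun e : a = k => ha (e ▸ hk)) _

omit [Fintype F] in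
theorem ge_pow (x : SpecialLinearGroup ι F) (n : ℕ) : (x ^ n).1 = x.1 ^ n :=
  Matrix.SpecialLinearGroup.coe_pow x n

omit [Fintype ι] [Fintype F] in
theorem ge_union {s t : Set ι} (d : ∀ a ∈ t, a ∉ s) : pj F (s ∪ t) = pj F s + pj F t := by
  classical
  rw [pj, pj, pj, diagonal_add]
  refine congrArg _ (funext fun a => ?_)
  by_cases h1 : a ∈ t
  · simp [h1, d a h1]
  · simp [h1]

namespace Ok

variable (h : Ok ι F)
include h

omit [Fintype F] h in
theorem ge_mem_Bk {s : Set ι} (hg : g ∈ Bk F A) {δ : F} (e : x.1 = cres s g.1 * dg k δ) :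
    x ∈ Bk F A := by
  rintro _ ⟨v, hv, hA, rfl⟩
  have c : Commute (sgn F v) g.1 := by
    rw [← coe_dz hv]; exact congrArg Subtype.val (hg _ ⟨v, hv, hA, rfl⟩)
  refine Subtype.ext ?_
  change (dz F v).1 * x.1 = x.1 * (dz F v).1
  rw [coe_dz hv, e]
  exact (ge_comm_cres c (comm_sgn v).symm).mul_right (ge_diag _ _)

theorem fac : ∀ A ≤ EE (ζP (ι := ι) F), ∀ {i j k l}, D4 i j k l → B2 (ζP F) A i j →
    B2 (ζP F) A k l → zz (ζP F) i j ∈ A → ∀ g ∈ CS A, ∃ c ∈ CS (F2 (ζP F) k l),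
      c * (g * zz (ζP F) i k * g⁻¹) * c⁻¹ ∈ CS (F2 (ζP F) i j) := by
  intro A hA i j k l d b b' hz g hg
  obtain ⟨g, rfl⟩ := gd_lift g
  have hB := h.mem_Bk_of_comm hA hg b.ne b.le (mem_Cx.2 (hg _ hz).symm)
  have c := h.gd_comm_B2 hA hB b
  have c' := h.gd_comm_B2 hA hB b'
  obtain ⟨δ, x, hx, hs⟩ := ge_exists (k := k) c' (by simp)
  have hs' : mkP F (x * g⁻¹) ∈ LP F k l := mem_map_of_mem (mkP F) hs
  refine ⟨mkP F (x * g⁻¹), h.L_le d.kl hs', ?_⟩
  have e : mkP F (x * g⁻¹) * (mkP F g * zz (ζP F) i k * (mkP F g)⁻¹) * (mkP F (x * g⁻¹))⁻¹ =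
      mkP F (x * dz F (ee i k) * x⁻¹) := by
    rw [map_mul, map_mul, map_mul, map_inv, map_inv,
      show mkP F (dz F (ee i k)) = zz (ζP F) i k from rfl]
    group
  rw [e]
  refine h.mk_mem (F2_le _ _ _) ?_
  rw [h.mem_Bk (F2_le _ _ _)]
  intro a a' ha
  have cx : Commute (pj F {i, j}) x.1 := by
    rw [hx]; exact (ge_comm_cres c (comm_pj _)).mul_right (comm_diag _)
  have ck : Commute (sgn F (Pi.single k 1)) x.1 := by
    rw [hx]; exact ge_sgn_cres c' (ge_sgn_single (by simp)) _ _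
  have e1 : sgn F (ee i k) = sgn F (Pi.single i 1) * sgn F (Pi.single k 1) := by
    rw [sgn_eq, sgn_eq, sgn_eq, diagonal_mul_diagonal]
    exact congrArg _ (funext fun a => sg_add _ _)
  have s2 : Sp {i, j} (x.1 * sgn F (Pi.single i 1) * (x⁻¹).1) :=
    (ge_sgn_single (by simp)).conj cx (Pj.coe_mul_inv x)
  replace ha : (x.1 * (dz F (ee i k)).1 * (x⁻¹).1) a a' ≠ 0 := ha
  rw [coe_dz (ev_ee i k), e1, ← mul_assoc, mul_assoc _ _ (x⁻¹).1, (comm_inv ck).eq, ← mul_assoc,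
    sgn_eq (Pi.single k 1), mul_diagonal] at ha
  rcases s2.entry (left_ne_zero_of_mul ha) with e | ⟨e | e, e' | e'⟩
  · rw [e, F2_self]; exact F2_le _ _ _
  · rw [e, e', F2_self]; exact F2_le _ _ _
  · rw [e, e']
  · rw [e, e', F2_symm]
  · rw [e, e', F2_self]; exact F2_le _ _ _

theorem split : ∀ A ≤ EE (ζP (ι := ι) F), ∀ {i j k m m'}, D3 i j k → A ≤ F3 (ζP F) i j k →
    B2 (ζP F) A m m' → zz (ζP F) m m' ∈ A → ∀ g ∈ CS A,
    IsPGroup 2 (zpowers (zz (ζP F) i m * (g * zz (ζP F) i m * g⁻¹))) →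
    ∃ t ∈ LP F m m', (∃ g' ∈ CS A, g * zz (ζP F) i m * g⁻¹ * t = g' * zz (ζP F) i m * g'⁻¹) ∧
      IsPGroup 2 (A ⊔ closure {zz (ζP F) i m, g * zz (ζP F) i m * g⁻¹, t} :
        Subgroup (ProjectiveSpecialLinearGroup ι F)) ∧
      ∀ n : ℕ, (zz (ζP F) i m * (g * zz (ζP F) i m * g⁻¹ * t)) ^ n ∈ A →
        (zz (ζP F) i m * (g * zz (ζP F) i m * g⁻¹ * t)) ^ n = 1 := by
  intro A hA i j k m m' d h3 b hz g hg h2
  obtain ⟨g, rfl⟩ := gd_lift g
  have hB := h.mem_Bk_of_comm hA hg b.ne b.le (mem_Cx.2 (hg _ hz).symm)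
  have c := h.gd_comm_B2 hA hB b
  have hij : A ≤ F2 (ζP F) i j := h3.trans inf_le_left
  have hik : A ≤ F2 (ζP F) i k := h3.trans (h.lab.F3_le _ _ _)
  have him : ¬ A ≤ F2 (ζP F) i m := fun e => by
    rw [F2_symm] at e
    have := d.ij; have := d.ik; have := d.jk
    rcases b.all i e with e1 | e1 <;> rcases b.all j (h.gd_F2_trans e hij) with e2 | e2 <;>
      rcases b.all k (h.gd_F2_trans e hik) with e3 | e3 <;> simp_all
  obtain ⟨D, hD⟩ : ∃ D, D = dz F (ee i m) := ⟨_, rfl⟩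
  have hz' : zz (ζP F) i m = mkP F D := hD ▸ rfl
  have DD : D * D = 1 := hD ▸ dz_sq (ev_ee i m)
  have cD : D.1 = sgn F (ee i m) := hD ▸ coe_dz (ev_ee i m)
  have DB : D ∈ Bk F A := hD ▸ dz_mem (ev_ee i m)
  obtain ⟨E, hE⟩ : ∃ E, E = g * D * g⁻¹ := ⟨_, rfl⟩
  have EE' : E * E = 1 := by rw [hE, conj_mul, DD]; simp
  have EB : E ∈ Bk F A := hE ▸ mul_mem (mul_mem hB DB) (inv_mem hB)
  have hE' : mkP F g * mkP F D * (mkP F g)⁻¹ = mkP F E := by simp [hE]
  rw [hz', hE'] at h2 ⊢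
  have c1 := h.gd_comm_B2 hA DB b
  have c2 := h.gd_comm_B2 hA EB b
  have dt : (res {m, m'} (E.1 * D.1)).det = 1 := by
    have e1 : res {m, m'} E.1 = g.1 * res {m, m'} D.1 * (g⁻¹).1 := by
      rw [conj_res c (Pj.coe_mul_inv g), hE]; rfl
    rw [res_mul c2, det_mul, e1, det_mul, det_mul, g.2, (g⁻¹).2, one_mul, mul_one, ← det_mul,
      ← res_mul c1, show D.1 * D.1 = 1 from congrArg Subtype.val DD, res_one, det_one]
  obtain ⟨t, ht⟩ : ∃ t : SpecialLinearGroup ι F, t.1 = res {m, m'} (E.1 * D.1) := ⟨⟨_, dt⟩, rfl⟩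
  have ts : t ∈ Sup F {m, m'} := mem_Sup.2 (ht ▸ res_sp (c2.mul_right c1))
  have tB := h.gd_sup2_le_Bk hA b.le ts
  have DD1 : D.1 * D.1 = 1 := congrArg Subtype.val DD
  have EE1 : E.1 * E.1 = 1 := congrArg Subtype.val EE'
  have Et : E.1 * t.1 = pj F {m, m'} * D.1 + (1 - pj F {m, m'}) * E.1 := by
    rw [ht, res, mul_add, ← mul_assoc, ← c2.eq, mul_assoc, ← mul_assoc E.1, EE1, one_mul,
      ((Commute.one_left _).sub_left c2).eq]
  refine ⟨mkP F t, ⟨t, ts, rfl⟩, ?_, ?_, fun n hn => ?_⟩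
  · obtain ⟨δ, x, hx, -⟩ := ge_exists (k := m) c (by simp)
    refine ⟨mkP F x, h.mk_mem hA (ge_mem_Bk hB hx), ?_⟩
    rw [eq_mul_inv_iff_mul_eq, ← map_mul, ← map_mul, ← map_mul]
    refine congrArg _ (Subtype.ext ?_)
    change E.1 * t.1 * x.1 = x.1 * D.1
    have e1 : E.1 * g.1 = g.1 * D.1 := congrArg Subtype.val (show E * g = g * D by simp [hE])
    have e2 : dg m δ * D.1 = D.1 * dg m δ := cD ▸ (ge_diag _ _).eq
    rw [hx, mul_assoc (cres _ _), e2, ← mul_assoc, ← mul_assoc, Et]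
    congr 1
    have p2 := pj_sq (F := F) (s := {m, m'})
    have a1 := c1.eq
    have a2 := c2.eq
    unfold cres
    generalize pj F {m, m'} = P at *
    calc _ = (1 - P) * (E.1 * g.1) + P * D.1 - (P * D.1 * P - P * D.1) * (g.1 - 1) -
        (1 - P) * (E.1 * P) * (g.1 - 1) := by noncomm_ring
      _ = _ := by
        rw [e1, mul_assoc P, ← a1, ← a2, ← mul_assoc P, ← mul_assoc (1 - P) P, sub_mul 1 P P, p2]
        noncomm_ring
  · have k2 := h.two_lift DD EE' h2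
    obtain ⟨r, hr⟩ := isPGroup_iff_mem.1 k2 (E * D)
      (mul_mem (subset_closure (by simp)) (subset_closure (by simp)))
    have t2 : t ^ 2 ^ r = 1 := Subtype.ext (by
      change (t ^ 2 ^ r).1 = 1
      rw [ge_pow, ht, ← res_pow (c2.mul_right c1),
        show (E.1 * D.1) ^ 2 ^ r = 1 from (ge_pow (E * D) _).symm.trans (congrArg Subtype.val hr),
        res_one])
    have ti : t⁻¹.1 = res {m, m'} (D.1 * E.1) := by
      rw [← one_mul (res _ _), ← Pj.coe_inv_mul t, mul_assoc, ht, ← res_mul (c2.mul_right c1),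
        mul_assoc E.1, ← mul_assoc D.1, DD1, one_mul, EE1, res_one, mul_one]
    have n1 : D * t * D⁻¹ = t⁻¹ := Subtype.ext (by
      change D.1 * t.1 * (D⁻¹).1 = _
      rw [ht, conj_res c1 (Pj.coe_mul_inv D), ti, mul_assoc, mul_assoc, Pj.coe_mul_inv, mul_one])
    have n2 : E * t * E⁻¹ = t⁻¹ := Subtype.ext (by
      change E.1 * t.1 * (E⁻¹).1 = _
      rw [ht, conj_res c2 (Pj.coe_mul_inv E), ti, ← mul_assoc, EE1, one_mul,
        inv_eq_of_mul_eq_one_right EE'])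
    have nn : ∀ x, x * t * x⁻¹ = t⁻¹ → x ∈ normalizer (zpowers t : Set (SpecialLinearGroup ι F)) :=
      fun x e => mem_normalizer_iff_cj.2 (by rw [cj_zpowers, e, zpowers_inv])
    have k3 : IsPGroup 2 (closure {D, E} ⊔ zpowers t : Subgroup (SpecialLinearGroup ι F)) :=
      k2.to_sup_of_normal_right' (isPGroup_zpowers_of_pow t2) ((closure_le _).2 (by
        rintro _ (rfl | rfl)
        exacts [nn _ n1, nn _ n2]))
    have k4 : (closure {D, E} ⊔ zpowers t : Subgroup (SpecialLinearGroup ι F)) ≤ Bk F A :=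
      sup_le ((closure_le _).2 (by
        rintro _ (rfl | rfl)
        exacts [DB, EB])) (zpowers_le.2 tB)
    refine ((h.lab.E_two.to_le hA).to_sup_of_normal_left' (k3.map (mkP F)) ?_).to_le
      (sup_le_sup_left ((closure_le _).2 ?_) _)
    · rintro _ ⟨x, hx, rfl⟩
      exact centralizer_le_normalizer _ (h.mk_mem hA (k4 hx))
    · rintro _ (rfl | rfl | rfl)
      exacts [⟨D, mem_sup_left (subset_closure (by simp)), rfl⟩,
        ⟨E, mem_sup_left (subset_closure (by simp)), rfl⟩, ⟨t, mem_sup_right (mem_zpowers t), rfl⟩]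
  · rw [← map_mul, ← map_mul, ← map_pow] at hn ⊢
    obtain ⟨M, hM⟩ : ∃ M, M = D * (E * t) := ⟨_, rfl⟩
    rw [← hM] at hn ⊢
    have M1 : M.1 = pj F {m, m'} + (1 - pj F {m, m'}) * (D.1 * E.1) := by
      rw [hM]
      change D.1 * (E.1 * t.1) = _
      rw [Et, mul_add, ← mul_assoc, ← c1.eq, mul_assoc, DD1, mul_one, ← mul_assoc,
        ← ((Commute.one_left _).sub_left c1).eq, mul_assoc]
    obtain ⟨B, hB'⟩ : ∃ B : Set ι, ∀ a, a ∈ B ↔ A ≤ F2 (ζP F) i a := ⟨{a | _}, fun _ => Iff.rfl⟩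
    have iB : i ∈ B := (hB' i).2 (by rwa [F2_self])
    have mB : ∀ a ∈ ({m, m'} : Set ι), a ∉ B := by
      rintro a (rfl | rfl) e
      · exact him ((hB' _).1 e)
      · exact him (h.gd_F2_trans ((hB' _).1 e) (by rw [F2_symm]; exact b.le))
    have cB := fun x (hx : x ∈ Bk F A) => h.gd_comm_block hA hx hB'
    have sM : Sp B M.1 := by
      refine sp_of_left (cB M (hM ▸ mul_mem DB (mul_mem EB tB))) ?_
      have s1 : Sp (B ∪ {m, m'}) D.1 := cD ▸ sgn_sp fun a ha =>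
        ee_of_ne (fun e => ha (.inl (e ▸ iB))) fun e => ha (.inr (by simp [e]))
      have e0 := ge_union (F := F) mB
      have s2 : Sp (B ∪ {m, m'}) E.1 := by
        rw [hE]
        exact s1.conj (e0 ▸ (cB g hB).add_left c) (Pj.coe_mul_inv g)
      have s3 := (s1.mul s2).1
      have p1 : pj F B * pj F {m, m'} = 0 := pj_mul_of_disjoint fun a ha e => mB a e ha
      rw [e0] at s3
      rw [M1]
      generalize pj F {m, m'} = P at *
      generalize pj F B = R at *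
      calc _ = P - R * P + (1 - (R + P)) * (D.1 * E.1) + R * P * (D.1 * E.1) := by noncomm_ring
        _ = _ := by rw [s3, p1]; noncomm_ring
    obtain ⟨v, hv, e⟩ := h.lab.mem_E_iff.1 (hA hn)
    obtain ⟨r, hr⟩ := mk_eq_iff.1 e.symm
    have vB : ∀ a ∈ B, v i = v a := fun a ha => (h.le_F2_iff hA).1 ((hB' a).1 ha) v hv (e ▸ hn)
    rw [coe_dz hv, ge_pow] at hr
    have fixD : ∀ u : ι → F, u i = 0 → u m = 0 → D.1 *ᵥ u = u := by
      intro u h1 h2
      ext a
      rw [cD, sgn_eq, mulVec_diagonal]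
      by_cases e1 : a = i
      · rw [e1, h1, mul_zero]
      · by_cases e2 : a = m
        · rw [e2, h2, mul_zero]
        · rw [ee_of_ne e1 e2, sg_zero, one_mul]
    obtain ⟨u, u0, u1, u2⟩ : ∃ u : ι → F, u ≠ 0 ∧ (∀ a, u a ≠ 0 → a = j ∨ a = k) ∧
        ((g⁻¹).1 *ᵥ u) i = 0 := by
      by_cases e : (g⁻¹).1 i j = 0
      · exact ⟨Pi.single j 1, by simp, fun a ha => .inl (of_not_not fun e' =>
          ha (Pi.single_eq_of_ne e' _)), by simpa using e⟩
      · refine ⟨Pi.single j ((g⁻¹).1 i k) - Pi.single k ((g⁻¹).1 i j), fun e' => e ?_,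
          fun a ha => ?_, ?_⟩
        · simpa [d.jk] using congrFun e' k
        · by_contra hn
          push Not at hn
          simp [hn.1, hn.2] at ha
        · rw [mulVec_sub, mulVec_single, mulVec_single]
          simp [mul_comm]
    have uB : ∀ a, u a ≠ 0 → a ∈ B := fun a ha => by
      rcases u1 a ha with rfl | rfl
      exacts [(hB' _).2 hij, (hB' _).2 hik]
    have f1 : D.1 *ᵥ u = u := fixD u (of_not_not fun e => (u1 i e).elim d.ij d.ik)
      (of_not_not fun e => mB m (by simp) (uB m e))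
    have f2 : E.1 *ᵥ u = u := by
      have : D.1 *ᵥ ((g⁻¹).1 *ᵥ u) = (g⁻¹).1 *ᵥ u := fixD _ u2 (by
        refine Finset.sum_eq_zero fun a _ => ?_
        by_contra e
        exact mB m (by simp) ((comm_pj_iff.1 (cB _ (inv_mem hB)) m a (left_ne_zero_of_mul e)).2
          (uB a (right_ne_zero_of_mul e))))
      rw [hE]
      change (g.1 * D.1 * (g⁻¹).1) *ᵥ u = u
      rw [← mulVec_mulVec, ← mulVec_mulVec, this, mulVec_mulVec, Pj.coe_mul_inv, one_mulVec]
    have f3 : M.1 *ᵥ u = u := by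
      rw [M1, add_mulVec, ← mulVec_mulVec, ← mulVec_mulVec, f2, f1, ← add_mulVec, add_sub_cancel,
        one_mulVec]
    have f4 : ∀ n : ℕ, (M.1 ^ n) *ᵥ u = u := fun n => by
      induction n with
      | zero => simp
      | succ n ih => rw [pow_succ, ← mulVec_mulVec, f3, ih]
    obtain ⟨a, ha⟩ := Function.ne_iff.1 u0
    have f5 := congrFun (f4 n) a
    rw [hr, smul_mulVec, sgn_eq, Pi.smul_apply, mulVec_diagonal, smul_eq_mul, ← mul_assoc,
      mul_eq_right₀ ha, ← vB a (uB a ha)] at f5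
    have : M ^ n = 1 := Subtype.ext (by
      rw [ge_pow]
      change _ = (1 : Matrix ι ι F)
      ext a b
      by_cases e : a ∈ B
      · rw [hr, sgn_eq, ← diagonal_smul, one_apply, diagonal_apply,
          Pi.smul_apply, smul_eq_mul, ← vB a e, f5]
      · exact sp_iff.1 (sM.pow n) a b (.inl e))
    rw [this, map_one]

end Ok

end CfsgLib.GHF
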