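import Mathlib
import Cfsg.Agent.Lib.GHF.GB
import Cfsg.Agent.Lib.GHF.GC
import Cfsg.Agent.Lib.GHF.GD
import Cfsg.Agent.Lib.GHF.GE

/-! The model: `PSL_n(q)` satisfies `Mod`. -/

set_option autoImplicit false

namespace CfsgLib.GHF

open Subgroup Cfsg CfsgLib.W2 CfsgLib.Tech CfsgLib.PComp CfsgLib.Abel2 CfsgLib.L3K CfsgLib.GHD

theorem Ok.mod {ι : Type} [Fintype ι] [DecidableEq ι] {F : Type*} [Field F] [Fintype F]
    (h : Ok ι F) (W : Sylow 2 (GL (Fin 2) F)) :
    Mod (ζP (ι := ι) F) (LP F) (NP F) (W : Subgroup (GL (Fin 2) F)) :=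
  { h.lab with
    perm := h.perm
    swp := h.swp
    cl := h.cl
    pair := h.pair
    ab := h.ab
    nr := h.nr
    N_le := h.N_le
    N_comm := h.N_comm
    N_res := h.N_res
    N_z := h.N_z
    N_syl := h.N_syl W
    L_le := h.L_le
    L_norm := h.L_norm
    L_cen := h.L_cen
    L_syl := h.L_syl
    eps := h.eps
    comm := h.comm
    fix := h.fix
    fac := h.fac
    g8 := h.g8
    u3 := h.u3
    split := h.split }

end CfsgLib.GHF
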