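import Mathlib
import Cfsg.Agent.Lib.GHF.CorB
import Cfsg.Agent.Lib.GHF.GBa
import Cfsg.Agent.Lib.Mathieu.Stab
import Cfsg.Agent.S1663

/-! Package N4A of `plans/GHF.md`: two invariants of the fusion system. -/

set_option autoImplicit false

namespace CfsgLib.GHF

open Subgroup Cfsg CfsgLib.W2 CfsgLib.Tech CfsgLib.PComp CfsgLib.Abel2 CfsgLib.L3K CfsgLib.GHD
open Matrix

variable {G Γ : Type*} [Group G] [Group Γ] [Finite G] [Finite Γ]

/-- an element of order 7 acts non-trivially on a 2-subgroup -/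
def Aut7 (G : Type*) [Group G] : Prop :=
  ∃ (P : Subgroup G) (g : G), IsPGroup 2 P ∧ g ∈ NS P ∧ g ^ 7 = 1 ∧ g ∉ CS P

theorem FEq.seven (h : FEq G Γ) (a : Aut7 G) : 7 ∣ Nat.card Γ := by
  obtain ⟨D, h⟩ := h
  obtain ⟨P, g, hP, hg, h7, hn⟩ := a
  obtain ⟨k, -, hk⟩ := h.syl1.exists_cj_le hP le_top
  have hg' : cj (k * g * k⁻¹) (cj k P) = cj k P := by
    rw [cj_mul, cj_mul, cj_inv_cj, mem_normalizer_iff_cj.1 hg]
  have h7' : (k * g * k⁻¹) ^ 7 = 1 := by rw [conj_pow, h7, mul_one, mul_inv_cancel]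
  obtain ⟨γ, -, -, e⟩ := h.exists_odd hk (mem_top _)
    (Nat.Coprime.coprime_dvd_left (orderOf_dvd_of_pow_eq_one h7') (by norm_num)) hg'.le
  by_contra hc
  obtain ⟨m, hm⟩ := exists_pow_eq_self_of_coprime (x := k * g * k⁻¹) (n := Nat.card Γ)
    (Nat.Coprime.coprime_dvd_right (orderOf_dvd_of_pow_eq_one h7')
      ((Nat.Prime.coprime_iff_not_dvd (by norm_num)).2 hc).symm)
  have h1 := pow_mem (pow_mem (mem_normalizer_of_cj_le e) (Nat.card Γ)) m
  rw [Prod.pow_mk, Prod.pow_mk, hm, pow_card_eq_one', one_pow] at h1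
  refine hn (mem_centralizer_iff.2 fun x hx => ?_)
  obtain ⟨y, m1⟩ := mem_p1.1 (hk (conj_mem_cj.2 hx))
  have m2 := (cj2_le.1 (mem_normalizer_iff_cj.1 h1).le _ y ⟨m1, conj_mem_cj.2 hx⟩).1
  rw [one_mul, inv_one, mul_one] at m2
  have := h.eq1 h.adm m2 m1
  have h3 : g * x * g⁻¹ = x := by
    refine (MulAut.conj k).injective ?_
    simp only [MulAut.conj_apply]
    rw [← this]; group
  rw [← mul_inv_eq_iff_eq_mul.1 h3]

omit [Finite G] [Finite Γ] in
theorem Aut7.map (a : Aut7 G) (f : G →* Γ) (hf : Function.Injective f) : Aut7 Γ := by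
  obtain ⟨P, g, hP, hg, h7, hn⟩ := a
  refine ⟨P.map f, f g, hP.map f, le_normalizer_map f (mem_map_of_mem f hg),
    by rw [← map_pow, h7, map_one], fun hc => hn (mem_centralizer_iff.2 fun x hx => hf ?_)⟩
  rw [map_mul, map_mul]
  exact mem_centralizer_iff.1 hc _ (mem_map_of_mem f hx)

namespace N4

/-- the relations of `2³:7` -/
def Rel {M : Type*} [Monoid M] (a b c g : M) : Prop :=
  a * a = 1 ∧ b * b = 1 ∧ c * c = 1 ∧ a * b = b * a ∧ a * c = c * a ∧ b * c = c * b ∧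
    g * a = b * g ∧ g * b = c * g ∧ g * c = a * b * g ∧ g ^ 7 = 1

theorem aut7_of {a b c g : G} (h : Rel a b c g) (hn : a ≠ b) : Aut7 G := by
  obtain ⟨h1, h2, h3, h4, h5, h6, h7, h8, h9, h0⟩ := h
  have hc : ∀ x ∈ ({a, b, c} : Set G), ∀ y ∈ ({a, b, c} : Set G), x * y = y * x := by
    rintro x (rfl | rfl | rfl) y (rfl | rfl | rfl) <;> simp only [*]
  have hm : ∀ x ∈ closure ({a, b, c} : Set G), ∀ y ∈ closure ({a, b, c} : Set G), x * y = y * x :=
    fun x hx y hy => congrArg Subtype.val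
      ((isMulCommutative_closure hc).1.1 (⟨x, hx⟩ : closure ({a, b, c} : Set G)) ⟨y, hy⟩)
  have ma : a ∈ closure ({a, b, c} : Set G) := subset_closure (by simp)
  have mb : b ∈ closure ({a, b, c} : Set G) := subset_closure (by simp)
  have mc : c ∈ closure ({a, b, c} : Set G) := subset_closure (by simp)
  refine ⟨closure {a, b, c}, g, isPGroup_iff_mem.2 fun x hx => ⟨1, ?_⟩,
    mem_normalizer_of_cj_le ?_, h0, fun hg => hn ?_⟩
  · rw [pow_one, pow_two]
    induction hx using closure_induction with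
    | mem x hx => rcases hx with rfl | rfl | rfl <;> assumption
    | one => exact one_mul 1
    | mul x y hx hy ex ey => rw [mul_assoc, ← mul_assoc y, hm y hy x hx, mul_assoc, ey, mul_one, ex]
    | inv x _ ex => rw [← _root_.mul_inv_rev, ex, inv_one]
  · rw [map_le_iff_le_comap, closure_le]
    rintro x (rfl | rfl | rfl)
    · change g * x * g⁻¹ ∈ Subgroup.closure _
      rwa [h7, mul_inv_cancel_right]
    · change g * x * g⁻¹ ∈ Subgroup.closure _
      rwa [h8, mul_inv_cancel_right]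
    · change g * x * g⁻¹ ∈ Subgroup.closure _
      rw [h9, mul_inv_cancel_right]
      exact mul_mem ma mb
  · exact mul_right_cancel ((mem_centralizer_iff.1 hg a ma).trans h7)

theorem aut7_sub {H : Subgroup G} {a b c g : G} (ha : a ∈ H) (hb : b ∈ H) (hc : c ∈ H) (hg : g ∈ H)
    (h : Rel a b c g) (hn : a ≠ b) : Aut7 H :=
  aut7_of (a := ⟨a, ha⟩) (b := ⟨b, hb⟩) (c := ⟨c, hc⟩) (g := ⟨g, hg⟩)
    (by simpa [Rel, Subtype.ext_iff] using h) fun e => hn (congrArg Subtype.val e)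

end N4

open N4 Equiv in
theorem aut7_a10 : Aut7 (alternatingGroup (Fin 10)) :=
  aut7_sub (a := swap 0 1 * swap 2 3 * swap 4 5 * swap 6 7)
    (b := swap 0 2 * swap 1 3 * swap 4 6 * swap 5 7) (c := swap 0 4 * swap 1 5 * swap 2 6 * swap 3 7)
    (g := swap 1 2 * swap 2 4 * swap 4 3 * swap 3 6 * swap 6 7 * swap 7 5)
    (by simp [Perm.mem_alternatingGroup]) (by simp [Perm.mem_alternatingGroup])
    (by simp [Perm.mem_alternatingGroup]) (by simp [Perm.mem_alternatingGroup])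
    (by unfold N4.Rel; decide +kernel) (by decide +kernel)

open N4 Equiv in
theorem aut7_a11 : Aut7 (alternatingGroup (Fin 11)) :=
  aut7_sub (a := swap 0 1 * swap 2 3 * swap 4 5 * swap 6 7)
    (b := swap 0 2 * swap 1 3 * swap 4 6 * swap 5 7) (c := swap 0 4 * swap 1 5 * swap 2 6 * swap 3 7)
    (g := swap 1 2 * swap 2 4 * swap 4 3 * swap 3 6 * swap 6 7 * swap 7 5)
    (by simp [Perm.mem_alternatingGroup]) (by simp [Perm.mem_alternatingGroup])
    (by simp [Perm.mem_alternatingGroup]) (by simp [Perm.mem_alternatingGroup])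
    (by unfold N4.Rel; decide +kernel) (by decide +kernel)

open CfsgLib.Mathieu in
theorem aut7_m22 (h : IsM22 G) : Aut7 G := by
  obtain ⟨e⟩ := Cfsg.Agent.S1663.result h
  obtain ⟨a, a1, a2⟩ := has_M22 (a := 984005702347506708864866426057794208) (by decide +kernel)
  obtain ⟨b, b1, b2⟩ := has_M22 (a := 984086841077038459556865618352966016) (by decide +kernel)
  obtain ⟨c, c1, c2⟩ := has_M22 (a := 975040873600017051764191340682054208) (by decide +kernel)
  obtain ⟨g, g1, g2⟩ := has_M22 (a := 966514065324315354344478565198765408) (by decide +kernel)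
  refine (N4.aut7_sub a1 b1 c1 g1 ?_ ?_).map e.symm.toMonoidHom e.symm.injective
  · simp only [N4.Rel, ← code_injective.eq_iff, code_mul, code_one, code_pow, a2, b2, c2, g2]
    decide +kernel
  · rw [Ne, ← code_injective.eq_iff, a2, b2]; decide

theorem FEq.no_two (h : FEq G Γ) {z : G} (hz : orderOf z = 2)
    (h2 : ∀ M ≤ Cx z, M.relIndex (Cx z) ≠ 2) :
    ∃ t : Γ, orderOf t = 2 ∧ ∀ M ≤ Cx t, M.relIndex (Cx t) ≠ 2 := by
  obtain ⟨D, h⟩ := h
  obtain ⟨k, -, hk⟩ := h.syl1.exists_conj_mem (mem_top z)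
    (isPGroup_zpowers_iff.2 ⟨1, by rw [hz, pow_one]⟩)
  have hz' : orderOf (k * z * k⁻¹) = 2 := by
    rw [← hz]; exact (MulAut.conj k).orderOf_eq z
  have h2' : ∀ M ≤ Cx (k * z * k⁻¹), M.relIndex (Cx (k * z * k⁻¹)) ≠ 2 := fun M hM e => by
    rw [Cx, ← cj_centralizer_singleton] at hM e
    refine h2 (cj k⁻¹ M) (cj_inv_cj k (Cx z) ▸ cj_mono k⁻¹ hM) ?_
    rw [← relIndex_cj k, cj_cj_inv, e]
  clear hz h2
  generalize k * z * k⁻¹ = z at hk hz' h2'
  obtain ⟨t, m⟩ := mem_p1.1 hk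
  have ht : orderOf t = 2 := ord_two (h.inj2 _ (by
    have := mul_mem m m
    rwa [Prod.mk_mul_mk, sq_of_ord hz'] at this)) fun e => ne_one_of_ord hz' (h.inj1 _ (e ▸ m))
  obtain ⟨D', h', -⟩ := h.loc (W := zpowers (z, t)) (Adm.of_le (zpowers_le.2 m)) le_rfl
    (le_centralizer _)
  rw [p1, p2, MonoidHom.map_zpowers, MonoidHom.map_zpowers, top_inf_eq, top_inf_eq,
    CS, CS, zpowers_eq_closure, zpowers_eq_closure, centralizer_closure, centralizer_closure] at h'
  change Cor (Cx z) (Cx t) D' at h'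
  have hr : Fusion.opRes 2 (Cx z) = Cx z := by
    rw [← Fusion.map_pResidual_eq_opRes]
    by_cases e : pResidual 2 (Cx z) = ⊤
    · rw [e, ← MonoidHom.range_eq_map, range_subtype]
    obtain ⟨M, -, hM, -⟩ := Transfer.exists_normal_index_eq_of_pResidual_ne_top e
    refine absurd ?_ (h2' _ (map_subtype_le M))
    rw [relIndex, subgroupOf, comap_map_eq_self_of_injective (subtype_injective _), hM]
  refine ⟨t, ht, fun M hM e => h'.syl2.not_dvd ?_⟩
  have h3 : p2 D' ≤ M := fun y hy => by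
    obtain ⟨x, m'⟩ := mem_p2.1 hy
    refine Fusion.opRes_le_iff.2 (fun u hu ho => ?_)
      (h'.hyp1 m' (hr.symm ▸ h'.mem1 h'.adm m'))
    obtain ⟨n, hn⟩ := exists_pow_eq_self_of_coprime ho.symm
    exact hn ▸ pow_mem (show u ^ 2 ∈ M from sq_mem_of_index_two (a := (⟨u, hu⟩ : Cx t)) e) n
  rw [← relIndex_mul_relIndex _ _ _ h3 hM, e]
  exact Dvd.intro_left _ rfl

namespace N4

local notation "M4" => Matrix (Fin 4) (Fin 4) (ZMod 5)

theorem not_two {Y : M4} (h : Y * Y = (2 : ZMod 5) • (1 : M4)) : Y.det ≠ 1 := fun hd => by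
  let e : ZMod 5 → ZMod 5 := fun a => (a • (1 : M4) - Y).det
  have key : ∀ a b r : ZMod 5, (a + b) * r = a * b + 2 → e a * e b = (a + b) ^ 4 * e r :=
    fun a b r hr => by
      have : (a • (1 : M4) - Y) * (b • (1 : M4) - Y) = (a + b) • (r • (1 : M4) - Y) := by
        simp only [mul_sub, sub_mul, smul_mul_assoc, mul_smul_comm, one_mul, mul_one, h, smul_sub,
          smul_smul, hr]
        module
      simp only [e]
      rw [← det_mul, this, det_smul, Fintype.card_fin]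
  have e0 : e 0 = 1 := by
    simp only [e]
    rw [zero_smul, zero_sub, det_neg, hd, Fintype.card_fin]; decide
  have e14 : e 1 * e 4 = 1 := by
    have : ((1 : ZMod 5) • (1 : M4) - Y) * ((4 : ZMod 5) • (1 : M4) - Y) =
        (6 : ZMod 5) • (1 : M4) - (5 : ZMod 5) • Y := by
      simp only [mul_sub, sub_mul, smul_mul_assoc, mul_smul_comm, one_mul, mul_one, h, smul_sub,
          smul_smul]
      module
    simp only [e]
    rw [← det_mul, this, show (6 : ZMod 5) = 1 from rfl, show (5 : ZMod 5) = 0 from rfl, one_smul,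
      zero_smul, sub_zero, det_one]
  have e12 := key 1 0 2 (by decide)
  have e34 := key 3 0 4 (by decide)
  have e11 := key 1 1 4 (by decide)
  rw [e0] at e12 e34
  have all : ∀ a, e a = 1 := by
    have : ∀ x y z w : ZMod 5, x * w = 1 → x * 1 = (1 + 0) ^ 4 * y → z * 1 = (3 + 0) ^ 4 * w →
        x * x = (1 + 1) ^ 4 * w → x = 1 ∧ y = 1 ∧ z = 1 ∧ w = 1 := by decide
    obtain ⟨a1, a2, a3, a4⟩ := this _ _ _ _ e14 e12 e34 e11
    intro a
    fin_cases a
    exacts [e0, a1, a2, a3, a4]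
  have h4 : Y.charpoly.natDegree = 4 := by rw [charpoly_natDegree_eq_dim, Fintype.card_fin]
  have h0 : Y.charpoly - Polynomial.C 1 = 0 :=
    Polynomial.eq_zero_of_natDegree_lt_card_of_eval_eq_zero _ Function.injective_id
      (fun a => by
        rw [Polynomial.eval_sub, eval_charpoly, Polynomial.eval_C, id, scalar_apply,
          ← smul_one_eq_diagonal]
        exact sub_eq_zero.2 (all a))
      (by rw [Polynomial.natDegree_sub_C, h4, ZMod.card]; norm_num)
  rw [sub_eq_zero.1 h0, Polynomial.natDegree_C] at h4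
  omega

theorem sgn_cases : ∀ v : Fin 4 → ZMod 2, Ev v → sgn (ZMod 5) v = (1 : ZMod 5) • (1 : M4) ∨
    sgn (ZMod 5) v = (-1 : ZMod 5) • (1 : M4) ∨
    ∃ W ∈ [(!![0, 1, 0, 0; 1, 0, 0, 0; 0, 0, 0, 1; 0, 0, 1, 0] : M4),
      !![0, 0, 1, 0; 0, 0, 0, 1; 1, 0, 0, 0; 0, 1, 0, 0]],
      W.det = 1 ∧ W * sgn (ZMod 5) v = -(sgn (ZMod 5) v * W) := by
  unfold Ev sgn
  decide +kernel

theorem exists_w {Y : M4} (h : Y * Y = 1) (hd : Y.det = 1) (hn : ∀ c : ZMod 5, Y ≠ c • (1 : M4)) :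
    ∃ W : M4, W.det = 1 ∧ W * Y = -(Y * W) := by
  obtain ⟨v, hv⟩ := GBa.exists_sign (F := ZMod 5) (by decide) Y
  have e := GBa.mul_add_sgn h v
  have h1 := GBa.det_eq_of_conj hv e
  generalize Y + sgn (ZMod 5) v = P at hv e
  have hu := isUnit_iff_ne_zero.2 hv
  have hY : Y = P * sgn (ZMod 5) v * P⁻¹ := by rw [← e, mul_nonsing_inv_cancel_right _ _ hu]
  rcases sgn_cases v (GBa.ev_of_det (F := ZMod 5) (by decide) (h1 ▸ hd)) with k | k | ⟨W, -, k1, k2⟩
  · exact absurd (by rw [hY, k, mul_smul_comm, mul_one, smul_mul_assoc, mul_nonsing_inv _ hu]) (hn _)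
  · exact absurd (by rw [hY, k, mul_smul_comm, mul_one, smul_mul_assoc, mul_nonsing_inv _ hu]) (hn _)
  · refine ⟨P * W * P⁻¹, by rw [det_mul, det_mul, k1, mul_one, ← det_mul, mul_nonsing_inv _ hu,
      det_one], ?_⟩
    rw [hY]
    simp only [Matrix.mul_assoc, nonsing_inv_mul_cancel_left _ _ hu]
    rw [← Matrix.mul_assoc W, k2, ← Matrix.mul_assoc (sgn _ v), Matrix.neg_mul, Matrix.mul_neg]

theorem anti {X : SpecialLinearGroup (Fin 4) (ZMod 5)} (h1 : X ∉ center _) (h2 : X * X ∈ center _) :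
    ∃ w : SpecialLinearGroup (Fin 4) (ZMod 5), (w : M4) * X = -(X * w) := by
  obtain ⟨c, hc, e⟩ := Matrix.SpecialLinearGroup.mem_center_iff.1 h2
  obtain ⟨u, u1, u2⟩ := (by decide : ∀ c : ZMod 5, c ^ 4 = 1 →
    ∃ u : ZMod 5, u ^ 4 = 1 ∧ (u * u * c = 1 ∨ u * u * c = 2)) c hc
  have hY : (u • (X : M4)) * (u • (X : M4)) = (u * u * c) • (1 : M4) := by
    rw [smul_mul_smul_comm, ← Matrix.SpecialLinearGroup.coe_mul, ← e, scalar_apply,
      ← smul_one_eq_diagonal, smul_smul]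
  have hd : (u • (X : M4)).det = 1 := by rw [det_smul, X.2, Fintype.card_fin, u1, one_mul]
  have hX : (X : M4) = u ^ 3 • u • (X : M4) := by rw [smul_smul, ← pow_succ, u1, one_smul]
  rcases u2 with u2 | u2 <;> rw [u2] at hY
  · obtain ⟨W, k1, k2⟩ := exists_w (hY.trans (one_smul _ _)) hd fun r hr => h1 (mem_center_iff.2
      fun g => Subtype.ext (by
        rw [Matrix.SpecialLinearGroup.coe_mul, Matrix.SpecialLinearGroup.coe_mul, hX, hr]
        simp only [mul_smul_comm, smul_mul_assoc, mul_one, one_mul]))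
    exact ⟨⟨W, k1⟩, by rw [hX, mul_smul_comm, k2, smul_neg, smul_mul_assoc (u ^ 3)]⟩
  · exact absurd hd (not_two hY)

end N4

theorem psl45_two {t : ProjectiveSpecialLinearGroup (Fin 4) (ZMod 5)} (ht : orderOf t = 2) :
    ∃ M ≤ Cx t, M.relIndex (Cx t) = 2 := by
  obtain ⟨X, rfl⟩ := QuotientGroup.mk'_surjective _ t
  have h2 : X * X ∈ center _ := (QuotientGroup.eq_one_iff _).1 (sq_of_ord ht)
  obtain ⟨w, hw⟩ := N4.anti (fun h => ne_one_of_ord ht ((QuotientGroup.eq_one_iff X).2 h)) h2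
  obtain ⟨z, z1⟩ : ∃ z : SpecialLinearGroup (Fin 4) (ZMod 5), z.1 = -1 :=
    ⟨⟨-1, by decide +kernel⟩, rfl⟩
  have hz : z ∈ center _ := mem_center_iff.2 fun g => Subtype.ext (by simp [z1])
  have zz : z * z = 1 := Subtype.ext (by simp [z1])
  have hw' : w * X = z * (X * w) := Subtype.ext (by simp [z1, hw])
  have hM : ∀ b, mkP (ZMod 5) b ∈ (Cx X).map (mkP (ZMod 5)) ↔ b ∈ Cx X := fun b =>
    ⟨fun ⟨b', h1, h3⟩ => by
      simpa using mul_mem h1 (center_le_centralizer _ (QuotientGroup.eq.1 h3)),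
      mem_map_of_mem _⟩
  refine ⟨(Cx X).map (mkP (ZMod 5)), ?_, relIndex_eq_two_iff_exists_notMem_and.2
    ⟨mkP (ZMod 5) w, mem_Cx.2 ?_, fun h => ?_, fun b hb => ?_⟩⟩
  · rintro _ ⟨b, hb, rfl⟩
    exact mem_Cx.2 (by rw [← map_mul, ← map_mul, mem_Cx.1 hb])
  · rw [← map_mul, ← map_mul, hw', map_mul, show mkP (ZMod 5) z = 1 from
      (QuotientGroup.eq_one_iff z).2 hz, one_mul]
  · rw [mem_Cx.1 ((hM w).1 h), eq_comm, mul_eq_right] at hw'
    exact absurd (z1.symm.trans (congrArg Subtype.val hw')) (by decide +kernel)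
  · obtain ⟨y, rfl⟩ := QuotientGroup.mk'_surjective _ b
    have h3 : (X * y)⁻¹ * (y * X) ∈ center _ := QuotientGroup.eq.1 (mem_Cx.1 hb).symm
    generalize hs : (X * y)⁻¹ * (y * X) = s at h3
    have h4 : y * X = s * (X * y) := by rw [← mem_center_iff.1 h3, ← hs]; group
    have h5 : s * s = 1 := by
      have := mem_center_iff.1 h2 y
      rw [← mul_assoc, h4, mul_assoc, mul_assoc, h4, ← mul_assoc X, mem_center_iff.1 h3 X,
        mul_assoc s, ← mul_assoc s, ← mul_assoc X, mul_eq_right] at this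
      exact this
    obtain ⟨r, -, hr⟩ := Matrix.SpecialLinearGroup.mem_center_iff.1 h3
    have h6 : r * r = 1 := by
      have := congrArg (fun g : SpecialLinearGroup (Fin 4) (ZMod 5) => g.1 0 0) h5
      simpa [← hr] using this
    rcases mul_self_eq_one_iff.1 h6 with rfl | rfl
    · right
      have : s = 1 := Subtype.ext (by rw [← hr]; simp)
      exact (hM y).2 (mem_Cx.2 (by rw [h4, this, one_mul]))
    · left
      have : s = z := Subtype.ext (by rw [← hr, z1, map_neg, map_one])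
      rw [← map_mul]
      refine (hM _).2 (mem_Cx.2 ?_)
      rw [mul_assoc, hw', ← mul_assoc, mem_center_iff.1 hz y, mul_assoc, ← mul_assoc y, h4, this,
        ← mul_assoc, ← mul_assoc, zz, one_mul, mul_assoc]

end CfsgLib.GHF
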